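/-
The induction hypothesis of REG: in a proper subgroup with two commuting involutions moving the point,
2-elements centralising the involutions at the point are transitive on the other points of the orbit,
whose number is a power of two (notes/bender_reg_h7.md).
-/
import Cfsg.Agent.BenderSE.Dependents.Frame

set_option autoImplicit false
set_option linter.unusedSectionVars false
set_option linter.style.haveILetI false

namespace Cfsg.Lib.BenderSE

open Subgroup MulAction Cfsg.Lib.InvolCalc Cfsg.Lib.StrongEmb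

universe u

variable {G : Type u} [Group G] [Finite G] {H : Subgroup G}

/-- REG in the simple groups of order less than `n` -/
def RegBelow (n : ℕ) : Prop :=
  ∀ (S : Type u) [Group S] [Finite S], IsSimpleGroup S → Nat.card S < n →
    ∀ K : Subgroup S, Cfsg.IsStronglyEmbedded K → HasCommutingInvolutions S → HasRegular K

/-- THE INDUCTION HYPOTHESIS in a proper subgroup -/
theorem exists_two_move (hH : Cfsg.IsStronglyEmbedded H) (reg : RegBelow.{u} (Nat.card G))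
    (hcomm : ∀ i ∈ H, ∀ j ∈ H, orderOf i = 2 → orderOf j = 2 → i * j = j * i)
    {M : Subgroup G} (hM : M ≠ ⊤) (hSE : Cfsg.IsStronglyEmbedded (H.subgroupOf M))
    (h2 : HasCommutingInvolutions M) :
    ∃ S : Subgroup G, S ≤ M ⊓ H ∧ IsPGroup 2 S ∧
      (∀ x ∈ S, ∀ i ∈ M ⊓ H, orderOf i = 2 → x * i = i * x) ∧
      (∀ m₁ ∈ M, ∀ m₂ ∈ M, m₁ ∉ H → m₂ ∉ H → ∃ c ∈ S, m₂⁻¹ * (c * m₁) ∈ H) ∧
    ∃ k : ℕ, Nat.card {y : G ⧸ H //
      (∃ m ∈ M, m • (QuotientGroup.mk 1 : G ⧸ H) = y) ∧ y ≠ QuotientGroup.mk 1} = 2 ^ k := by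
  classical
  set K := H.subgroupOf M with hK
  set π := QuotientGroup.mk' K.normalCore with hπ
  have hπs : Function.Surjective π := QuotientGroup.mk'_surjective _
  have hcard : Nat.card M < Nat.card G :=
    lt_of_le_of_ne (Subgroup.card_le_card_group M) fun e => hM ((Subgroup.card_eq_iff_eq_top M).1 e)
  obtain ⟨L, Q, F⟩ := exists_frame_of (fun L hL K' hK' h' => reg L hL
    ((Subgroup.card_le_card_group L).trans_lt
      ((Nat.card_le_card_of_surjective π hπs).trans_lt hcard)) K' hK' h')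
    (setting_quotient hSE h2)
  obtain ⟨kk, e, -, -, hQc, -⟩ := F.qcard
  haveI : Fact (Nat.Prime 2) := ⟨Nat.prime_two⟩
  obtain ⟨T⟩ : Nonempty (Sylow 2 (Q.comap π)) := inferInstance
  set S₀ : Subgroup M := (T : Subgroup (Q.comap π)).map (Q.comap π).subtype with hS₀
  have hSQ : ∀ z ∈ S₀, π z ∈ Q := fun z hz => mem_comap.1 (map_subtype_le _ hz)
  have hSK : ∀ z ∈ S₀, z ∈ K := fun z hz => mem_map_core_iff.1 (F.qle (hSQ z hz))
  have hSsurj : ∀ u ∈ Q, ∃ z ∈ S₀, π z = u := by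
    intro u hu
    have hfs : Function.Surjective ((π.comp (Q.comap π).subtype).codRestrict Q fun z => z.2) := by
      rintro ⟨w, hw⟩
      obtain ⟨z, rfl⟩ := hπs w
      exact ⟨⟨z, hw⟩, rfl⟩
    have hTs := T.mapSurjective hfs
    have htop : ((T.mapSurjective hfs : Sylow 2 Q) : Subgroup Q) = ⊤ :=
      ((T.mapSurjective hfs).is_maximal' (IsPGroup.to_subgroup F.q2 ⊤) le_top).symm
    have h1 : (⟨u, hu⟩ : Q) ∈ ((T.mapSurjective hfs : Sylow 2 Q) : Subgroup Q) := by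
      rw [htop]; exact mem_top _
    rw [Sylow.coe_mapSurjective] at h1
    obtain ⟨w, hw, hwu⟩ := h1
    exact ⟨w, ⟨w, hw, rfl⟩, congrArg Subtype.val hwu⟩
  have hlift : ∀ z ∈ S₀, ∀ i ∈ M ⊓ H, orderOf i = 2 → (z : G) * i = i * z := by
    intro z hz i hi hi2
    obtain ⟨hzK, hu⟩ : z ∈ K ∧ π z ∈ Q := ⟨hSK z hz, hSQ z hz⟩
    set i' : M := ⟨i, (mem_inf.1 hi).1⟩
    have hi'2 : orderOf i' = 2 := (Subgroup.orderOf_mk _ _).trans hi2
    have hiK : i' ∈ K := mem_subgroupOf.2 (mem_inf.1 hi).2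
    have hcj : orderOf (z * i' * z⁻¹) = 2 := by rw [orderOf_conj', hi'2]
    have hcjH : ((z * i' * z⁻¹ : M) : G) ∈ H :=
      mem_subgroupOf.1 (mul_mem (mul_mem hzK hiK) (inv_mem hzK))
    have hcjG : orderOf ((z * i' * z⁻¹ : M) : G) = 2 := by rw [Subgroup.orderOf_coe, hcj]
    obtain ⟨hiQ, hcen⟩ := F.qinvol (π i') (involution_quotient hSE hi'2) (mem_map_of_mem π hiK)
    have h1 : z * i' * z⁻¹ * i'⁻¹ ∈ K.normalCore := by
      rw [← QuotientGroup.eq_one_iff]
      show π (z * i' * z⁻¹ * i'⁻¹) = 1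
      rw [map_mul, map_mul, map_mul, map_inv, map_inv, ← hcen _ hu, mul_inv_cancel_right,
        mul_inv_cancel]
    have h2' : (z * i' * z⁻¹ * i'⁻¹) * (z * i' * z⁻¹ * i'⁻¹) = 1 := by
      apply Subtype.ext
      have e1 := sq_of_order_two hcjG
      have e2 := sq_of_order_two hi2
      have e3 := hcomm _ hcjH i (mem_inf.1 hi).2 hcjG hi2
      push_cast at e1 e3 ⊢
      rw [inv_of_order_two hi2]
      set w := (z : G) * i * (z : G)⁻¹
      rw [show w * i * (w * i) = w * (i * w) * i by group, ← e3,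
        show w * (w * i) * i = w * w * (i * i) by group, e1, e2, one_mul]
    have h3 : z * i' * z⁻¹ * i'⁻¹ = 1 := by
      have h4 := mem_of_sq_mem (N := ⊥) (odd_normalCore hSE) h1 (by rw [h2']; exact one_mem _)
      exact mem_bot.1 h4
    have h5 := congrArg Subtype.val h3
    push_cast at h5
    rwa [mul_inv_eq_one, mul_inv_eq_iff_eq_mul] at h5
  set S := S₀.map M.subtype with hS
  have hSle : S ≤ M ⊓ H := by
    rintro _ ⟨z, hz, rfl⟩
    exact mem_inf.2 ⟨z.2, mem_subgroupOf.1 (hSK z hz)⟩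
  refine ⟨S, hSle, (T.isPGroup'.map _).map _, ?_, ?_, kk * e, ?_⟩
  · rintro _ ⟨z, hz, rfl⟩ i hi hi2
    exact hlift z hz i hi hi2
  · intro m₁ hm₁ m₂ hm₂ h₁ h₂
    obtain ⟨u, hu, h⟩ := F.trans (π ⟨m₁, hm₁⟩) (π ⟨m₂, hm₂⟩)
      (fun h => h₁ (mem_subgroupOf.1 (mem_map_core_iff.1 h)))
      (fun h => h₂ (mem_subgroupOf.1 (mem_map_core_iff.1 h)))
    obtain ⟨z, hz, hzu⟩ := hSsurj u hu
    refine ⟨z, ⟨z, hz, rfl⟩, ?_⟩
    rw [← hzu, ← map_inv, ← map_mul, ← map_mul] at h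
    exact mem_subgroupOf.1 (mem_map_core_iff.1 h)
  obtain ⟨a, haK⟩ : ∃ a : M, a ∉ K := by
    by_contra h
    push Not at h
    exact hSE.1 ((Subgroup.eq_top_iff' K).2 h)
  choose c' hc' hcu' using hSsurj
  let c : ∀ u, u ∈ Q → G := fun u hu => (c' u hu : G)
  have hcM : ∀ u (hu : u ∈ Q), c u hu ∈ M := fun u hu => (c' u hu).2
  have hc : ∀ u (hu : u ∈ Q), c u hu ∈ M ⊓ H := fun u hu =>
    mem_inf.2 ⟨hcM u hu, mem_subgroupOf.1 (hSK _ (hc' u hu))⟩
  have hcu : ∀ u (hu : u ∈ Q), π ⟨c u hu, hcM u hu⟩ = u := hcu'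
  have hmk : ∀ g : G, g • (QuotientGroup.mk 1 : G ⧸ H) = QuotientGroup.mk g := fun g => by
    rw [MulAction.Quotient.smul_mk, smul_eq_mul, mul_one]
  have hne : ∀ g : G, (QuotientGroup.mk g : G ⧸ H) = QuotientGroup.mk 1 ↔ g ∈ H := fun g => by
    rw [QuotientGroup.eq, mul_one, inv_mem_iff]
  let f : Q → {y : G ⧸ H //
      (∃ m ∈ M, m • (QuotientGroup.mk 1 : G ⧸ H) = y) ∧ y ≠ QuotientGroup.mk 1} := fun u =>
    ⟨QuotientGroup.mk (c u u.2 * (a : G)), ⟨_, mul_mem (hcM u u.2) a.2, hmk _⟩, fun e => haK (by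
      have h1 := (hne _).1 e
      exact mem_subgroupOf.2 (by simpa using mul_mem (inv_mem (mem_inf.1 (hc u u.2)).2) h1))⟩
  have hf : Function.Bijective f := by
    refine ⟨fun u v huv => ?_, ?_⟩
    · have h1 : (QuotientGroup.mk (c u u.2 * (a : G)) : G ⧸ H) = QuotientGroup.mk (c v v.2 * (a : G)) :=
        congrArg Subtype.val huv
      rw [QuotientGroup.eq, mul_inv_rev, mul_assoc] at h1
      have h2 : (π a)⁻¹ * ((π ⟨c u u.2, hcM u u.2⟩)⁻¹ * π ⟨c v v.2, hcM v v.2⟩ * π a) ∈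
          K.map π := by
        rw [← map_inv, ← map_inv, ← map_mul, ← map_mul, ← map_mul]
        refine mem_map_of_mem π (mem_subgroupOf.2 ?_)
        push_cast
        rwa [← mul_assoc ((c u u.2)⁻¹)] at h1
      rw [hcu, hcu] at h2
      have h3 := F.reg (π a) (fun h => haK (mem_map_core_iff.1 h)) _
        (mul_mem (inv_mem u.2) v.2) h2
      exact Subtype.ext (inv_mul_eq_one.1 h3)
    · rintro ⟨y, ⟨m, hm, rfl⟩, hy⟩
      have hmH : m ∉ H := fun h => hy (by rw [hmk]; exact (hne m).2 h)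
      obtain ⟨u, hu, h⟩ := F.trans (π a) (π ⟨m, hm⟩) (fun h => haK (mem_map_core_iff.1 h))
        (fun h => hmH (mem_subgroupOf.1 (mem_map_core_iff.1 h)))
      refine ⟨⟨u, hu⟩, Subtype.ext ?_⟩
      show (QuotientGroup.mk (c u hu * (a : G)) : G ⧸ H) = m • QuotientGroup.mk 1
      rw [hmk, eq_comm, QuotientGroup.eq]
      rw [← hcu u hu, ← map_inv, ← map_mul, ← map_mul] at h
      exact mem_subgroupOf.1 (mem_map_core_iff.1 h)
  rw [← Nat.card_eq_of_bijective f hf, hQc, pow_mul]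

end Cfsg.Lib.BenderSE
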