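/-
The induction fact `CentreTwo` from REG in the smaller simple groups.
-/
import Cfsg.Agent.BenderSE.Reg.Below
import Cfsg.Agent.BenderSE.RegStructure

set_option autoImplicit false
set_option linter.unusedSectionVars false
set_option linter.style.haveILetI false

namespace Cfsg.Lib.BenderSE

open Subgroup MulAction Cfsg.Lib.InvolCalc Cfsg.Lib.StrongEmb

universe u

variable {G : Type u} [Group G] [Finite G] {H : Subgroup G}

theorem stabilizer_mk_one : stabilizer G (QuotientGroup.mk 1 : G ⧸ H) = H :=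
  MulAction.stabilizer_quotient H

/-- the involutions of `H` commute -/
theorem CommAt.commute_of_mem (hC : CommAt H) {i j : G} (hi : i ∈ H) (hj : j ∈ H)
    (hi2 : orderOf i = 2) (hj2 : orderOf j = 2) : i * j = j * i :=
  (hC (QuotientGroup.mk 1) i j hi2 hj2 (mem_stabilizer_iff.1 (by rw [stabilizer_mk_one]; exact hi))
    (mem_stabilizer_iff.1 (by rw [stabilizer_mk_one]; exact hj))).eq

/-- a subgroup moving a point and containing an involution fixing it has a strongly embedded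
point stabiliser -/
theorem isStronglyEmbedded_subgroupOf (hH : Cfsg.IsStronglyEmbedded H) {M : Subgroup G}
    (hmove : ¬ M ≤ H) {i : G} (hi : orderOf i = 2) (hiM : i ∈ M) (hiH : i ∈ H) :
    Cfsg.IsStronglyEmbedded (H.subgroupOf M) := by
  refine ⟨fun h => hmove (subgroupOf_eq_top.1 h), ?_, fun g hg => ?_⟩
  · refine even_iff_two_dvd.2 ?_
    rw [← hi, ← Subgroup.orderOf_mk i hiM]
    exact Subgroup.orderOf_dvd_natCard _ (mem_subgroupOf.2 hiH)
  · rw [← card_map_of_injective M.subtype_injective]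
    refine (hH.2.2 (g : G) fun h => hg (mem_subgroupOf.2 h)).of_dvd_nat (card_dvd_of_le ?_)
    rintro _ ⟨x, hx, rfl⟩
    obtain ⟨hxH, y, hy, hyx⟩ := mem_inf.1 hx
    refine mem_inf.2 ⟨mem_subgroupOf.1 hxH, y, mem_subgroupOf.1 hy, ?_⟩
    rw [← hyx]
    rfl

/-- THE INDUCTION FACT at every point, with the number of the other points -/
theorem exists_two_transitive (hH : Cfsg.IsStronglyEmbedded H) (reg : RegBelow.{u} (Nat.card G))
    (hC : CommAt H) {N : Subgroup G} (hN : N ≠ ⊤) {u v : G} (hu : u ∈ N) (hv : v ∈ N)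
    (hu2 : orderOf u = 2) (hv2 : orderOf v = 2) (huv : u ≠ v) (huvc : Commute u v)
    {c : G ⧸ H} {i : G} (hi : i ∈ N) (hi2 : orderOf i = 2) (hic : i • c = c)
    (hmove : ¬ N ≤ stabilizer G c) :
    ∃ S : Subgroup G, S ≤ N ⊓ stabilizer G c ∧ IsPGroup 2 S ∧
      (∀ s ∈ S, ∀ j ∈ N, orderOf j = 2 → j • c = c → Commute s j) ∧
      (∀ x ∈ orbit N c, ∀ y ∈ orbit N c, x ≠ c → y ≠ c → ∃ s ∈ S, s • x = y) ∧
      ∃ k : ℕ, Nat.card {y : G ⧸ H // y ∈ orbit N c ∧ y ≠ c} = 2 ^ k := by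
  obtain ⟨g, rfl⟩ := MulAction.exists_smul_eq G (QuotientGroup.mk 1 : G ⧸ H) c
  set o : G ⧸ H := QuotientGroup.mk 1 with ho
  set N' := N.map (MulAut.conj g⁻¹).toMonoidHom with hN'
  have hmem : ∀ x : G, x ∈ N' ↔ g * x * g⁻¹ ∈ N := fun x => by
    constructor
    · rintro ⟨y, hy, rfl⟩
      simpa [mul_assoc] using hy
    · exact fun hx => ⟨g * x * g⁻¹, hx, by simp [mul_assoc]⟩
  have hfix : ∀ x : G, x ∈ H ↔ (g * x * g⁻¹) • g • o = g • o := fun x => by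
    rw [mul_smul, mul_smul, inv_smul_smul, smul_left_cancel_iff]
    exact (smul_mk_one_iff (H := H)).symm
  have hconj : ∀ x : G, g * (g⁻¹ * x * g) * g⁻¹ = x := fun x => by group
  have hiH : g⁻¹ * i * g ∈ H := (hfix _).2 (by rw [hconj]; exact hic)
  have hi'2 : orderOf (g⁻¹ * i * g) = 2 := by
    have := orderOf_conj' g⁻¹ i
    rw [inv_inv] at this
    rw [this, hi2]
  have hnotH : ¬ N' ≤ H := by
    intro hle
    refine hmove fun x hx => ?_
    have h1 := (hfix _).1 (hle ((hmem (g⁻¹ * x * g)).2 (by rwa [hconj])))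
    rw [hconj] at h1
    exact h1
  have hSE := isStronglyEmbedded_subgroupOf hH hnotH hi'2 ((hmem _).2 (by rwa [hconj])) hiH
  have hN'top : N' ≠ ⊤ := fun h => hN (eq_top_iff.2 fun x _ => by
    have := (hmem (g⁻¹ * x * g)).1 (h ▸ mem_top _)
    rwa [hconj] at this)
  have h2 : HasCommutingInvolutions N' := by
    refine ⟨⟨g⁻¹ * u * g, (hmem _).2 (by rwa [hconj])⟩, ⟨g⁻¹ * v * g, (hmem _).2 (by rwa [hconj])⟩,
      ?_, ?_, fun h => huv ?_, Subtype.ext ?_⟩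
    · rw [Subgroup.orderOf_mk, show g⁻¹ * u * g = g⁻¹ * u * g⁻¹⁻¹ by rw [inv_inv], orderOf_conj', hu2]
    · rw [Subgroup.orderOf_mk, show g⁻¹ * v * g = g⁻¹ * v * g⁻¹⁻¹ by rw [inv_inv], orderOf_conj', hv2]
    · simpa using congrArg Subtype.val h
    · show g⁻¹ * u * g * (g⁻¹ * v * g) = g⁻¹ * v * g * (g⁻¹ * u * g)
      calc g⁻¹ * u * g * (g⁻¹ * v * g) = g⁻¹ * (u * v) * g := by group
        _ = g⁻¹ * (v * u) * g := by rw [huvc.eq]
        _ = _ := by group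
  obtain ⟨S', hS'le, hS'2, hS'c, hS't, k, hk⟩ := exists_two_move hH reg
    (fun a ha b hb ha2 hb2 => hC.commute_of_mem ha hb ha2 hb2) hN'top hSE h2
  refine ⟨S'.map (MulAut.conj g).toMonoidHom, ?_, hS'2.map _, ?_, ?_, k, ?_⟩
  · rintro _ ⟨s, hs, rfl⟩
    obtain ⟨hsN, hsH⟩ := mem_inf.1 (hS'le hs)
    exact mem_inf.2 ⟨(hmem s).1 hsN, (hfix s).1 hsH⟩
  · rintro _ ⟨s, hs, rfl⟩ j hj hj2 hjc
    have h1 := hS'c s hs (g⁻¹ * j * g)
      (mem_inf.2 ⟨(hmem _).2 (by rwa [hconj]), (hfix _).2 (by rwa [hconj])⟩) (by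
        rw [show g⁻¹ * j * g = g⁻¹ * j * g⁻¹⁻¹ by rw [inv_inv], orderOf_conj', hj2])
    show g * s * g⁻¹ * j = j * (g * s * g⁻¹)
    calc g * s * g⁻¹ * j = g * (s * (g⁻¹ * j * g)) * g⁻¹ := by group
      _ = g * (g⁻¹ * j * g * s) * g⁻¹ := by rw [h1]
      _ = j * (g * s * g⁻¹) := by group
  · rintro _ ⟨⟨n₁, hn₁⟩, rfl⟩ _ ⟨⟨n₂, hn₂⟩, rfl⟩ hx hy
    have hout : ∀ n : G, n • g • o ≠ g • o → g⁻¹ * n * g ∉ H := fun n hn h => hn (by
      have h1 := (hfix _).1 h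
      rwa [hconj] at h1)
    obtain ⟨s, hs, hsm⟩ := hS't _ ((hmem (g⁻¹ * n₁ * g)).2 (by rwa [hconj])) _
      ((hmem (g⁻¹ * n₂ * g)).2 (by rwa [hconj])) (hout n₁ hx) (hout n₂ hy)
    refine ⟨g * s * g⁻¹, ⟨s, hs, rfl⟩, ?_⟩
    show (g * s * g⁻¹) • n₁ • g • o = n₂ • g • o
    have h1 : ((g⁻¹ * n₂ * g)⁻¹ * (s * (g⁻¹ * n₁ * g))) • o = o := (smul_mk_one_iff (H := H)).2 hsm
    rw [mul_smul, inv_smul_eq_iff] at h1
    calc (g * s * g⁻¹) • n₁ • g • o = g • (s * (g⁻¹ * n₁ * g)) • o := by simp [smul_smul, mul_assoc]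
      _ = g • (g⁻¹ * n₂ * g) • o := by rw [h1]
      _ = n₂ • g • o := by simp [smul_smul, mul_assoc]
  · rw [← hk]
    refine Nat.card_congr ((MulAction.toPerm g⁻¹).subtypeEquiv fun y => ?_)
    simp only [MulAction.toPerm_apply]
    refine and_congr ⟨?_, ?_⟩ (not_congr ⟨fun h => ?_, fun h => ?_⟩)
    · rintro ⟨⟨n, hn⟩, rfl⟩
      refine ⟨g⁻¹ * n * g, (hmem _).2 (by rwa [hconj]), ?_⟩
      show (g⁻¹ * n * g) • o = g⁻¹ • n • g • o
      simp [smul_smul, mul_assoc]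
    · rintro ⟨n, hn, he⟩
      refine ⟨⟨g * n * g⁻¹, (hmem n).1 hn⟩, ?_⟩
      show (g * n * g⁻¹) • g • o = y
      rw [mul_smul, mul_smul, inv_smul_smul, he, smul_inv_smul]
    · rw [h, inv_smul_smul]
    · rw [← smul_inv_smul g y, h]

/-- `CentreTwo` from REG below -/
theorem centreTwo_of_regBelow (hH : Cfsg.IsStronglyEmbedded H) (reg : RegBelow.{u} (Nat.card G))
    (hC : CommAt H) : CentreTwo H := by
  rintro N hN ⟨u, hu, v, hv, hu2, hv2, huv, huvc⟩ c i hi hi2 hic hmove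
  obtain ⟨S, h1, h2, h3, h4, -⟩ :=
    exists_two_transitive hH reg hC hN hu hv hu2 hv2 huv huvc hi hi2 hic hmove
  exact ⟨S, h1, h2, h3, h4⟩

end Cfsg.Lib.BenderSE
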