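/-
The induction hypothesis of REG in a proper subgroup, without the commutativity of the involutions at
a point (needed inside the proof of that commutativity, notes/bender_caseplus_h8.md).
-/
import Cfsg.Agent.BenderSE.Reg.CentreTwo

set_option autoImplicit false
set_option linter.unusedSectionVars false
set_option linter.style.haveILetI false

namespace Cfsg.Lib.BenderSE

open Subgroup MulAction Cfsg.Lib.InvolCalc Cfsg.Lib.StrongEmb

universe u

variable {G : Type u} [Group G] [Finite G] {H : Subgroup G}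

/-- the induction hypothesis in a proper subgroup, without commuting involutions -/
theorem exists_two_move_weak (hH : Cfsg.IsStronglyEmbedded H) (reg : RegBelow.{u} (Nat.card G))
    {M : Subgroup G} (hM : M ≠ ⊤) (hSE : Cfsg.IsStronglyEmbedded (H.subgroupOf M))
    (h2 : HasCommutingInvolutions M) :
    ∃ S : Subgroup G, S ≤ M ⊓ H ∧ IsPGroup 2 S ∧
      (∀ m₁ ∈ M, ∀ m₂ ∈ M, m₁ ∉ H → m₂ ∉ H → ∃ c ∈ S, m₂⁻¹ * (c * m₁) ∈ H) ∧
    ∃ k : ℕ, Nat.card {y : G ⧸ H //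
      (∃ m ∈ M, m • (QuotientGroup.mk 1 : G ⧸ H) = y) ∧ y ≠ QuotientGroup.mk 1} = 2 ^ k := by
  classical
  set K := H.subgroupOf M with hK
  set π := QuotientGroup.mk' K.normalCore with hπ
  have hπs : Function.Surjective π := QuotientGroup.mk'_surjective _
  have hcard : Nat.card M < Nat.card G :=
    lt_of_le_of_ne (Subgroup.card_le_card_group M) fun e => hM ((Subgroup.card_eq_iff_eq_top M).1 e)
  obtain ⟨L, Q, F⟩ := exists_frame_of (fun L hL K' hK' h' => reg L hL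
    ((Subgroup.card_le_card_group L).trans_lt
      ((Nat.card_le_card_of_surjective π hπs).trans_lt hcard)) K' hK' h')
    (setting_quotient hSE h2)
  obtain ⟨kk, e, -, -, hQc, -⟩ := F.qcard
  haveI : Fact (Nat.Prime 2) := ⟨Nat.prime_two⟩
  obtain ⟨T⟩ : Nonempty (Sylow 2 (Q.comap π)) := inferInstance
  set S₀ : Subgroup M := (T : Subgroup (Q.comap π)).map (Q.comap π).subtype with hS₀
  have hSQ : ∀ z ∈ S₀, π z ∈ Q := fun z hz => mem_comap.1 (map_subtype_le _ hz)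
  have hSK : ∀ z ∈ S₀, z ∈ K := fun z hz => mem_map_core_iff.1 (F.qle (hSQ z hz))
  have hSsurj : ∀ u ∈ Q, ∃ z ∈ S₀, π z = u := by
    intro u hu
    have hfs : Function.Surjective ((π.comp (Q.comap π).subtype).codRestrict Q fun z => z.2) := by
      rintro ⟨w, hw⟩
      obtain ⟨z, rfl⟩ := hπs w
      exact ⟨⟨z, hw⟩, rfl⟩
    have hTs := T.mapSurjective hfs
    have htop : ((T.mapSurjective hfs : Sylow 2 Q) : Subgroup Q) = ⊤ :=
      ((T.mapSurjective hfs).is_maximal' (IsPGroup.to_subgroup F.q2 ⊤) le_top).symm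
    have h1 : (⟨u, hu⟩ : Q) ∈ ((T.mapSurjective hfs : Sylow 2 Q) : Subgroup Q) := by
      rw [htop]; exact mem_top _
    rw [Sylow.coe_mapSurjective] at h1
    obtain ⟨w, hw, hwu⟩ := h1
    exact ⟨w, ⟨w, hw, rfl⟩, congrArg Subtype.val hwu⟩
  set S := S₀.map M.subtype with hS
  have hSle : S ≤ M ⊓ H := by
    rintro _ ⟨z, hz, rfl⟩
    exact mem_inf.2 ⟨z.2, mem_subgroupOf.1 (hSK z hz)⟩
  refine ⟨S, hSle, (T.isPGroup'.map _).map _, ?_, kk * e, ?_⟩
  · intro m₁ hm₁ m₂ hm₂ h₁ h₂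
    obtain ⟨u, hu, h⟩ := F.trans (π ⟨m₁, hm₁⟩) (π ⟨m₂, hm₂⟩)
      (fun h => h₁ (mem_subgroupOf.1 (mem_map_core_iff.1 h)))
      (fun h => h₂ (mem_subgroupOf.1 (mem_map_core_iff.1 h)))
    obtain ⟨z, hz, hzu⟩ := hSsurj u hu
    refine ⟨z, ⟨z, hz, rfl⟩, ?_⟩
    rw [← hzu, ← map_inv, ← map_mul, ← map_mul] at h
    exact mem_subgroupOf.1 (mem_map_core_iff.1 h)
  obtain ⟨a, haK⟩ : ∃ a : M, a ∉ K := by
    by_contra h
    push Not at h
    exact hSE.1 ((Subgroup.eq_top_iff' K).2 h)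
  choose c' hc' hcu' using hSsurj
  let c : ∀ u, u ∈ Q → G := fun u hu => (c' u hu : G)
  have hcM : ∀ u (hu : u ∈ Q), c u hu ∈ M := fun u hu => (c' u hu).2
  have hc : ∀ u (hu : u ∈ Q), c u hu ∈ M ⊓ H := fun u hu =>
    mem_inf.2 ⟨hcM u hu, mem_subgroupOf.1 (hSK _ (hc' u hu))⟩
  have hcu : ∀ u (hu : u ∈ Q), π ⟨c u hu, hcM u hu⟩ = u := hcu'
  have hmk : ∀ g : G, g • (QuotientGroup.mk 1 : G ⧸ H) = QuotientGroup.mk g := fun g => by
    rw [MulAction.Quotient.smul_mk, smul_eq_mul, mul_one]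
  have hne : ∀ g : G, (QuotientGroup.mk g : G ⧸ H) = QuotientGroup.mk 1 ↔ g ∈ H := fun g => by
    rw [QuotientGroup.eq, mul_one, inv_mem_iff]
  let f : Q → {y : G ⧸ H //
      (∃ m ∈ M, m • (QuotientGroup.mk 1 : G ⧸ H) = y) ∧ y ≠ QuotientGroup.mk 1} := fun u =>
    ⟨QuotientGroup.mk (c u u.2 * (a : G)), ⟨_, mul_mem (hcM u u.2) a.2, hmk _⟩, fun e => haK (by
      have h1 := (hne _).1 e
      exact mem_subgroupOf.2 (by simpa using mul_mem (inv_mem (mem_inf.1 (hc u u.2)).2) h1))⟩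
  have hf : Function.Bijective f := by
    refine ⟨fun u v huv => ?_, ?_⟩
    · have h1 : (QuotientGroup.mk (c u u.2 * (a : G)) : G ⧸ H) = QuotientGroup.mk (c v v.2 * (a : G)) :=
        congrArg Subtype.val huv
      rw [QuotientGroup.eq, mul_inv_rev, mul_assoc] at h1
      have h2 : (π a)⁻¹ * ((π ⟨c u u.2, hcM u u.2⟩)⁻¹ * π ⟨c v v.2, hcM v v.2⟩ * π a) ∈
          K.map π := by
        rw [← map_inv, ← map_inv, ← map_mul, ← map_mul, ← map_mul]
        refine mem_map_of_mem π (mem_subgroupOf.2 ?_)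
        push_cast
        rwa [← mul_assoc ((c u u.2)⁻¹)] at h1
      rw [hcu, hcu] at h2
      have h3 := F.reg (π a) (fun h => haK (mem_map_core_iff.1 h)) _
        (mul_mem (inv_mem u.2) v.2) h2
      exact Subtype.ext (inv_mul_eq_one.1 h3)
    · rintro ⟨y, ⟨m, hm, rfl⟩, hy⟩
      have hmH : m ∉ H := fun h => hy (by rw [hmk]; exact (hne m).2 h)
      obtain ⟨u, hu, h⟩ := F.trans (π a) (π ⟨m, hm⟩) (fun h => haK (mem_map_core_iff.1 h))
        (fun h => hmH (mem_subgroupOf.1 (mem_map_core_iff.1 h)))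
      refine ⟨⟨u, hu⟩, Subtype.ext ?_⟩
      show (QuotientGroup.mk (c u hu * (a : G)) : G ⧸ H) = m • QuotientGroup.mk 1
      rw [hmk, eq_comm, QuotientGroup.eq]
      rw [← hcu u hu, ← map_inv, ← map_mul, ← map_mul] at h
      exact mem_subgroupOf.1 (mem_map_core_iff.1 h)
  rw [← Nat.card_eq_of_bijective f hf, hQc, pow_mul]

/-- the induction fact at every point, without commuting involutions -/
theorem exists_two_transitive_weak (hH : Cfsg.IsStronglyEmbedded H) (reg : RegBelow.{u} (Nat.card G))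
    {N : Subgroup G} (hN : N ≠ ⊤) {u v : G} (hu : u ∈ N) (hv : v ∈ N)
    (hu2 : orderOf u = 2) (hv2 : orderOf v = 2) (huv : u ≠ v) (huvc : Commute u v)
    {c : G ⧸ H} {i : G} (hi : i ∈ N) (hi2 : orderOf i = 2) (hic : i • c = c)
    (hmove : ¬ N ≤ stabilizer G c) :
    ∃ S : Subgroup G, S ≤ N ⊓ stabilizer G c ∧ IsPGroup 2 S ∧
      (∀ x ∈ orbit N c, ∀ y ∈ orbit N c, x ≠ c → y ≠ c → ∃ s ∈ S, s • x = y) ∧
      ∃ k : ℕ, Nat.card {y : G ⧸ H // y ∈ orbit N c ∧ y ≠ c} = 2 ^ k := by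
  obtain ⟨g, rfl⟩ := MulAction.exists_smul_eq G (QuotientGroup.mk 1 : G ⧸ H) c
  set o : G ⧸ H := QuotientGroup.mk 1 with ho
  set N' := N.map (MulAut.conj g⁻¹).toMonoidHom with hN'
  have hmem : ∀ x : G, x ∈ N' ↔ g * x * g⁻¹ ∈ N := fun x => by
    constructor
    · rintro ⟨y, hy, rfl⟩
      simpa [mul_assoc] using hy
    · exact fun hx => ⟨g * x * g⁻¹, hx, by simp [mul_assoc]⟩
  have hfix : ∀ x : G, x ∈ H ↔ (g * x * g⁻¹) • g • o = g • o := fun x => by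
    rw [mul_smul, mul_smul, inv_smul_smul, smul_left_cancel_iff]
    exact (smul_mk_one_iff (H := H)).symm
  have hconj : ∀ x : G, g * (g⁻¹ * x * g) * g⁻¹ = x := fun x => by group
  have hiH : g⁻¹ * i * g ∈ H := (hfix _).2 (by rw [hconj]; exact hic)
  have hi'2 : orderOf (g⁻¹ * i * g) = 2 := by
    have := orderOf_conj' g⁻¹ i
    rw [inv_inv] at this
    rw [this, hi2]
  have hnotH : ¬ N' ≤ H := by
    intro hle
    refine hmove fun x hx => ?_
    have h1 := (hfix _).1 (hle ((hmem (g⁻¹ * x * g)).2 (by rwa [hconj])))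
    rw [hconj] at h1
    exact h1
  have hSE := isStronglyEmbedded_subgroupOf hH hnotH hi'2 ((hmem _).2 (by rwa [hconj])) hiH
  have hN'top : N' ≠ ⊤ := fun h => hN (eq_top_iff.2 fun x _ => by
    have := (hmem (g⁻¹ * x * g)).1 (h ▸ mem_top _)
    rwa [hconj] at this)
  have h2 : HasCommutingInvolutions N' := by
    refine ⟨⟨g⁻¹ * u * g, (hmem _).2 (by rwa [hconj])⟩, ⟨g⁻¹ * v * g, (hmem _).2 (by rwa [hconj])⟩,
      ?_, ?_, fun h => huv ?_, Subtype.ext ?_⟩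
    · rw [Subgroup.orderOf_mk, show g⁻¹ * u * g = g⁻¹ * u * g⁻¹⁻¹ by rw [inv_inv], orderOf_conj', hu2]
    · rw [Subgroup.orderOf_mk, show g⁻¹ * v * g = g⁻¹ * v * g⁻¹⁻¹ by rw [inv_inv], orderOf_conj', hv2]
    · simpa using congrArg Subtype.val h
    · show g⁻¹ * u * g * (g⁻¹ * v * g) = g⁻¹ * v * g * (g⁻¹ * u * g)
      calc g⁻¹ * u * g * (g⁻¹ * v * g) = g⁻¹ * (u * v) * g := by group
        _ = g⁻¹ * (v * u) * g := by rw [huvc.eq]
        _ = _ := by group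
  obtain ⟨S', hS'le, hS'2, hS't, k, hk⟩ := exists_two_move_weak hH reg hN'top hSE h2
  refine ⟨S'.map (MulAut.conj g).toMonoidHom, ?_, hS'2.map _, ?_, k, ?_⟩
  · rintro _ ⟨s, hs, rfl⟩
    obtain ⟨hsN, hsH⟩ := mem_inf.1 (hS'le hs)
    exact mem_inf.2 ⟨(hmem s).1 hsN, (hfix s).1 hsH⟩
  · rintro _ ⟨⟨n₁, hn₁⟩, rfl⟩ _ ⟨⟨n₂, hn₂⟩, rfl⟩ hx hy
    have hout : ∀ n : G, n • g • o ≠ g • o → g⁻¹ * n * g ∉ H := fun n hn h => hn (by
      have h1 := (hfix _).1 h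
      rwa [hconj] at h1)
    obtain ⟨s, hs, hsm⟩ := hS't _ ((hmem (g⁻¹ * n₁ * g)).2 (by rwa [hconj])) _
      ((hmem (g⁻¹ * n₂ * g)).2 (by rwa [hconj])) (hout n₁ hx) (hout n₂ hy)
    refine ⟨g * s * g⁻¹, ⟨s, hs, rfl⟩, ?_⟩
    show (g * s * g⁻¹) • n₁ • g • o = n₂ • g • o
    have h1 : ((g⁻¹ * n₂ * g)⁻¹ * (s * (g⁻¹ * n₁ * g))) • o = o := (smul_mk_one_iff (H := H)).2 hsm
    rw [mul_smul, inv_smul_eq_iff] at h1
    calc (g * s * g⁻¹) • n₁ • g • o = g • (s * (g⁻¹ * n₁ * g)) • o := by simp [smul_smul, mul_assoc]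
      _ = g • (g⁻¹ * n₂ * g) • o := by rw [h1]
      _ = n₂ • g • o := by simp [smul_smul, mul_assoc]
  · rw [← hk]
    refine Nat.card_congr ((MulAction.toPerm g⁻¹).subtypeEquiv fun y => ?_)
    simp only [MulAction.toPerm_apply]
    refine and_congr ⟨?_, ?_⟩ (not_congr ⟨fun h => ?_, fun h => ?_⟩)
    · rintro ⟨⟨n, hn⟩, rfl⟩
      refine ⟨g⁻¹ * n * g, (hmem _).2 (by rwa [hconj]), ?_⟩
      show (g⁻¹ * n * g) • o = g⁻¹ • n • g • o
      simp [smul_smul, mul_assoc]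
    · rintro ⟨n, hn, he⟩
      refine ⟨⟨g * n * g⁻¹, (hmem n).1 hn⟩, ?_⟩
      show (g * n * g⁻¹) • g • o = y
      rw [mul_smul, mul_smul, inv_smul_smul, he, smul_inv_smul]
    · rw [h, inv_smul_smul]
    · rw [← smul_inv_smul g y, h]

end Cfsg.Lib.BenderSE
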