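/-
REG, linear part (notes/bender_reg_h7.md, step 3): a group of odd order transitive on the non-identity
elements of an elementary abelian 2-group is semilinear over the field with as many elements. If the
pair stabiliser `D` is faithful on `U`, then `D = A : C_D(t)` with `A` cyclic of order `m`, inverted by
the swapper `t` and regular on `U^#`, and `C_D(t)` cyclic with a fixed point in `U^#`.
-/
import Cfsg.Agent.BenderSE.RegStructure
import Cfsg.Agent.BenderSE.Inverted
import Cfsg.Agent.LinearPerm.SolvableTransitive.Main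
import Cfsg.Agent.Known.FieldAutLight
import Cfsg.Agent.SolvStruct.CyclicProduct
import Mathlib.LinearAlgebra.LinearIndependent.Basic

set_option autoImplicit false
set_option linter.unusedSectionVars false
set_option linter.style.haveILetI false

namespace Cfsg.Lib.BenderSE

open Subgroup MulAction Cfsg.Lib.InvolCalc Cfsg.Lib.StrongEmb

universe u

variable {G : Type u} [Group G] [Finite G]

/-- a semilinear model of the action of `D` on `U` by conjugation -/
theorem exists_semilinear {D U : Subgroup G} (hD : Odd (Nat.card D))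
    (hDU : D ≤ normalizer (U : Set G)) (hU : ∀ u ∈ U, u * u = 1) (hne : U ≠ ⊥)
    (htr : ∀ u ∈ U, ∀ w ∈ U, u ≠ 1 → w ≠ 1 → ∃ d ∈ D, d * u * d⁻¹ = w) :
    ∃ (F : Type) (_ : Field F) (_ : Fintype F) (e : U → F) (σ : D →* (F ≃+* F)) (a : D → F),
      Function.Bijective e ∧ (∀ u v : U, e (u * v) = e u + e v) ∧
      (∀ d : D, a d ≠ 0) ∧
      ∀ (d : D) (u : U), e ⟨(d : G) * u * (d : G)⁻¹, (mem_normalizer_iff.1 (hDU d.2) u).1 u.2⟩ =
        a d * σ d (e u) := by
  letI : CommGroup U :=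
    { (inferInstance : Group U) with
      mul_comm := fun x y => Subtype.ext (by
        show (x : G) * y = y * x
        rw [eq_inv_of_mul_eq_one_left (hU _ (mul_mem x.2 y.2)), mul_inv_rev,
          inv_eq_of_mul_eq_one_right (hU _ x.2), inv_eq_of_mul_eq_one_right (hU _ y.2)]) }
  have h2 : ∀ x : Additive U, 2 • x = 0 := fun x => by
    rw [two_nsmul]
    exact Subtype.ext (hU _ (Additive.toMul x).2)
  letI : Module (ZMod 2) (Additive U) := AddCommGroup.zmodModule h2
  haveI : Fact (Nat.Prime 2) := ⟨Nat.prime_two⟩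
  haveI : Nontrivial U := (nontrivial_iff_ne_bot U).2 hne
  haveI : Nontrivial (Additive U) := inferInstance
  haveI : Finite (Additive U) := inferInstanceAs (Finite U)
  let f : D →* MulAut U := (normalizerMonoidHom U).comp (inclusion hDU)
  let ρ : D →* (Additive U ≃ₗ[ZMod 2] Additive U) :=
    { toFun := fun d => { (f d).toAdditive with
        map_smul' := fun k x => ZMod.map_smul (f d).toAdditive.toAddMonoidHom k x }
      map_one' := LinearEquiv.ext fun x => by
        show Additive.ofMul (f 1 (Additive.toMul x)) = x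
        rw [map_one]
        rfl
      map_mul' := fun d d' => LinearEquiv.ext fun x => by
        show Additive.ofMul (f (d * d') (Additive.toMul x)) = _
        rw [map_mul]
        rfl }
  have hf : ∀ (d : D) (u : U), ((f d u : U) : G) = (d : G) * u * (d : G)⁻¹ := fun d u => rfl
  haveI : Group.IsSolvable D := Cfsg.Agent.PF.isSolvable_of_odd D hD
  haveI : Finite (Additive U ≃ₗ[ZMod 2] Additive U) :=
    Finite.of_injective (fun l => (l : Additive U → Additive U)) DFunLike.coe_injective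
  have htrans : ∀ v w : Additive U, v ≠ 0 → w ≠ 0 → ∃ g : ρ.range, ρ.range.subtype g v = w := by
    intro v w hv hw
    obtain ⟨d, hd, hdv⟩ := htr (Additive.toMul v : U) (Additive.toMul v).2 (Additive.toMul w : U)
      (Additive.toMul w).2 (fun h => hv (Subtype.ext h)) (fun h => hw (Subtype.ext h))
    exact ⟨⟨ρ ⟨d, hd⟩, ⟨d, hd⟩, rfl⟩, Subtype.ext hdv⟩
  rcases Cfsg.Lib.SolvableTransitive.main (q := 2)
      (Group.isSolvable_of_surjective ρ.rangeRestrict_surjective) ρ.range.subtype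
      Subtype.val_injective htrans with ⟨F, hField, hFin, e, he⟩ | hexc
  swap
  · exfalso
    obtain ⟨u, hu, hu1⟩ := U.bot_or_exists_ne_one.resolve_left hne
    have hc : 2 ∣ Nat.card (Additive U) := by
      have h := Subgroup.orderOf_dvd_natCard U hu
      rwa [orderOf_eq_prime (p := 2) (by rw [pow_two, hU u hu]) hu1] at h
    simp only [Set.mem_insert_iff, Set.mem_singleton_iff] at hexc
    rcases hexc with h | h | h | h | h | h <;> rw [h] at hc <;> norm_num at hc
  letI := hField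
  letI := hFin
  choose a σ has using fun d : D => he ⟨ρ d, d, rfl⟩
  have ha : ∀ d, a d ≠ 0 := fun d h0 => by
    obtain ⟨v, hv⟩ := e.surjective 1
    obtain ⟨x, hx⟩ := exists_ne (0 : Additive U)
    have h1 := has d x
    rw [h0, zero_mul] at h1
    exact hx ((ρ d).map_eq_zero_iff.1 (e.map_eq_zero_iff.1 h1))
  have huniq : ∀ (d : D) (b : F) (τ : F ≃+* F), (∀ v, e (ρ d v) = b * τ (e v)) → σ d = τ := by
    intro d b τ h
    have hb : a d = b := by
      obtain ⟨v, hv⟩ := e.surjective 1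
      have h1 := (has d v).symm.trans (h v)
      rwa [hv, map_one, map_one, mul_one, mul_one] at h1
    ext x
    obtain ⟨v, rfl⟩ := e.surjective x
    exact mul_left_cancel₀ (ha d) (((has d v).symm.trans (h v)).trans (by rw [hb]))
  refine ⟨F, hField, hFin, fun u => e (Additive.ofMul u),
    MonoidHom.mk' σ (fun d d' => huniq (d * d') (a d * σ d (a d')) _ fun v => ?_), a,
    ⟨fun u v h => Additive.ofMul.injective (e.injective h), fun x => ?_⟩,
    fun u v => map_add e _ _, ha, fun d u => has d (Additive.ofMul u)⟩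
  · have h1 : ρ (d * d') v = ρ d (ρ d' v) := by rw [map_mul]; rfl
    rw [h1]
    refine (has d (ρ d' v)).trans ?_
    show a d * σ d (e (ρ d' v)) = _
    rw [show e (ρ d' v) = a d' * σ d' (e v) from has d' v, map_mul, mul_assoc]
    rfl
  · exact ⟨Additive.toMul (e.symm x), e.apply_symm_apply x⟩

/-- the fixed field of a field automorphism of order `d` has `2 ^ (n / d)` elements -/
theorem exists_fixed_field {F : Type*} [Field F] [Fintype F] {n : ℕ} (hF : Fintype.card F = 2 ^ n)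
    (σ : F ≃+* F) :
    orderOf σ ∣ n ∧ ∃ L : Subfield F, (∀ x, x ∈ L ↔ σ x = x) ∧ Nat.card L = 2 ^ (n / orderOf σ) := by
  classical
  haveI : Fact (Nat.Prime 2) := ⟨Nat.prime_two⟩
  haveI : Finite (F ≃+* F) := Finite.of_injective (fun e => (e : F → F)) DFunLike.coe_injective
  have hdvd := Cfsg.Lib.Known.FieldLight.order_dvd hF σ
  let S : Subgroup (F ≃+* F) := zpowers σ
  haveI : Fintype S := Fintype.ofFinite S
  let L := FixedPoints.subfield S F
  refine ⟨hdvd, L, fun x => ⟨fun h => h ⟨σ, mem_zpowers σ⟩, fun h k => ?_⟩, ?_⟩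
  · obtain ⟨i, hi⟩ := mem_zpowers_iff.1 k.2
    show (k : F ≃+* F) x = x
    rw [← hi]
    have hfix : σ ∈ MulAction.stabilizer (F ≃+* F) x := h
    exact zpow_mem hfix i
  refine Nat.pow_left_injective (orderOf_pos σ).ne' ?_
  show Nat.card L ^ orderOf σ = (2 ^ (n / orderOf σ)) ^ orderOf σ
  rw [← pow_mul, Nat.div_mul_cancel hdvd, ← hF, Module.card_eq_pow_finrank (K := L) (V := F),
    FixedPoints.finrank_eq_card S F, Nat.card_eq_fintype_card]
  congr 1
  rw [← Nat.card_zpowers σ, Nat.card_eq_fintype_card]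

/-- a fixed element of a field automorphism of order `d` has order dividing `2 ^ (n / d) - 1` -/
theorem orderOf_fixed_dvd {F : Type*} [Field F] [Fintype F] {n : ℕ} (hF : Fintype.card F = 2 ^ n)
    (σ : F ≃+* F) {x : F} (hx0 : x ≠ 0) (hx : σ x = x) :
    orderOf σ ∣ n ∧ orderOf x ∣ 2 ^ (n / orderOf σ) - 1 := by
  obtain ⟨hdvd, L, hL, hcard⟩ := exists_fixed_field hF σ
  classical
  refine ⟨hdvd, orderOf_dvd_of_pow_eq_one ?_⟩
  have h := congrArg Subtype.val (FiniteField.pow_card_sub_one_eq_one (⟨x, (hL x).2 hx⟩ : L)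
    fun h => hx0 (congrArg Subtype.val h))
  rw [← Nat.card_eq_fintype_card, hcard] at h
  exact h

/-- a prime `r > n` dividing `2 ^ n - 1` but no `2 ^ (n / d) - 1`, `d > 1` odd -/
theorem exists_big_prime {n : ℕ} (hn : 2 ≤ n) :
    ∃ r : ℕ, r.Prime ∧ n < r ∧ r ∣ 2 ^ n - 1 ∧
      ∀ d : ℕ, d ∣ n → Odd d → 1 < d → ¬ r ∣ 2 ^ (n / d) - 1 := by
  by_cases h6 : n = 6
  · subst h6
    refine ⟨7, by norm_num, by norm_num, by norm_num, fun d hd hodd h1 => ?_⟩
    have : d ≤ 6 := Nat.le_of_dvd (by norm_num) hd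
    interval_cases d <;> first | (exact absurd hodd (by decide)) | (norm_num at hd ⊢) | omega
  obtain ⟨r, hr, hrd, hrk⟩ := Cfsg.Lib.Zsigmondy.zsigmondy 2 n one_lt_two hn (fun h => h6 h.2) (by
    rintro ⟨-, m, hm⟩
    rcases Nat.eq_zero_or_pos m with rfl | hm0
    · norm_num at hm
    have h := dvd_pow_self 2 hm0.ne'
    rw [← hm] at h
    norm_num at h)
  refine ⟨r, hr, ?_, hrd, fun d hd hodd h1 => hrk _ ?_ (Nat.div_lt_self (by omega) h1)⟩
  · haveI := Fact.mk hr
    by_contra hle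
    have hr1 := hr.two_le
    have hne2 : (2 : ZMod r) ≠ 0 := fun h0 => by
      have h2 : r ∣ 2 := (ZMod.natCast_eq_zero_iff 2 r).1 (by exact_mod_cast h0)
      have hr2 := (Nat.prime_dvd_prime_iff_eq hr Nat.prime_two).1 h2
      subst hr2
      have hev : 2 ∣ 2 ^ n := dvd_pow_self 2 (by omega)
      have hp := Nat.one_le_two_pow (n := n)
      omega
    refine hrk (r - 1) (by omega) (by omega) ?_
    have h := ZMod.pow_card_sub_one_eq_one hne2
    rw [← ZMod.natCast_eq_zero_iff, Nat.cast_sub Nat.one_le_two_pow]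
    push_cast
    rw [h, sub_self]
  · exact Nat.div_pos (Nat.le_of_dvd (by omega) hd) (by omega)

variable {H : Subgroup G}

/-- step 3: if `D` is faithful on `U`, then `D = A : C_D(t)` with `A` a Singer cycle -/
theorem exists_singer (hS : Setting H) (hC : CommAt H) {c a : G ⧸ H} (hac : a ≠ c) {t : G}
    (ht : orderOf t = 2) (htc : t • c = a) (hD0 : centGroup c ⊓ stabilizer G a = ⊥) :
    ∃ A : Subgroup G, A ≤ stabilizer G c ⊓ stabilizer G a ∧
      stabilizer G c ⊓ stabilizer G a ≤ normalizer (A : Set G) ∧ IsCyclic A ∧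
      Nat.card A = invCount H ∧ (∀ x ∈ A, t * x * t⁻¹ = x⁻¹) ∧
      (∀ y ∈ stabilizer G c ⊓ stabilizer G a, t * y * t⁻¹ = y⁻¹ → y ∈ A) ∧
      (∀ u ∈ invsAt c, ∀ w ∈ invsAt c, ∃ x ∈ A, x * u * x⁻¹ = w) ∧
      (∀ x ∈ A, ∀ u ∈ invsAt c, Commute x u → x = 1) ∧
      A ⊓ centralizer ({t} : Set G) = ⊥ ∧
      A ⊔ stabilizer G c ⊓ stabilizer G a ⊓ centralizer ({t} : Set G) =
        stabilizer G c ⊓ stabilizer G a ∧
      IsCyclic ↥(stabilizer G c ⊓ stabilizer G a ⊓ centralizer ({t} : Set G)) ∧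
      (∃ n : ℕ, invCount H + 1 = 2 ^ n ∧
        Nat.card ↥(stabilizer G c ⊓ stabilizer G a ⊓ centralizer ({t} : Set G)) ∣ n) ∧
      ∃ u ∈ invsAt c, ∀ g ∈ stabilizer G c ⊓ stabilizer G a ⊓ centralizer ({t} : Set G),
        Commute g u := by
  classical
  have hH := hS.se
  set D := stabilizer G c ⊓ stabilizer G a with hD
  set U := invGroup G c
  have hDodd : Odd (Nat.card D) := odd_stabilizer_inf hH hac.symm
  have hDU : D ≤ normalizer (U : Set G) := inf_le_left.trans (stabilizer_le_normalizer_invGroup c)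
  obtain ⟨p, q, hp, hq, hpq, hpqc, hpc, hqc⟩ := exists_commuting_fixing hH hS.rank2 c
  have hUne : U ≠ ⊥ := fun h => by
    have h1 : p ∈ U := subset_closure ⟨hp, hpc⟩
    rw [h, mem_bot] at h1
    rw [h1, orderOf_one] at hp
    simp at hp
  obtain ⟨F, hField, hFin, e, σ, α, he, headd, hα, heq⟩ := exists_semilinear hDodd hDU
    (fun u hu => invGroup_mul_self hC c hu) hUne (fun u hu w hw hu1 hw1 => by
      obtain ⟨h2, h3⟩ := ((mem_invGroup_iff hC c).1 hu).resolve_left hu1
      obtain ⟨h4, h5⟩ := ((mem_invGroup_iff hC c).1 hw).resolve_left hw1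
      obtain ⟨d, hd, hdu⟩ := exists_conj_centre hH hac.symm h2 h3 h4 h5
      exact ⟨d, hd, hdu⟩)
  letI := hField
  letI := hFin
  have hcardF : Fintype.card F = invCount H + 1 := by
    rw [← Nat.card_eq_fintype_card, ← Nat.card_eq_of_bijective e he, card_invGroup hC c hH]
  obtain ⟨n, hn⟩ : ∃ n, Fintype.card F = 2 ^ n := by
    haveI : Fact (Nat.Prime 2) := ⟨Nat.prime_two⟩
    obtain ⟨n, hn⟩ := IsPGroup.iff_card.1 (fun u : U => ⟨1, Subtype.ext (by
      rw [pow_one, Subgroup.coe_pow, pow_two, invGroup_mul_self hC c u.2, Subgroup.coe_one])⟩ :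
      IsPGroup 2 U)
    exact ⟨n, by rw [← Nat.card_eq_fintype_card, ← Nat.card_eq_of_bijective e he, hn]⟩
  have hn2 : 2 ≤ n := by
    have hP' : (⟨q, subset_closure ⟨hq, hqc⟩⟩ : U) ≠ 1 := fun h => by
      have h' : q = 1 := congrArg Subtype.val h
      rw [h', orderOf_one] at hq; simp at hq
    have hP : (⟨p, subset_closure ⟨hp, hpc⟩⟩ : U) ≠ 1 := fun h => by
      have h' : p = 1 := congrArg Subtype.val h
      rw [h', orderOf_one] at hp; simp at hp
    have hPP : (⟨p, subset_closure ⟨hp, hpc⟩⟩ : U) ≠ ⟨q, subset_closure ⟨hq, hqc⟩⟩ := fun h =>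
      hpq (congrArg Subtype.val h)
    have hinj : Function.Injective ![1, (⟨p, subset_closure ⟨hp, hpc⟩⟩ : U),
        ⟨q, subset_closure ⟨hq, hqc⟩⟩] := fun i j h => by
      fin_cases i <;> fin_cases j <;>
        first
          | rfl
          | exact absurd h hP
          | exact absurd h.symm hP
          | exact absurd h hP'
          | exact absurd h.symm hP'
          | exact absurd h hPP
          | exact absurd h.symm hPP
    have h3 := Nat.card_le_card_of_injective _ hinj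
    rw [Nat.card_fin, Nat.card_eq_of_bijective e he, Nat.card_eq_fintype_card, hn] at h3
    by_contra hlt
    interval_cases n <;> omega
  have hm : invCount H = 2 ^ n - 1 := by omega
  have he1 : e 1 = 0 := by
    have h := headd 1 1
    rw [mul_one] at h
    exact (add_eq_left.1 h.symm)
  have hfix : ∀ d : D, ∀ u : U, (e ⟨(d : G) * u * (d : G)⁻¹, (mem_normalizer_iff.1 (hDU d.2) u).1 u.2⟩ = e u) ↔
      Commute (d : G) u := fun d u => by
    rw [he.1.eq_iff, Subtype.ext_iff]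
    show (d : G) * u * (d : G)⁻¹ = u ↔ (d : G) * u = u * d
    exact mul_inv_eq_iff_eq_mul
  -- `D` is faithful
  have hfaith : ∀ d : D, (∀ x : F, α d * σ d x = x) → d = 1 := by
    intro d hd
    have h1 : (d : G) ∈ centGroup c ⊓ stabilizer G a := by
      refine mem_inf.2 ⟨mem_centGroup_iff.2 ⟨mem_stabilizer_iff.1 (mem_inf.1 d.2).1, fun i hi hic => ?_⟩,
        (mem_inf.1 d.2).2⟩
      exact (hfix d ⟨i, subset_closure ⟨hi, hic⟩⟩).1 ((heq d _).trans (hd _))
    rw [hD0, mem_bot] at h1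
    exact Subtype.ext h1
  set A' := σ.ker with hA'
  have hcomp : ∀ g h : D, ∀ x : F, α (g * h) * σ (g * h) x = α g * σ g (α h) * σ g (σ h x) := by
    intro g h x
    obtain ⟨u, rfl⟩ := he.2 x
    rw [← heq]
    refine Eq.trans (congrArg e (Subtype.ext ?_))
      ((heq g ⟨(h : G) * u * (h : G)⁻¹, (mem_normalizer_iff.1 (hDU h.2) u).1 u.2⟩).trans
        (by rw [heq h u, map_mul, ← mul_assoc]))
    simp only [Subgroup.coe_mul, mul_inv_rev]
    group
  have hαmul : ∀ g h : D, α (g * h) = α g * σ g (α h) := fun g h => by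
    have h1 := hcomp g h 1
    simpa using h1
  have hker : ∀ g : D, g ∈ A' → ∀ x, σ g x = x := fun g hg x => by
    rw [MonoidHom.mem_ker.1 hg]; rfl
  let φ : A' →* Fˣ := MonoidHom.mk' (fun g => Units.mk0 (α g) (hα _)) fun g h => by
    apply Units.ext
    show α ((g : D) * h) = α g * α h
    rw [hαmul, hker _ g.2]
  have hφinj : Function.Injective φ := by
    refine (injective_iff_map_eq_one φ).2 fun g hg => Subtype.ext (hfaith g fun x => ?_)
    rw [show α (g : D) = 1 from congrArg Units.val hg, one_mul, hker _ g.2]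
  haveI hA'cyc : IsCyclic A' := isCyclic_of_injective φ hφinj
  haveI : Finite (F ≃+* F) := Finite.of_injective (fun z => (z : F → F)) DFunLike.coe_injective
  haveI : Fact (Nat.Prime 2) := ⟨Nat.prime_two⟩
  haveI : CharP F 2 := by
    obtain ⟨p', hp'⟩ := CharP.exists F
    obtain ⟨k, hpp, hk⟩ := FiniteField.card F p'
    have : p' = 2 := (Nat.prime_dvd_prime_iff_eq hpp Nat.prime_two).1
      (hpp.dvd_of_dvd_pow (hn ▸ hk ▸ dvd_pow_self p' k.ne_zero))
    exact this ▸ hp'
  have hord : ∀ g : D, orderOf (σ g) ∣ n ∧ Odd (orderOf (σ g)) := fun g =>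
    ⟨Cfsg.Lib.Known.FieldLight.order_dvd hn (σ g),
      hDodd.of_dvd_nat ((orderOf_map_dvd σ g).trans (_root_.orderOf_dvd_natCard g))⟩
  -- the element `ρ₀` of large prime order
  obtain ⟨r, hr, hrn, hrd, hrfix⟩ := exists_big_prime hn2
  haveI := Fact.mk hr
  have hrD : r ∣ Nat.card D := by
    refine hrd.trans ?_
    rw [← hm, ← card_centralizer_swapper hH hac.symm ht htc]
    exact dvd_mul_left _ _
  obtain ⟨ρ₀, hρ₀⟩ := exists_prime_orderOf_dvd_card' (G := D) r hrD
  have hrA : ∀ g : D, orderOf g = r → g ∈ A' := fun g hg => by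
    refine MonoidHom.mem_ker.2 (orderOf_eq_one_iff.1 ?_)
    rcases (Nat.dvd_prime hr).1 (hg ▸ orderOf_map_dvd σ g) with h | h
    · exact h
    · exact absurd (Nat.le_of_dvd (by omega) (h ▸ (hord g).1)) (not_le.2 hrn)
  have hρA : ρ₀ ∈ A' := hrA ρ₀ hρ₀
  have hαρ : orderOf (α ρ₀) = r := by
    have h1 := orderOf_injective φ hφinj ⟨ρ₀, hρA⟩
    rwa [← orderOf_units, Subgroup.orderOf_mk, hρ₀] at h1
  have hcent : ∀ g : D, g ∈ A' ↔ g * ρ₀ = ρ₀ * g := by
    intro g
    constructor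
    · intro hg
      exact congrArg Subtype.val (hφinj (a₁ := ⟨g, hg⟩ * ⟨ρ₀, hρA⟩) (a₂ := ⟨ρ₀, hρA⟩ * ⟨g, hg⟩)
        (by rw [map_mul, map_mul, mul_comm]))
    · intro hg
      have h1 := congrArg α hg
      rw [hαmul, hαmul, hker _ hρA, mul_comm (α ρ₀)] at h1
      obtain ⟨hd, hdvd⟩ := orderOf_fixed_dvd hn (σ g) (hα ρ₀) (mul_left_cancel₀ (hα g) h1)
      rw [hαρ] at hdvd
      refine MonoidHom.mem_ker.2 (orderOf_eq_one_iff.1 ?_)
      by_contra hne
      have := (orderOf_pos (σ g))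
      exact hrfix _ hd (hord g).2 (by omega) hdvd
  -- conjugation by `t`
  have htn := swapper_mem_normalizer ht htc
  let τ : D → D := fun g => ⟨t * (g : G) * t⁻¹, (mem_normalizer_iff.1 htn g).1 g.2⟩
  have hτmul : ∀ g h : D, τ (g * h) = τ g * τ h := fun g h => Subtype.ext (by
    show t * ((g : G) * h) * t⁻¹ = t * g * t⁻¹ * (t * h * t⁻¹)
    group)
  have hττ : ∀ g : D, τ (τ g) = g := fun g => Subtype.ext (by
    show t * (t * g * t⁻¹) * t⁻¹ = g
    rw [inv_of_order_two ht, show t * (t * (g : G) * t) * t = (t * t) * g * (t * t) by group,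
      sq_of_order_two ht, one_mul, mul_one])
  let τ' : D →* D := MonoidHom.mk' τ hτmul
  have hτρ : orderOf (τ ρ₀) = r := by
    rw [← hρ₀]
    exact orderOf_injective τ' (fun g h hgh => by rw [← hττ g, ← hττ h]; exact congrArg τ hgh) ρ₀
  obtain ⟨j, hj⟩ : τ ρ₀ ∈ zpowers ρ₀ := by
    have h1 : zpowers (τ ρ₀) = zpowers ρ₀ :=
      Cfsg.Lib.SolvStruct.CyclicProduct.eq_of_card_eq_of_isCyclic (A := A')
        (zpowers_le.2 (hrA _ hτρ)) (zpowers_le.2 hρA) (by rw [Nat.card_zpowers, Nat.card_zpowers, hτρ, hρ₀])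
    exact h1 ▸ mem_zpowers (τ ρ₀)
  have hj' : ρ₀ ^ j = τ' ρ₀ := hj
  have hinvA : ∀ y : D, τ y = y⁻¹ → y ∈ A' := by
    intro y hy
    have hy' : τ' y = y⁻¹ := hy
    have hk1 : orderOf (y * ρ₀ * y⁻¹) = r := by
      rw [show y * ρ₀ * y⁻¹ = MulAut.conj y ρ₀ from rfl, MulEquiv.orderOf_eq, hρ₀]
    obtain ⟨k, hk⟩ : y * ρ₀ * y⁻¹ ∈ zpowers ρ₀ := by
      have h1 : zpowers (y * ρ₀ * y⁻¹) = zpowers ρ₀ :=
        Cfsg.Lib.SolvStruct.CyclicProduct.eq_of_card_eq_of_isCyclic (A := A')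
          (zpowers_le.2 (hrA _ hk1)) (zpowers_le.2 hρA) (by rw [Nat.card_zpowers, Nat.card_zpowers, hk1, hρ₀])
      exact h1 ▸ mem_zpowers (y * ρ₀ * y⁻¹)
    have hk' : ρ₀ ^ k = y * ρ₀ * y⁻¹ := hk
    have hjj : ρ₀ ^ (j * j) = ρ₀ := by
      rw [zpow_mul, hj', ← map_zpow, hj']
      exact hττ ρ₀
    have h2 : τ' (y * ρ₀ * y⁻¹) = y⁻¹ * τ' ρ₀ * y := by
      rw [map_mul, map_mul, map_inv, hy', inv_inv]
    have h3 : y⁻¹ * τ' ρ₀ * y = ρ₀ ^ (j * k) := by
      rw [← h2, ← hk', map_zpow, ← hj', ← zpow_mul]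
    have h4 : y⁻¹ * ρ₀ * y = ρ₀ ^ k := by
      calc y⁻¹ * ρ₀ * y = y⁻¹ * (τ' ρ₀) ^ j * y := by rw [← hj', ← zpow_mul, hjj]
        _ = (y⁻¹ * τ' ρ₀ * y) ^ j := by
          have h := conj_zpow (i := j) (a := y⁻¹) (b := τ' ρ₀)
          rw [inv_inv] at h
          exact h.symm
        _ = ρ₀ ^ k := by rw [h3, ← zpow_mul, show j * k * j = j * j * k by ring, zpow_mul, hjj]
    refine mem_of_sq_mem (L := zpowers y) ?_ (mem_zpowers y) ((hcent _).2 ?_)
    · rw [Nat.card_zpowers]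
      exact hDodd.of_dvd_nat (_root_.orderOf_dvd_natCard y)
    · have h5 : y⁻¹ * ρ₀ * y = y * ρ₀ * y⁻¹ := h4.trans hk'
      calc y * y * ρ₀ = y * (y * ρ₀ * y⁻¹) * y := by group
        _ = y * (y⁻¹ * ρ₀ * y) * y := by rw [h5]
        _ = ρ₀ * (y * y) := by group
  -- the count
  have hcount : Nat.card {x // x ∈ D ∧ t * x * t⁻¹ = x⁻¹} = invCount H := by
    refine Nat.eq_of_mul_eq_mul_left (Nat.card_pos (α := ↥(D ⊓ centralizer ({t} : Set G)))) ?_
    rw [mul_comm, card_inverted_mul hDodd (sq_of_order_two ht) htn]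
    exact (card_centralizer_swapper hH hac.symm ht htc).symm
  set A := A'.map D.subtype with hA
  have hcardA : Nat.card A = Nat.card A' := card_map_of_injective D.subtype_injective
  have hAle : Nat.card A ≤ invCount H := by
    have h1 := Nat.card_le_card_of_injective φ hφinj
    rw [Nat.card_units, Nat.card_eq_fintype_card (α := F), hcardF, Nat.add_sub_cancel] at h1
    rwa [hcardA]
  let ι : {x // x ∈ D ∧ t * x * t⁻¹ = x⁻¹} → A := fun x =>
    ⟨x.1, ⟨⟨x.1, x.2.1⟩, hinvA _ (Subtype.ext x.2.2), rfl⟩⟩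
  have hιinj : Function.Injective ι := fun x y h =>
    Subtype.ext (congrArg (fun z : A => (z : G)) h)
  have hAeq : Nat.card A = invCount H :=
    le_antisymm hAle (hcount ▸ Nat.card_le_card_of_injective ι hιinj)
  have hAinv : ∀ x ∈ A, t * x * t⁻¹ = x⁻¹ := by
    have hbij := (Nat.bijective_iff_injective_and_card ι).2 ⟨hιinj, by rw [hcount, hAeq]⟩
    intro x hx
    obtain ⟨y, hy⟩ := hbij.2 ⟨x, hx⟩
    have h1 : y.1 = x := congrArg Subtype.val hy
    exact h1 ▸ y.2.2
  have hφsurj : Function.Surjective φ :=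
    ((Nat.bijective_iff_injective_and_card φ).2 ⟨hφinj, by
      rw [Nat.card_units, Nat.card_eq_fintype_card (α := F), hcardF, Nat.add_sub_cancel, ← hcardA, hAeq]⟩).2
  have hAD : A ≤ D := map_subtype_le _
  have hAt : A ⊓ centralizer ({t} : Set G) = ⊥ := by
    refine eq_bot_iff.2 fun x hx => ?_
    obtain ⟨hxA, hxt⟩ := mem_inf.1 hx
    have h1 := hAinv x hxA
    have hct : x * t = t * x := mem_centralizer_singleton_iff.1 hxt
    rw [← hct, mul_inv_cancel_right] at h1
    have h2 : x ^ 2 = 1 := by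
      rw [pow_two]
      nth_rewrite 1 [h1]
      exact inv_mul_cancel x
    rw [mem_bot, ← orderOf_eq_one_iff]
    refine ((Nat.dvd_prime Nat.prime_two).1 (orderOf_dvd_of_pow_eq_one h2)).resolve_right fun e2 => ?_
    have := hDodd.of_dvd_nat (Subgroup.orderOf_dvd_natCard D (hAD hxA))
    rw [e2] at this
    exact absurd this (by decide)
  set C := D ⊓ centralizer ({t} : Set G) with hCdef
  have hCA : ∀ g : D, (g : G) ∈ C → g ∈ A' → g = 1 := fun g hg hgA => by
    have h1 : (g : G) ∈ A ⊓ centralizer ({t} : Set G) :=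
      mem_inf.2 ⟨⟨g, hgA, rfl⟩, (mem_inf.1 hg).2⟩
    rw [hAt, mem_bot] at h1
    exact Subtype.ext h1
  have hCinj : Function.Injective (σ.comp (inclusion inf_le_left : C →* D)) := by
    refine (injective_iff_map_eq_one _).2 fun g hg => Subtype.ext ?_
    have h1 := hCA (inclusion inf_le_left g) g.2 hg
    exact congrArg (fun z : D => (z : G)) h1
  have hCcyc : IsCyclic C := by
    haveI : IsCyclic (F ≃+* F) := (Cfsg.Lib.Known.FieldLight.ringAut_facts 2 n hn).1
    exact isCyclic_of_injective _ hCinj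
  have hCn : Nat.card C ∣ n :=
    (Cfsg.Lib.Known.FieldLight.ringAut_facts (F := F) 2 n hn).2 ▸ card_dvd_of_injective _ hCinj
  have hsup : A ⊔ C = D := by
    refine Subgroup.eq_of_le_of_card_ge (sup_le hAD inf_le_left) ?_
    have hd : Nat.card A * Nat.card C = Nat.card D := by
      rw [hAeq, mul_comm]
      exact card_centralizer_swapper hH hac.symm ht htc
    rw [← hd, ← Nat.card_prod]
    refine Nat.card_le_card_of_injective
      (fun z : A × C => (⟨(z.1 : G) * z.2, mul_mem (mem_sup_left z.1.2) (mem_sup_right z.2.2)⟩ :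
        (A ⊔ C : Subgroup G))) ?_
    rintro ⟨x, y⟩ ⟨x', y'⟩ h
    have h1 : (x : G) * y = x' * y' := congrArg Subtype.val h
    have h2 : (x' : G)⁻¹ * x ∈ A ⊓ centralizer ({t} : Set G) :=
      mem_inf.2 ⟨mul_mem (inv_mem x'.2) x.2, by
        rw [show (x' : G)⁻¹ * x = y' * (y : G)⁻¹ by
          rw [eq_mul_inv_iff_mul_eq, mul_assoc, h1, inv_mul_cancel_left]]
        exact mul_mem (mem_inf.1 y'.2).2 (inv_mem (mem_inf.1 y.2).2)⟩
    rw [hAt, mem_bot, inv_mul_eq_one] at h2
    have h3 : (y : G) = y' := mul_left_cancel (h2 ▸ h1)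
    exact Prod.ext (Subtype.ext h2.symm) (Subtype.ext h3)
  refine ⟨A, hAD, ?_, (A'.equivMapOfInjective _ D.subtype_injective).isCyclic.1 hA'cyc, hAeq, hAinv,
    fun y hy hinv => ⟨⟨y, hy⟩, hinvA _ (Subtype.ext hinv), rfl⟩, ?_, ?_, hAt, hsup, hCcyc, ⟨n, by rw [← hn, hcardF], hCn⟩, ?_⟩
  · intro g hg
    refine Cfsg.Lib.ZStarApps.mem_normalizer_of_maps ?_
    rintro _ ⟨x, hx, rfl⟩
    exact ⟨⟨g, hg⟩ * x * ⟨g, hg⟩⁻¹, (MonoidHom.normal_ker σ).conj_mem x hx _, rfl⟩
  · intro u hu w hw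
    set eu := e ⟨u, subset_closure hu⟩
    set ew := e ⟨w, subset_closure hw⟩
    have hne : ∀ i, ∀ hi : i ∈ invsAt c, e ⟨i, subset_closure hi⟩ ≠ 0 := fun i hi h0 => by
      have h1 : i = 1 := congrArg Subtype.val (he.1 (h0.trans he1.symm))
      have h2 := hi.1
      rw [h1, orderOf_one] at h2
      simp at h2
    obtain ⟨x, hx⟩ := hφsurj (Units.mk0 (ew / eu) (div_ne_zero (hne w hw) (hne u hu)))
    refine ⟨((x : D) : G), ⟨x, x.2, rfl⟩, ?_⟩
    have hαx : α (x : D) = ew / eu := congrArg Units.val hx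
    have h1 := heq (x : D) ⟨u, subset_closure hu⟩
    rw [hker _ x.2, hαx, div_mul_cancel₀ _ (hne u hu)] at h1
    exact congrArg Subtype.val (he.1 h1)
  · rintro _ ⟨x, hx, rfl⟩ u hu hcomm
    have h1 := (hfix x ⟨u, subset_closure hu⟩).2 hcomm
    rw [heq, hker x hx] at h1
    have h2 : e ⟨u, subset_closure hu⟩ ≠ 0 := fun h0 => by
      have h1 : u = 1 := congrArg Subtype.val (he.1 (h0.trans he1.symm))
      have h2 := hu.1
      rw [h1, orderOf_one] at h2
      simp at h2
    have h3 : α x = 1 := mul_right_cancel₀ h2 (h1.trans (one_mul _).symm)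
    have h4 : x = 1 := hfaith x fun y => by rw [h3, one_mul, hker x hx]
    rw [h4]
    rfl
  -- a fixed point of `C`
  haveI : Fintype C := Fintype.ofFinite C
  let κ : C → D := fun g => inclusion inf_le_left g
  let χ : C → (F →* F) := fun g => ((σ (κ g) : F ≃+* F).toRingHom.toMonoidHom)
  have hχ : Function.Injective χ := by
    intro g g' h
    have h1 : σ (κ g) = σ (κ g') := RingEquiv.ext fun y => DFunLike.congr_fun h y
    have h2 := hCA (κ g * (κ g')⁻¹) (mul_mem g.2 (inv_mem g'.2))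
      (MonoidHom.mem_ker.2 (by rw [map_mul, map_inv, h1, mul_inv_cancel]))
    rw [mul_inv_eq_one] at h2
    exact Subtype.ext (congrArg (fun z : D => (z : G)) h2)
  have hli := Fintype.linearIndependent_iff.1 ((linearIndependent_monoidHom F F).comp χ hχ)
    fun g => α (κ g)
  obtain ⟨x, hx⟩ : ∃ x : F, ∑ g : C, α (κ g) * σ (κ g) x ≠ 0 := by
    by_contra hall
    push Not at hall
    refine hα (κ 1) (hli ?_ 1)
    funext y
    simp only [Finset.sum_apply, Pi.smul_apply, Function.comp_apply, smul_eq_mul, Pi.zero_apply]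
    exact hall y
  obtain ⟨⟨v, hv⟩, hev⟩ := he.2 (∑ g : C, α (κ g) * σ (κ g) x)
  have hv1 : v ≠ 1 := fun h => hx (by
    rw [← hev, show (⟨v, hv⟩ : U) = 1 from Subtype.ext h, he1])
  refine ⟨v, ((mem_invGroup_iff hC c).1 hv).resolve_left hv1, fun h hh => ?_⟩
  refine (hfix (κ ⟨h, hh⟩) ⟨v, hv⟩).1 ?_
  rw [heq, hev, map_sum, Finset.mul_sum]
  refine Fintype.sum_equiv (Equiv.mulLeft (⟨h, hh⟩ : C)) _ _ fun g => ?_
  rw [Equiv.coe_mulLeft, map_mul, ← mul_assoc]
  exact (hcomp (κ ⟨h, hh⟩) (κ g) x).symm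

/-- the shape of a faithful `D`: `A` is regular on the involutions at `c`, the stabiliser of each
of them is the centraliser of a swapper inverting `A`, and is cyclic of order dividing `n`, where
`|U| = 2 ^ n` -/
theorem exists_singer_shape (hS : Setting H) (hC : CommAt H) {c a : G ⧸ H} (hac : a ≠ c)
    (hD0 : centGroup c ⊓ stabilizer G a = ⊥) :
    ∃ (A : Subgroup G) (n : ℕ), invCount H + 1 = 2 ^ n ∧
      A ≤ stabilizer G c ⊓ stabilizer G a ∧
      stabilizer G c ⊓ stabilizer G a ≤ normalizer (A : Set G) ∧ IsCyclic A ∧ IsMulCommutative A ∧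
      Nat.card A = invCount H ∧
      (∀ v w : G, v ∈ invsAt c → w ∈ invsAt c → ∃! d, d ∈ A ∧ d * v * d⁻¹ = w) ∧
      ∀ v ∈ invsAt c, ∃ t : G, orderOf t = 2 ∧ t • c = a ∧ (∀ x ∈ A, t * x * t⁻¹ = x⁻¹) ∧
        stabilizer G c ⊓ stabilizer G a ⊓ centralizer ({v} : Set G) =
          stabilizer G c ⊓ stabilizer G a ⊓ centralizer ({t} : Set G) ∧
        A ⊔ stabilizer G c ⊓ stabilizer G a ⊓ centralizer ({v} : Set G) =
          stabilizer G c ⊓ stabilizer G a ∧
        A ⊓ centralizer ({v} : Set G) = ⊥ ∧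
        IsCyclic ↥(stabilizer G c ⊓ stabilizer G a ⊓ centralizer ({v} : Set G)) ∧
        Nat.card ↥(stabilizer G c ⊓ stabilizer G a ⊓ centralizer ({v} : Set G)) ∣ n := by
  have hH := hS.se
  obtain ⟨t, ht, htc⟩ := exists_swapper hH hac.symm
  obtain ⟨A, hAD, hnorm, hcyc, hcard, hinv, hall, htrans, hfree, hAt, hsup, -, ⟨n, hn, -⟩, u, hu, hCu⟩ :=
    exists_singer hS hC hac ht htc hD0
  set D := stabilizer G c ⊓ stabilizer G a with hD
  haveI hcomm : IsMulCommutative A := inferInstance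
  refine ⟨A, n, hn, hAD, hnorm, hcyc, hcomm, hcard, fun v w hv hw => ?_, fun v hv => ?_⟩
  · obtain ⟨d, hd, hdv⟩ := htrans v hv w hw
    refine ⟨d, ⟨hd, hdv⟩, fun d' ⟨hd', hdv'⟩ => ?_⟩
    have h1 := hfree (d⁻¹ * d') (mul_mem (inv_mem hd) hd') v hv (by
      refine mul_inv_eq_iff_eq_mul.1 ?_
      rw [show d⁻¹ * d' * v * (d⁻¹ * d')⁻¹ = d⁻¹ * (d' * v * d'⁻¹) * d by group, hdv', ← hdv]
      group)
    exact (inv_mul_eq_one.1 h1).symm
  -- a swapper attached to `v`
  obtain ⟨x, hx, hxv⟩ := htrans u hu v hv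
  obtain ⟨hxc, hxa⟩ := mem_inf.1 (hAD hx)
  set t' := x * t * x⁻¹ with ht'
  have ht'2 : orderOf t' = 2 := by rw [ht', orderOf_conj', ht]
  have ht'c : t' • c = a := by
    rw [ht', mul_smul, mul_smul, inv_smul_eq_iff.2 (mem_stabilizer_iff.1 hxc).symm, htc,
      mem_stabilizer_iff.1 hxa]
  have ht'inv : ∀ y ∈ A, t' * y * t'⁻¹ = y⁻¹ := by
    intro y hy
    have hxy : x⁻¹ * y * x = y := by
      have hc := setLike_mul_comm (s := A) hx hy
      rw [mul_assoc, ← hc, inv_mul_cancel_left]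
    rw [ht', show x * t * x⁻¹ * y * (x * t * x⁻¹)⁻¹ = x * (t * (x⁻¹ * y * x) * t⁻¹) * x⁻¹ by group,
      hxy, hinv y hy]
    have hc := setLike_mul_comm (s := A) hx (inv_mem hy)
    rw [hc, mul_inv_cancel_right]
  obtain ⟨A', hA'D, -, -, hcard', -, hall', -, -, -, hsup', hcyc', ⟨n', hn', hdvd⟩, -⟩ :=
    exists_singer hS hC hac ht'2 ht'c hD0
  have hAA : A' = A := le_antisymm (fun y hy => hall y (hA'D hy) (by
      -- `A'` contains `A`, and both have order `m`
      have hsub : A ≤ A' := fun z hz => hall' z (hAD hz) (ht'inv z hz)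
      have hcA' : Nat.card A' ≤ Nat.card A := by
        rw [hcard, hcard']
      rw [← Subgroup.eq_of_le_of_card_ge hsub hcA'] at hy
      exact hinv y hy)) fun y hy => hall' y (hAD hy) (ht'inv y hy)
  have hn'n : n' = n := Nat.pow_right_injective le_rfl (hn'.symm.trans hn)
  have heq : D ⊓ centralizer ({v} : Set G) = D ⊓ centralizer ({t'} : Set G) := by
    refine (Subgroup.eq_of_le_of_card_ge (fun g hg => mem_inf.2 ⟨(mem_inf.1 hg).1, ?_⟩) ?_).symm
    · obtain ⟨hgD, hgt⟩ := mem_inf.1 hg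
      have h1 : Commute g t' := mem_centralizer_singleton_iff.1 hgt
      have hg' : x⁻¹ * g * x ∈ D ⊓ centralizer ({t} : Set G) := by
        refine mem_inf.2 ⟨mul_mem (mul_mem (inv_mem (hAD hx)) hgD) (hAD hx),
          mem_centralizer_singleton_iff.2 ?_⟩
        have h2 := h1.map (MulAut.conj x⁻¹).toMonoidHom
        simpa [ht', mul_assoc] using h2.eq
      have h3 := (hCu _ hg').map (MulAut.conj x).toMonoidHom
      refine mem_centralizer_singleton_iff.2 ?_
      rw [← hxv]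
      simpa [mul_assoc] using h3.eq
    · refine le_of_eq (Nat.eq_of_mul_eq_mul_right (invCount_pos hH) ?_)
      rw [hD, card_centralizer_fixing hH hac.symm hv.1 hv.2,
        card_centralizer_swapper hH hac.symm ht'2 ht'c]
  refine ⟨t', ht'2, ht'c, ht'inv, heq, ?_, ?_, ?_, ?_⟩
  · rw [heq, ← hAA]; exact hsup'
  · refine eq_bot_iff.2 fun y hy => ?_
    rw [mem_bot]
    exact hfree y (mem_inf.1 hy).1 v hv (mem_centralizer_singleton_iff.1 (mem_inf.1 hy).2)
  · rw [heq]; exact hcyc'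
  · rw [heq, ← hn'n]; exact hdvd

/-- if an `r`-element `x` of a faithful `D` centralises exactly one involution `u` at `c`, then
`|U| = 2 ^ (r ^ i)` and `C_D(u) = ⟨x⟩` has order `r ^ i` -/
theorem exists_generator_of_unique (hS : Setting H) (hC : CommAt H) {c a : G ⧸ H} (hac : a ≠ c)
    (hD0 : centGroup c ⊓ stabilizer G a = ⊥) {r : ℕ} [Fact r.Prime] {x : G}
    (hx : x ∈ stabilizer G c ⊓ stabilizer G a) (hxr : IsPGroup r (zpowers x)) {u : G}
    (hu : u ∈ invsAt c) (hxu : Commute x u)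
    (huniq : ∀ w ∈ invsAt c, Commute x w → w = u) :
    ∃ i : ℕ, invCount H + 1 = 2 ^ r ^ i ∧ orderOf x = r ^ i ∧
      stabilizer G c ⊓ stabilizer G a ⊓ centralizer ({u} : Set G) = zpowers x := by
  classical
  have hH := hS.se
  set D := stabilizer G c ⊓ stabilizer G a with hD
  set U := invGroup G c
  have hDodd : Odd (Nat.card D) := odd_stabilizer_inf hH hac.symm
  have hDU : D ≤ normalizer (U : Set G) := inf_le_left.trans (stabilizer_le_normalizer_invGroup c)
  have huU : u ∈ U := subset_closure hu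
  have hu1 : u ≠ 1 := fun h => by
    have h2 := hu.1
    rw [h, orderOf_one] at h2
    simp at h2
  obtain ⟨F, hField, hFin, e, σ, α, he, headd, hα, heq⟩ := exists_semilinear hDodd hDU
    (fun v hv => invGroup_mul_self hC c hv) (fun h => hu1 (by rwa [h, mem_bot] at huU))
    (fun v hv w hw hv1 hw1 => by
      obtain ⟨h2, h3⟩ := ((mem_invGroup_iff hC c).1 hv).resolve_left hv1
      obtain ⟨h4, h5⟩ := ((mem_invGroup_iff hC c).1 hw).resolve_left hw1
      obtain ⟨d, hd, hdu⟩ := exists_conj_centre hH hac.symm h2 h3 h4 h5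
      exact ⟨d, hd, hdu⟩)
  letI := hField
  letI := hFin
  have hcardF : Nat.card F = invCount H + 1 := by
    rw [← Nat.card_eq_of_bijective e he, card_invGroup hC c hH]
  haveI : Fact (Nat.Prime 2) := ⟨Nat.prime_two⟩
  obtain ⟨n, hn⟩ := IsPGroup.iff_card.1 (fun v : U => ⟨1, Subtype.ext (by
      rw [pow_one, Subgroup.coe_pow, pow_two, invGroup_mul_self hC c v.2, Subgroup.coe_one])⟩ :
      IsPGroup 2 U)
  rw [Nat.card_eq_of_bijective e he] at hn
  have hnF : Fintype.card F = 2 ^ n := by rw [← Nat.card_eq_fintype_card, hn]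
  haveI : CharP F 2 := by
    obtain ⟨p', hp'⟩ := CharP.exists F
    obtain ⟨k, hpp, hk⟩ := FiniteField.card F p'
    have : p' = 2 := (Nat.prime_dvd_prime_iff_eq hpp Nat.prime_two).1
      (hpp.dvd_of_dvd_pow (hnF ▸ hk ▸ dvd_pow_self p' k.ne_zero))
    exact this ▸ hp'
  haveI : Finite (F ≃+* F) := Finite.of_injective (fun z => (z : F → F)) DFunLike.coe_injective
  have he1 : e 1 = 0 := by
    have h := headd 1 1
    rw [mul_one] at h
    exact (add_eq_left.1 h.symm)
  have heu : e ⟨u, huU⟩ ≠ 0 := fun h => hu1 (congrArg Subtype.val (he.1 (h.trans he1.symm)))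
  have hfix : ∀ d : D, ∀ v : U, (α d * σ d (e v) = e v) ↔ Commute (d : G) v := fun d v => by
    rw [← heq, he.1.eq_iff, Subtype.ext_iff]
    show (d : G) * v * (d : G)⁻¹ = v ↔ (d : G) * v = v * d
    exact mul_inv_eq_iff_eq_mul
  -- the fixed field of `σ x` has two elements
  obtain ⟨hdn, L, hL, hLcard⟩ := exists_fixed_field hnF (σ ⟨x, hx⟩)
  have hLtwo : ∀ y ∈ L, y = 0 ∨ y = 1 := by
    intro y hy
    obtain ⟨⟨v, hv⟩, hev⟩ := he.2 (y * e ⟨u, huU⟩)
    have h1 := (hfix ⟨x, hx⟩ ⟨v, hv⟩).1 (by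
      rw [hev, map_mul, (hL y).1 hy, mul_left_comm, (hfix ⟨x, hx⟩ ⟨u, huU⟩).2 hxu])
    by_cases hv1 : v = 1
    · refine Or.inl ?_
      rw [show (⟨v, hv⟩ : U) = 1 from Subtype.ext hv1, he1] at hev
      exact (mul_eq_zero.1 hev.symm).resolve_right heu
    · refine Or.inr ?_
      have h2 := huniq v (((mem_invGroup_iff hC c).1 hv).resolve_left hv1) h1
      subst h2
      exact (mul_eq_right₀ heu).1 hev.symm
  have hsub : (L : Set F) ⊆ {0, 1} := fun y hy => hLtwo y hy
  have hle : Nat.card L ≤ 2 := by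
    show Nat.card ↥(L : Set F) ≤ 2
    rw [Nat.card_coe_set_eq]
    exact (Set.ncard_le_ncard hsub (Set.toFinite _)).trans
      ((Set.ncard_insert_le _ _).trans (by rw [Set.ncard_singleton]))
  have hd1 : n / orderOf (σ ⟨x, hx⟩) ≤ 1 := by
    rw [hLcard] at hle
    by_contra hgt
    have h4 : 2 ^ 2 ≤ 2 ^ (n / orderOf (σ ⟨x, hx⟩)) := Nat.pow_le_pow_right two_pos (by omega)
    omega
  have hn0 : n ≠ 0 := fun h => by
    rw [h, pow_zero, hcardF] at hn
    have := invCount_pos hH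
    omega
  have hord : orderOf (σ ⟨x, hx⟩) = n := by
    obtain ⟨k, hk⟩ := hdn
    have hpos := orderOf_pos (σ ⟨x, hx⟩)
    have hk1 : k ≤ 1 := by
      calc k = n / orderOf (σ ⟨x, hx⟩) := by rw [hk, Nat.mul_div_cancel_left _ hpos]
        _ ≤ 1 := hd1
    interval_cases k <;> omega
  -- `C_D(u)` embeds into the field automorphisms
  set C := D ⊓ centralizer ({u} : Set G) with hC'
  let ψ : C →* (F ≃+* F) := σ.comp (inclusion inf_le_left)
  have hψ : Function.Injective ψ := by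
    refine (injective_iff_map_eq_one ψ).2 fun g hg => ?_
    have hgu : Commute (g : G) u := mem_centralizer_singleton_iff.1 (mem_inf.1 g.2).2
    have h1 := (hfix ⟨g, (mem_inf.1 g.2).1⟩ ⟨u, huU⟩).2 hgu
    have hσ : σ ⟨(g : G), (mem_inf.1 g.2).1⟩ = 1 := hg
    rw [hσ] at h1
    have hαg : α ⟨(g : G), (mem_inf.1 g.2).1⟩ = 1 := (mul_eq_right₀ heu).1 h1
    refine Subtype.ext ?_
    have hmem : (g : G) ∈ centGroup c ⊓ stabilizer G a := by
      refine mem_inf.2 ⟨mem_centGroup_iff.2 ⟨mem_stabilizer_iff.1 (mem_inf.1 (mem_inf.1 g.2).1).1,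
        fun i hi hic => ?_⟩, (mem_inf.1 (mem_inf.1 g.2).1).2⟩
      refine (hfix ⟨g, (mem_inf.1 g.2).1⟩ ⟨i, subset_closure ⟨hi, hic⟩⟩).1 ?_
      rw [hαg, hσ, one_mul]
      rfl
    rw [hD0, mem_bot] at hmem
    exact hmem
  have hxC : x ∈ C := mem_inf.2 ⟨hx, mem_centralizer_singleton_iff.2 hxu⟩
  have hox : orderOf x = n := by
    rw [← hord, ← Subgroup.orderOf_mk (a := x) hxC]
    exact (orderOf_injective ψ hψ ⟨x, hxC⟩).symm
  obtain ⟨i, hi⟩ := IsPGroup.iff_orderOf.1 hxr ⟨x, mem_zpowers x⟩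
  rw [Subgroup.orderOf_mk, hox] at hi
  refine ⟨i, by rw [← hcardF, hn, hi], hox.trans hi, ?_⟩
  refine (Subgroup.eq_of_le_of_card_ge (zpowers_le.2 hxC) ?_).symm
  rw [Nat.card_zpowers, hox]
  exact (Nat.card_le_card_of_injective ψ hψ).trans
    (Cfsg.Lib.Known.FieldLight.ringAut_facts 2 n hnF).2.le

end Cfsg.Lib.BenderSE
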