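/-
A solvable Hall subgroup `D` controlling the fusion of its elements of prime power order through
centralising elements of order prime to `|D|` has a characteristic complement (iterated transfer).
-/
import Mathlib.GroupTheory.Focal
import Mathlib.GroupTheory.Solvable
import Mathlib.Data.Nat.Factorization.PrimePow
import Mathlib.Tactic.Ring

set_option autoImplicit false
set_option linter.unusedSectionVars false
set_option linter.style.haveILetI false

namespace Cfsg.Lib.BenderSE

open Subgroup

universe u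

/-- the elements centralising `x` of order prime to `d` generate this group -/
def coprimeCentralizer {K : Type u} [Group K] (d : ℕ) (x : K) : Subgroup K :=
  closure {c | Commute c x ∧ (orderOf c).Coprime d}

/-- fusion in `D` is controlled by the groups `coprimeCentralizer` -/
def ControlsPrimePowers {K : Type u} [Group K] (D : Subgroup K) : Prop :=
  ∀ x ∈ D, IsPrimePow (orderOf x) → ∀ g : K, g⁻¹ * x * g ∈ D →
    ∃ c ∈ coprimeCentralizer (Nat.card D) x, c⁻¹ * g ∈ D

theorem commute_of_mem_coprimeCentralizer {K : Type u} [Group K] {d : ℕ} {x c : K}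
    (hc : c ∈ coprimeCentralizer d x) : Commute c x := by
  induction hc using closure_induction with
  | mem z hz => exact hz.1
  | one => exact Commute.one_left x
  | mul p q _ _ hp hq => exact hp.mul_left hq
  | inv p _ hp => exact hp.inv_left

/-- an element of an abelian group killed by enough cofactors is trivial -/
theorem eq_one_of_cofactors {A : Type*} [Monoid A] {δ : A} {n : ℕ} (hn : n ≠ 0) (h : δ ^ n = 1)
    (hl : ∀ l : ℕ, l.Prime → l ∣ n → δ ^ (n / l ^ n.factorization l) = 1) : δ = 1 := by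
  rw [← orderOf_eq_one_iff]
  by_contra hne
  obtain ⟨l, hlp, hld⟩ := Nat.exists_prime_and_dvd hne
  have hln : l ∣ n := hld.trans (orderOf_dvd_of_pow_eq_one h)
  exact Nat.not_dvd_ordCompl hlp hn (hld.trans (orderOf_dvd_of_pow_eq_one (hl l hlp hln)))

/-- a normal subgroup whose order is prime to its index is characteristic -/
theorem characteristic_of_coprime {K : Type u} [Group K] [Finite K] {N : Subgroup K} [N.Normal]
    (h : (Nat.card N).Coprime N.index) : N.Characteristic := by
  refine characteristic_iff_map_le.2 fun φ => ?_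
  intro x hx
  obtain ⟨y, hy, rfl⟩ := hx
  show φ y ∈ N
  rw [← QuotientGroup.eq_one_iff (N := N), ← orderOf_eq_one_iff]
  refine Nat.eq_one_of_dvd_coprimes h ?_ ?_
  · refine (orderOf_map_dvd (QuotientGroup.mk' N) (φ y)).trans ?_
    rw [MulEquiv.orderOf_eq]
    exact Subgroup.orderOf_dvd_natCard N hy
  · rw [index_eq_card]
    exact _root_.orderOf_dvd_natCard _

/-- one transfer step -/
theorem exists_transfer_kernel {K : Type u} [Group K] [Finite K] {D : Subgroup K}
    (hcop : (Nat.card D).Coprime D.index) (hctl : ControlsPrimePowers D) :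
    ∃ N : Subgroup K, N.Normal ∧ N ⊓ D = (_root_.commutator D).map D.subtype ∧ N ⊔ D = ⊤ ∧
      ∀ c : K, (orderOf c).Coprime (Nat.card D) → c ∈ N := by
  classical
  let φ : D →* Abelianization D := Abelianization.of
  have hfus : ∀ x : D, ∀ g : K, ∀ hx : g⁻¹ * (x : K) * g ∈ D, φ ⟨g⁻¹ * (x : K) * g, hx⟩ = φ x := by
    intro x g hx
    set y : D := ⟨g⁻¹ * (x : K) * g, hx⟩ with hy
    rw [← div_eq_one]
    refine eq_one_of_cofactors (n := orderOf x) (orderOf_pos x).ne' ?_ fun l hl hln => ?_
    · have hy1 : y ^ orderOf x = 1 := by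
        apply Subtype.ext
        rw [Subgroup.coe_pow, hy, ← Subgroup.orderOf_coe]
        have := conj_pow (a := g⁻¹) (b := (x : K)) (i := orderOf (x : K))
        rw [inv_inv] at this
        rw [this, pow_orderOf_eq_one, mul_one, inv_mul_cancel, Subgroup.coe_one]
      rw [div_pow, ← map_pow, ← map_pow, hy1, pow_orderOf_eq_one, map_one, div_one]
    set e := orderOf x / l ^ (orderOf x).factorization l with he
    have hpp : IsPrimePow (orderOf ((x : K) ^ e)) := by
      rw [← Subgroup.coe_pow, Subgroup.orderOf_coe, orderOf_pow' _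
        (Nat.ordCompl_pos l (orderOf_pos x).ne').ne', Nat.gcd_eq_right (Nat.ordCompl_dvd _ l),
        Nat.div_div_self (Nat.ordProj_dvd _ l) (orderOf_pos x).ne']
      exact hl.isPrimePow.pow (hl.factorization_pos_of_dvd (orderOf_pos x).ne' hln).ne'
    have hpow : g⁻¹ * (x : K) ^ e * g = ((y ^ e : D) : K) := by
      rw [Subgroup.coe_pow, hy]
      have := conj_pow (a := g⁻¹) (b := (x : K)) (i := e)
      rw [inv_inv] at this
      exact this.symm
    obtain ⟨c, hc, hcg⟩ := hctl _ (pow_mem x.2 e) hpp g (hpow ▸ (y ^ e).2)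
    have hd : ((⟨c⁻¹ * g, hcg⟩ : D)⁻¹ * x ^ e * ⟨c⁻¹ * g, hcg⟩ : D) = y ^ e := by
      apply Subtype.ext
      rw [← hpow]
      push_cast
      rw [mul_inv_rev, inv_inv,
        show g⁻¹ * c * (x : K) ^ e * (c⁻¹ * g) = g⁻¹ * (c * (x : K) ^ e) * c⁻¹ * g by group,
        (commute_of_mem_coprimeCentralizer hc).eq]
      group
    rw [div_pow, ← map_pow, ← map_pow, ← hd, div_eq_one, map_mul, map_mul, map_inv,
      mul_comm (φ ⟨c⁻¹ * g, hcg⟩)⁻¹, inv_mul_cancel_right]
  let V : K →* Abelianization D := MonoidHom.transfer φ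
  have hV : ∀ x : D, V x = φ x ^ D.index := by
    intro x
    haveI : Fintype (Quotient (MulAction.orbitRel (zpowers (x : K)) (K ⧸ D))) := Fintype.ofFinite _
    show MonoidHom.transfer φ (x : K) = _
    rw [index_eq_sum_minimalPeriod D (x : K), ← Finset.prod_pow_eq_pow_sum,
      MonoidHom.transfer_eq_prod_quotient_orbitRel_zpowers_quot]
    refine Finset.prod_congr rfl fun q _ => ?_
    rw [← map_pow]
    exact hfus (x ^ _) _ _
  have hcard : Nat.card (Abelianization D) ∣ Nat.card D :=
    Subgroup.card_quotient_dvd_card _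
  have hpow : Function.Bijective fun a : Abelianization D => a ^ D.index :=
    (powCoprime ((hcop.coprime_dvd_left hcard))).bijective
  refine ⟨V.ker, inferInstance, ?_, ?_, fun c hc => ?_⟩
  · ext z
    constructor
    · rintro ⟨hz, hzD⟩
      refine ⟨⟨z, hzD⟩, ?_, rfl⟩
      rw [← Abelianization.ker_of]
      show φ ⟨z, hzD⟩ = 1
      apply hpow.1
      show φ ⟨z, hzD⟩ ^ D.index = 1 ^ D.index
      rw [← hV, one_pow]
      exact hz
    · rintro ⟨w, hw, rfl⟩
      refine ⟨MonoidHom.mem_ker.2 ?_, w.2⟩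
      rw [← Abelianization.ker_of] at hw
      show V (w : K) = 1
      rw [hV, show φ w = 1 from hw, one_pow]
  · refine eq_top_iff.2 fun z _ => ?_
    obtain ⟨a, ha⟩ := hpow.2 (V z)
    obtain ⟨w, rfl⟩ := QuotientGroup.mk'_surjective _ a
    have h1 : z * (w : K)⁻¹ ∈ V.ker := by
      rw [MonoidHom.mem_ker, map_mul, map_inv, hV, mul_inv_eq_one]
      exact ha.symm
    have := mul_mem (mem_sup_left (T := D) h1) (mem_sup_right (S := V.ker) w.2)
    rwa [inv_mul_cancel_right] at this
  · rw [MonoidHom.mem_ker, ← orderOf_eq_one_iff]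
    exact Nat.eq_one_of_dvd_coprimes hc (orderOf_map_dvd V c) ((_root_.orderOf_dvd_natCard _).trans hcard)

/-- THE COMPLEMENT -/
theorem exists_characteristic_complement : ∀ (n : ℕ) {K : Type u} [Group K] [Finite K]
    (D : Subgroup K), Nat.card D = n → Group.IsSolvable D → (Nat.card D).Coprime D.index →
    ControlsPrimePowers D → ∃ N : Subgroup K, N.Characteristic ∧ N ⊓ D = ⊥ ∧ N ⊔ D = ⊤ := by
  intro n
  induction n using Nat.strong_induction_on with
  | _ n ih =>
  intro K _ _ D hn hsol hcop hctl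
  by_cases hD : D = ⊥
  · exact ⟨⊤, inferInstance, by rw [hD, inf_bot_eq], by rw [top_sup_eq]⟩
  haveI := hsol
  haveI : Nontrivial D := (Subgroup.nontrivial_iff_ne_bot D).2 hD
  obtain ⟨N₁, hN₁, hinf, hsup, hπ⟩ := exists_transfer_kernel hcop hctl
  haveI := hN₁
  set D' := (_root_.commutator D).map D.subtype with hD'
  have hD'N : D' ≤ N₁ := hinf ▸ inf_le_left
  have hD'D : D' ≤ D := map_subtype_le _
  have hlt : Nat.card D' < Nat.card D := by
    have h := Group.IsSolvable.commutator_lt_top_of_nontrivial D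
    rw [hD', card_map_of_injective D.subtype_injective]
    refine lt_of_le_of_ne (Subgroup.card_le_card_group _) fun e => h.ne ?_
    exact (Subgroup.card_eq_iff_eq_top _).1 e
  set D₁ := D'.subgroupOf N₁ with hD₁
  have hcard₁ : Nat.card D₁ = Nat.card D' := Nat.card_congr (subgroupOfEquivOfLe hD'N).toEquiv
  have hidx : D₁.index = D.index := by
    have h0 : N₁.index = N₁.relIndex D := by
      rw [← relIndex_top_right, ← hsup, relIndex_sup_left]
    have h1 : Nat.card (N₁.subgroupOf D) = Nat.card D' := by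
      rw [← card_map_of_injective D.subtype_injective, subgroupOf_map_subtype, hinf]
    have h2 : Nat.card D' * N₁.index = Nat.card D := by
      rw [h0, ← h1]
      exact (N₁.subgroupOf D).card_mul_index
    have h3 := N₁.card_mul_index.trans D.card_mul_index.symm
    have h4 := D₁.card_mul_index
    rw [hcard₁] at h4
    rw [← h2, ← h4] at h3
    have hp : 0 < Nat.card D' * N₁.index := h2 ▸ Nat.card_pos
    refine Nat.eq_of_mul_eq_mul_left hp ?_
    rw [← h3]
    ring
  have hdvd : Nat.card D' ∣ Nat.card D := card_dvd_of_le hD'D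
  haveI hs' : Group.IsSolvable D' :=
    Group.isSolvable_of_isSolvable_injective (inclusion_injective hD'D)
  have hs₁ : Group.IsSolvable D₁ :=
    Group.isSolvable_of_isSolvable_injective (f := (subgroupOfEquivOfLe hD'N).toMonoidHom)
      (subgroupOfEquivOfLe hD'N).injective
  have hc₁ : (Nat.card D₁).Coprime D₁.index := by
    rw [hcard₁, hidx]
    exact hcop.coprime_dvd_left hdvd
  have hctl₁ : ControlsPrimePowers D₁ := by
    intro x hx hxpp g hg
    rw [← Subgroup.orderOf_coe] at hxpp
    obtain ⟨c, hc, hcg⟩ := hctl (x : K) (hD'D (mem_subgroupOf.1 hx)) hxpp (g : K)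
      (hD'D (mem_subgroupOf.1 hg))
    have hle : coprimeCentralizer (Nat.card D) (x : K) ≤
        (coprimeCentralizer (Nat.card D₁) x).map N₁.subtype := (closure_le _).2 fun z hz =>
      ⟨⟨z, hπ z hz.2⟩, subset_closure ⟨Subtype.ext hz.1.eq, by
        rw [hcard₁, Subgroup.orderOf_mk]
        exact hz.2.coprime_dvd_right hdvd⟩, rfl⟩
    obtain ⟨c₁, hc₁, rfl⟩ := hle hc
    refine ⟨c₁, hc₁, mem_subgroupOf.2 ?_⟩
    have h2 := mem_inf.2 ⟨mul_mem (inv_mem c₁.2) g.2, hcg⟩
    rw [hinf] at h2
    exact h2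
  obtain ⟨N₂, hN₂, hinf₂, hsup₂⟩ := ih (Nat.card D') (hn ▸ hlt) D₁ hcard₁ hs₁ hc₁ hctl₁
  set N := N₂.map N₁.subtype with hN
  have hn2 : N ≤ N₁ := map_subtype_le _
  haveI : N.Normal := inferInstance
  have hinfN : N ⊓ D = ⊥ := by
    rw [eq_bot_iff]
    intro z hz
    obtain ⟨⟨w, hw, rfl⟩, hzD⟩ := mem_inf.1 hz
    have h2 : w ∈ D₁ := mem_subgroupOf.2 (hinf ▸ mem_inf.2 ⟨w.2, hzD⟩)
    have h3 : w = 1 := mem_bot.1 (hinf₂ ▸ mem_inf.2 ⟨hw, h2⟩)
    rw [h3]
    exact one_mem _
  have hsupN : N ⊔ D = ⊤ := by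
    rw [eq_top_iff, ← hsup]
    refine sup_le ?_ le_sup_right
    intro z hz
    have h2 : (⟨z, hz⟩ : N₁) ∈ N₂ ⊔ D₁ := hsup₂ ▸ mem_top _
    have h3 := mem_map_of_mem N₁.subtype h2
    rw [Subgroup.map_sup, hD₁, map_subgroupOf_eq_of_le hD'N] at h3
    exact sup_le_sup le_rfl hD'D h3
  have hcomp : N.IsComplement' D :=
    Subgroup.isComplement'_of_disjoint_and_mul_eq_univ (disjoint_iff.2 hinfN)
      (by rw [← Subgroup.normal_mul, hsupN, Subgroup.coe_top])
  refine ⟨N, characteristic_of_coprime ?_, hinfN, hsupN⟩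
  rw [hcomp.symm.index_eq_card, ← hcomp.index_eq_card]
  exact hcop.symm

end Cfsg.Lib.BenderSE
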