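/-
Step 2 of notes/bender_reg_h7.md: if a non-trivial element of a pair stabiliser centralises all
involutions at one of its points, there is a regular normal subgroup.
-/
import Cfsg.Agent.BenderSE.Reg.CentreTwo

set_option autoImplicit false
set_option linter.unusedSectionVars false
set_option linter.style.haveILetI false

namespace Cfsg.Lib.BenderSE

open Subgroup MulAction Cfsg.Lib.InvolCalc Cfsg.Lib.StrongEmb

universe u

variable {G : Type u} [Group G] [Finite G] {H : Subgroup G}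

/-- a normal subgroup of `H` transitive on the other points with trivial point stabiliser -/
theorem hasRegular_of_complement {Q : Subgroup G} {a : G ⧸ H} (hQH : Q ≤ H)
    (hQn : H ≤ normalizer (Q : Set G)) (hQa : Q ⊓ stabilizer G a = ⊥)
    (htr : ∀ b : G ⧸ H, b ≠ QuotientGroup.mk 1 → ∃ q ∈ Q, q • a = b) : HasRegular H := by
  have hne : ∀ g : G, g ∉ H → (QuotientGroup.mk g : G ⧸ H) ≠ QuotientGroup.mk 1 := fun g hg h => by
    rw [QuotientGroup.eq, mul_one, inv_mem_iff] at h
    exact hg h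
  refine ⟨Q, hQH, (normal_subgroupOf_iff_le_normalizer hQH).2 hQn, fun g₁ g₂ h₁ h₂ => ?_,
    fun g hg u hu h => ?_⟩
  · obtain ⟨q₁, hq₁, e₁⟩ := htr _ (hne g₁ h₁)
    obtain ⟨q₂, hq₂, e₂⟩ := htr _ (hne g₂ h₂)
    refine ⟨q₂ * q₁⁻¹, mul_mem hq₂ (inv_mem hq₁), ?_⟩
    have h3 : (q₂ * q₁⁻¹) • (QuotientGroup.mk g₁ : G ⧸ H) = QuotientGroup.mk g₂ := by
      rw [mul_smul, inv_smul_eq_iff.2 e₁.symm, e₂]
    rw [MulAction.Quotient.smul_mk, smul_eq_mul, eq_comm, QuotientGroup.eq] at h3
    exact h3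
  · obtain ⟨q, hq, e⟩ := htr _ (hne g hg)
    have h1 : u • (QuotientGroup.mk g : G ⧸ H) = QuotientGroup.mk g := by
      rw [MulAction.Quotient.smul_mk, smul_eq_mul, eq_comm, QuotientGroup.eq]
      exact h
    have h2 : q⁻¹ * u * q ∈ Q ⊓ stabilizer G a := by
      refine mem_inf.2 ⟨mul_mem (mul_mem (inv_mem hq) hu) hq, mem_stabilizer_iff.2 ?_⟩
      rw [mul_smul, mul_smul, e, h1, ← e, inv_smul_smul]
    rw [hQa, mem_bot] at h2
    calc u = q * (q⁻¹ * u * q) * q⁻¹ := by group
      _ = 1 := by rw [h2, mul_one, mul_inv_cancel]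

/-- STEP 2 -/
theorem hasRegular_of_kernel (hS : Setting H) (hb : NoBad H) (h2 : TwoTransitive H)
    (hct : CentreTwo H) {a : G ⧸ H} (hao : a ≠ QuotientGroup.mk 1)
    (hne : centGroup (QuotientGroup.mk 1 : G ⧸ H) ⊓ stabilizer G a ≠ ⊥) : HasRegular H := by
  set o : G ⧸ H := QuotientGroup.mk 1 with ho
  obtain ⟨Q, hQK, hQn, hQa, hQtop, -, -⟩ := exists_regCore hS hb h2 hct hao
  set K := centGroup o with hK
  have hKH : K ≤ H := inf_le_left.trans_eq stabilizer_mk_one
  have hHn : H ≤ normalizer (Q : Set G) := stabilizer_mk_one.symm.le.trans hQn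
  have hconjK : ∀ g ∈ H, ∀ k ∈ K, g * k * g⁻¹ ∈ K := fun g hg k hk => by
    have h1 := conj_mem_centGroup g hk
    rwa [(smul_mk_one_iff (H := H)).2 hg] at h1
  set E := (stabilizer G a).subgroupOf K with hE
  have hHall := coprime_index_pairKernel hS hb h2 hct hao
  have hE1 : 1 < Nat.card E := by
    rw [Finite.one_lt_card_iff_nontrivial, Subgroup.nontrivial_iff_ne_bot]
    intro e
    rw [hE, ← inf_subgroupOf_right, subgroupOf_eq_bot, disjoint_iff] at e
    refine hne ?_
    rw [inf_assoc, inf_idem, inf_comm] at e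
    exact e
  obtain ⟨r, hr, hrE⟩ := Nat.exists_prime_and_dvd hE1.ne'
  haveI := Fact.mk hr
  have hrI : ¬ r ∣ E.index := fun h => hr.ne_one (Nat.eq_one_of_dvd_coprimes hHall hrE h)
  obtain ⟨PE⟩ : Nonempty (Sylow r E) := inferInstance
  set P := (PE : Subgroup E).map E.subtype with hP
  have hfac : (Nat.card K).factorization r = (Nat.card E).factorization r := by
    rw [← E.card_mul_index, Nat.factorization_mul Nat.card_pos.ne' FiniteIndex.index_ne_zero,
      Finsupp.add_apply, Nat.factorization_eq_zero_of_not_dvd hrI, add_zero]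
  let T : Sylow r K := Sylow.ofCard P (by
    rw [hP, card_map_of_injective E.subtype_injective, Sylow.card_eq_multiplicity, hfac])
  set PG := P.map K.subtype with hPG
  have hPE : P ≤ E := map_subtype_le _
  have hPGX : PG ≤ K ⊓ stabilizer G a := by
    rintro _ ⟨x, hx, rfl⟩
    exact mem_inf.2 ⟨x.2, mem_subgroupOf.1 (hPE hx)⟩
  have hPG1 : PG ≠ ⊥ := fun e => by
    rw [hPG, map_eq_bot_iff_of_injective _ K.subtype_injective, hP,
      map_eq_bot_iff_of_injective _ E.subtype_injective] at e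
    have h1 := PE.card_eq_multiplicity
    rw [e, card_bot] at h1
    exact (Nat.one_lt_pow (Nat.Prime.factorization_pos_of_dvd hr Nat.card_pos.ne' hrE).ne'
      hr.one_lt).ne h1
  obtain ⟨S, hS₀, -, hStr⟩ := exists_twoGroup_transitive hS hb hct hao
    ((PE.isPGroup'.map E.subtype).map K.subtype) hPGX hPG1
  have hPa : a ∈ fixOf (α := G ⧸ H) PG := fun x hx => (mem_inf.1 (hPGX hx)).2
  -- `K` is transitive
  have hKtr : ∀ b : G ⧸ H, b ≠ o → ∃ k ∈ K, k • a = b := by
    intro b hbo
    obtain ⟨g, hgo, hga⟩ := h2 o a b hao hbo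
    have hgH : g ∈ H := (smul_mk_one_iff (H := H)).1 hgo
    let φ : K →* K :=
      { toFun := fun k => ⟨g * k * g⁻¹, hconjK g hgH k k.2⟩
        map_one' := Subtype.ext (by simp)
        map_mul' := fun x y => Subtype.ext (by simp [mul_assoc]) }
    have hφ : Function.Injective φ := fun x y h => Subtype.ext (by
      simpa [φ] using congrArg Subtype.val h)
    let T' : Sylow r K := Sylow.ofCard (P.map φ) (by
      rw [card_map_of_injective hφ, hP, card_map_of_injective E.subtype_injective,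
        Sylow.card_eq_multiplicity, hfac])
    obtain ⟨k, hk⟩ := MulAction.exists_smul_eq K T T'
    set h := (k : G)⁻¹ * g with hh
    have hha : h • a ∈ fixOf (α := G ⧸ H) PG := by
      rintro _ ⟨x, hx, rfl⟩
      have h1 : k * x * k⁻¹ ∈ P.map φ := by
        have h1' : k * x * k⁻¹ ∈ ((k • T : Sylow r K) : Subgroup K) :=
          Subgroup.smul_mem_pointwise_smul x (MulAut.conj k) (T : Subgroup K) hx
        rw [hk] at h1'
        exact h1'
      obtain ⟨y, hy, hyx⟩ := h1
      have h2' : (g * (y : G) * g⁻¹) = (k : G) * x * (k : G)⁻¹ := congrArg Subtype.val hyx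
      have h3 : (h⁻¹ * (x : G) * h) = (y : G) := by
        rw [hh]
        calc ((k : G)⁻¹ * g)⁻¹ * x * ((k : G)⁻¹ * g) = g⁻¹ * ((k : G) * x * (k : G)⁻¹) * g := by group
          _ = g⁻¹ * (g * y * g⁻¹) * g := by rw [h2']
          _ = y := by group
      show (x : G) • h • a = h • a
      have h4 : (y : G) • a = a := mem_stabilizer_iff.1 (mem_subgroupOf.1 (hPE hy))
      rw [← h3, mul_smul, mul_smul, inv_smul_eq_iff] at h4
      exact h4
    have hhH : h ∈ H := mul_mem (inv_mem (hKH k.2)) hgH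
    have hhao : h • a ≠ o := fun e => hao (by
      rw [← inv_smul_eq_iff.2 e.symm]
      exact (smul_mk_one_iff (H := H)).2 (inv_mem hhH))
    obtain ⟨s, hs, hsa⟩ := hStr a hPa _ hha hao hhao
    refine ⟨(k : G) * s, mul_mem k.2 (mem_inf.1 (hS₀ hs)).1, ?_⟩
    rw [mul_smul, hsa, hh, mul_smul, smul_inv_smul, hga]
  refine hasRegular_of_complement (hQK.trans hKH) hHn hQa fun b hbo => ?_
  obtain ⟨k, hk, hka⟩ := hKtr b hbo
  have hn : K ≤ normalizer (Q : Set G) := hKH.trans hHn
  have h1 : k ∈ Q ⊔ (K ⊓ stabilizer G a) := hQtop.symm ▸ hk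
  rw [← SetLike.mem_coe, Subgroup.coe_mul_of_right_le_normalizer_left _ _ (inf_le_left.trans hn)] at h1
  obtain ⟨q, hq, d, hd, rfl⟩ := h1
  exact ⟨q, hq, by rw [← hka, mul_smul, mem_stabilizer_iff.1 (mem_inf.1 hd).2]⟩

end Cfsg.Lib.BenderSE
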