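/-
LEMMA W (notes/bender_reg_h7.md): with no bad element, an `r`-group fixing at least three points is
centralised by an involution at each of them, so its fixed points are the centres of its centraliser;
if that centraliser has two commuting involutions, it is two-transitive on them and so controls the
fusion of the group.
-/
import Cfsg.Agent.BenderSE.Induction

set_option autoImplicit false
set_option linter.unusedSectionVars false
set_option linter.style.haveILetI false

namespace Cfsg.Lib.BenderSE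

open Subgroup MulAction Cfsg.Lib.InvolCalc Cfsg.Lib.StrongEmb

universe u

variable {G : Type u} [Group G] [Finite G] {H : Subgroup G} {r : ℕ}

/-- an involution with centre `p` centralises `R` -/
def CentredIn (R : Subgroup G) (p : G ⧸ H) : Prop :=
  ∃ v : G, orderOf v = 2 ∧ v • p = p ∧ R ≤ centralizer ({v} : Set G)

theorem IsPairSylow.symm {P : Subgroup G} {p q : G ⧸ H} (h : IsPairSylow r P p q) :
    IsPairSylow r P q p := by
  rwa [IsPairSylow, inf_comm]

/-- a Sylow subgroup of a pair stabiliser for a prime not dividing `m` is centralised by an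
involution at each point of the pair -/
theorem centredIn_of_pairSylow (hH : Cfsg.IsStronglyEmbedded H) [Fact r.Prime]
    (hr : ¬ r ∣ invCount H) {P : Subgroup G} {p q : G ⧸ H} (hpq : p ≠ q)
    (hP : IsPairSylow r P p q) : CentredIn P p := by
  obtain ⟨v, hv, hvp⟩ := exists_fixing hH p
  set D := stabilizer G p ⊓ stabilizer G q with hD
  set C := D ⊓ centralizer ({v} : Set G) with hC
  have hcard := card_centralizer_fixing hH hpq hv hvp
  rw [← hD] at hcard
  have hfac : (Nat.card C).factorization r = (Nat.card D).factorization r := by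
    rw [hC, ← hcard, Nat.factorization_mul Nat.card_pos.ne' (invCount_pos hH).ne', Finsupp.add_apply,
      Nat.factorization_eq_zero_of_not_dvd hr, add_zero]
  let S : Sylow r C := Classical.choice inferInstance
  set S₁ : Subgroup D := ((S : Subgroup C).map C.subtype).subgroupOf D with hS₁
  have hle : (S : Subgroup C).map C.subtype ≤ D := (map_subtype_le _).trans inf_le_left
  let T : Sylow r D := Sylow.ofCard S₁ (by
    rw [hS₁, Nat.card_congr (subgroupOfEquivOfLe hle).toEquiv,
      card_map_of_injective C.subtype_injective, Sylow.card_eq_multiplicity, hfac])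
  let P' : Sylow r D := Sylow.ofCard (P.subgroupOf D)
    (by rw [Nat.card_congr (subgroupOfEquivOfLe hP.1).toEquiv, hP.2])
  obtain ⟨g, hg⟩ := MulAction.exists_smul_eq D T P'
  refine ⟨(g : G) * v * (g : G)⁻¹, by rw [orderOf_conj', hv], ?_, ?_⟩
  · have h1 : (g : G) • p = p := (mem_inf.1 g.2).1
    have h2 : ((g : G)⁻¹) • p = p := by rw [inv_smul_eq_iff, h1]
    rw [mul_smul, mul_smul, h2, hvp, h1]
  · intro x hx
    have h1 : x ∈ ((T : Subgroup D).map D.subtype).map (MulAut.conj (g : G)).toMonoidHom := by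
      have h0 : x ∈ (P' : Subgroup D).map D.subtype := by
        rw [show (P' : Subgroup D).map D.subtype = P from map_subgroupOf_eq_of_le hP.1]
        exact hx
      rw [← hg, Cfsg.Lib.Coprime.map_subtype_smul] at h0
      exact h0
    obtain ⟨y, hy, rfl⟩ := h1
    rw [show (T : Subgroup D).map D.subtype = (S : Subgroup C).map C.subtype from
      map_subgroupOf_eq_of_le hle] at hy
    have hyC := (mem_inf.1 (map_subtype_le _ hy)).2
    refine mem_centralizer_singleton_iff.2 ?_
    show (g : G) * y * (g : G)⁻¹ * _ = _ * ((g : G) * y * (g : G)⁻¹)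
    calc (g : G) * y * (g : G)⁻¹ * ((g : G) * v * (g : G)⁻¹) = (g : G) * (y * v) * (g : G)⁻¹ := by group
      _ = (g : G) * (v * y) * (g : G)⁻¹ := by rw [mem_centralizer_singleton_iff.1 hyC]
      _ = (g : G) * v * (g : G)⁻¹ * ((g : G) * y * (g : G)⁻¹) := by group

theorem CentredIn.mono {R R' : Subgroup G} {p : G ⧸ H} (h : CentredIn R' p) (hle : R ≤ R') :
    CentredIn R p :=
  h.imp fun _ hv => ⟨hv.1, hv.2.1, hle.trans hv.2.2⟩

theorem CentredIn.conj {R : Subgroup G} {p : G ⧸ H} (h : CentredIn R p) {g : G}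
    (hg : g ∈ normalizer (R : Set G)) : CentredIn R (g • p) := by
  obtain ⟨v, hv, hvp, hle⟩ := h
  refine ⟨g * v * g⁻¹, by rw [orderOf_conj', hv], by rw [mul_smul, mul_smul, inv_smul_smul, hvp],
    fun x hx => mem_centralizer_singleton_iff.2 ?_⟩
  have h1 := mem_centralizer_singleton_iff.1 (hle ((mem_normalizer_iff''.1 hg x).1 hx))
  calc x * (g * v * g⁻¹) = g * (g⁻¹ * x * g * v) * g⁻¹ := by group
    _ = g * (v * (g⁻¹ * x * g)) * g⁻¹ := by rw [h1]
    _ = g * v * g⁻¹ * x := by group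

theorem mem_normalizer_of_le_centralizer {R : Subgroup G} {v : G}
    (h : R ≤ centralizer ({v} : Set G)) : v ∈ normalizer (R : Set G) :=
  mem_normalizer_of_maps_to fun x hx => by
    rw [← mem_centralizer_singleton_iff.1 (h hx), mul_inv_cancel_right]
    exact hx

/-- LEMMA W -/
theorem centredIn_of_hasThree (hH : Cfsg.IsStronglyEmbedded H) (hb : NoBad H) [Fact r.Prime]
    {R : Subgroup G} (hR : IsPGroup r R) (h3 : HasThree H R) {p : G ⧸ H}
    (hp : p ∈ fixOf (α := G ⧸ H) R) : CentredIn R p := by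
  induction R using WellFoundedGT.induction generalizing p with
  | _ R ih =>
    set F := fixOf (α := G ⧸ H) R with hF
    set N := normalizer (R : Set G) with hN
    -- good points or a group fixing exactly the pair
    have hpair : ∀ u ∈ F, ∀ w ∈ F, u ≠ w → (CentredIn R u ∧ CentredIn R w) ∨
        ∃ R' : Subgroup G, IsPGroup r R' ∧ R' ≤ N ∧ u ∈ fixOf (α := G ⧸ H) R' ∧
          w ∈ fixOf (α := G ⧸ H) R' ∧ ∀ y ∈ fixOf (α := G ⧸ H) R', y = u ∨ y = w := by
      intro u hu w hw huw
      obtain ⟨P, hPp, hP, hRP⟩ := exists_pairSylow_ge hR (le_pair_of_fixed hu hw)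
      rcases eq_or_lt_of_le hRP with rfl | hlt
      · refine Or.inl ?_
        have hr : ¬ r ∣ invCount H := by
          intro hdvd
          have h2 := exactlyTwo_of_noBad hH hb hdvd u w R huw hR hP.1 hP.2
          obtain ⟨a, ha, b, hb', d, hd, hab, had, hbd⟩ := h3
          rw [h2] at ha hb' hd
          rcases ha with rfl | ha <;> rcases hb' with rfl | hb' <;> rcases hd with rfl | hd <;>
            simp_all
        exact ⟨centredIn_of_pairSylow hH hr huw hP, centredIn_of_pairSylow hH hr huw.symm hP.symm⟩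
      have hlt' := lt_inf_normalizer hPp hlt
      set R' := P ⊓ N
      have hu' : u ∈ fixOf (α := G ⧸ H) R' := fun g hg => hP.left g (mem_inf.1 hg).1
      have hw' : w ∈ fixOf (α := G ⧸ H) R' := fun g hg => hP.right g (mem_inf.1 hg).1
      by_cases h3' : HasThree H R'
      · exact Or.inl ⟨(ih R' hlt' (hPp.to_le inf_le_left) h3' hu').mono hlt'.le,
          (ih R' hlt' (hPp.to_le inf_le_left) h3' hw').mono hlt'.le⟩
      · refine Or.inr ⟨R', hPp.to_le inf_le_left, inf_le_right, hu', hw', fun y hy => ?_⟩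
        by_contra hne
        push Not at hne
        exact h3' ⟨u, hu', w, hw', y, hy, huw, Ne.symm hne.1, Ne.symm hne.2⟩
    have htrx : ∀ p ∈ F, ¬ CentredIn R p → ∀ w ∈ F, w ≠ p → ∀ w' ∈ F, w' ≠ p →
        ∃ g ∈ N, g • p = p ∧ g • w = w' := by
      intro p hp hno w hw hwp w' hw' hw'p
      obtain ⟨g, hg, hgw⟩ := gleason (r := r) (N ⊓ stabilizer G p) {y | y ∈ F ∧ y ≠ p}
        (fun g hg y hy => ⟨fixOf_smul (mem_inf.1 hg).1 hy.1, fun e => hy.2
          (smul_left_cancel g (e.trans (mem_stabilizer_iff.1 (mem_inf.1 hg).2).symm))⟩)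
        (fun w hw => by
          rcases hpair p hp w hw.1 (Ne.symm hw.2) with h | ⟨R', hR'p, hR'N, hpR', hwR', honly⟩
          · exact absurd h.1 hno
          refine ⟨R', le_inf hR'N hpR', hR'p, fun y hy => ⟨fun hyR => ?_, fun e => e ▸ hwR'⟩⟩
          exact (honly y hyR).resolve_left hy.2)
        w ⟨hw, hwp⟩ w' ⟨hw', hw'p⟩
      exact ⟨g, (mem_inf.1 hg).1, (mem_inf.1 hg).2, hgw⟩
    -- if one point fails, all fail
    by_contra hno
    have hall : ∀ y ∈ F, ¬ CentredIn R y := by
      intro y hy hgood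
      have hyp : y ≠ p := fun e => hno (e ▸ hgood)
      have hgood' : ∀ w ∈ F, w ≠ p → CentredIn R w := fun w hw hwp => by
        obtain ⟨g, hg, -, hgy⟩ := htrx p hp hno y hy hyp w hw hwp
        exact hgy ▸ hgood.conj hg
      obtain ⟨v, hv, hvy, hvR⟩ := hgood
      have hvN : v ∈ N := mem_normalizer_of_le_centralizer hvR
      by_cases hvp : v • p = p
      · exact hyp (Cfsg.Lib.StrongEmb.eq_of_fixed hH hv hvy hvp)
      have h1 := (hgood' _ (fixOf_smul hvN hp) hvp).conj hvN
      rw [smul_smul, sq_of_order_two hv, one_smul] at h1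
      exact hno h1
    obtain ⟨x, hxF, hxR⟩ : ∃ x ∈ F, True := ⟨p, hp, trivial⟩
    obtain ⟨u₁, hu₁, u₂, hu₂, hu₁x, hu₂x, hu₁₂⟩ : ∃ u ∈ F, ∃ w ∈ F, u ≠ x ∧ w ≠ x ∧ u ≠ w := by
      obtain ⟨a, ha, b, hb', d, hd, hab, had, hbd⟩ := h3
      by_cases h1 : a = x
      · subst h1; exact ⟨b, hb', d, hd, Ne.symm hab, Ne.symm had, hbd⟩
      by_cases h2 : b = x
      · subst h2; exact ⟨a, ha, d, hd, hab, Ne.symm hbd, had⟩
      exact ⟨a, ha, b, hb', h1, h2, hab⟩
    have hto : ∀ y ∈ F, ∃ g ∈ N, g • x = y := by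
      intro y hy
      by_cases h : y = x
      · exact ⟨1, one_mem _, by rw [one_smul, h]⟩
      -- move `x` using a point different from both
      obtain ⟨z, hz, hzx, hzy⟩ : ∃ z ∈ F, z ≠ x ∧ z ≠ y := by
        by_cases h' : u₁ = y
        · exact ⟨u₂, hu₂, hu₂x, fun e => hu₁₂ (h'.trans e.symm)⟩
        · exact ⟨u₁, hu₁, hu₁x, h'⟩
      obtain ⟨g, hg, -, hgx⟩ := htrx z hz (hall z hz) x hxF hzx.symm y hy hzy.symm
      exact ⟨g, hg, hgx⟩
    have hswap : ∀ u ∈ F, ∀ w ∈ F, u ≠ w → ∃ i ∈ N, orderOf i = 2 ∧ i • u = w := by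
      intro u hu w hw huw
      obtain ⟨g₁, hg₁, e₁⟩ := hto u hu
      obtain ⟨g₂, hg₂, e₂⟩ := hto w hw
      set g := g₂ * g₁⁻¹ with hg
      have hgN : g ∈ N := mul_mem hg₂ (inv_mem hg₁)
      have hgu : g • u = w := by
        rw [hg, mul_smul, show g₁⁻¹ • u = x by rw [inv_smul_eq_iff, e₁], e₂]
      have hgw : g • w ≠ w := fun e => huw (smul_left_cancel g (hgu.trans e.symm))
      obtain ⟨k, hk, hkw, hku⟩ := htrx w hw (hall w hw) (g • w) (fixOf_smul hgN hw) hgw u hu huw
      obtain ⟨j, hj, hju⟩ := exists_involution_swap hH huw (n := k * g)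
        (by rw [mul_smul, hgu, hkw]) (by rw [mul_smul, hku])
      exact ⟨(k * g) ^ j, pow_mem (mul_mem hk hgN) j, hj, hju⟩
    have hQodd : Odd (Nat.card R) := (odd_stabilizer_inf hH (Ne.symm hu₁x)).of_dvd_nat
      (card_dvd_of_le (le_pair_of_fixed hxF hu₁))
    -- no centre in `F`
    have hnoc : ∀ i ∈ N, orderOf i = 2 → ∀ d : G ⧸ H, i • d = d → d ∉ F := by
      intro i hi hio d hid hd
      refine hall d hd ⟨i, hio, hid, ?_⟩
      refine le_of_inverted hQodd (sq_of_order_two hio) hi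
        (fun g _ hg => mem_centralizer_singleton_iff.2 hg) fun g hg hinv => ?_
      by_cases hg1 : g = 1
      · rw [hg1]; exact one_mem _
      obtain ⟨w, hw, hwd⟩ : ∃ w ∈ F, w ≠ d := by
        by_cases h : u₁ = d
        · exact ⟨u₂, hu₂, fun e => hu₁₂ (h.trans e.symm)⟩
        · exact ⟨u₁, hu₁, h⟩
      exact absurd ⟨hio, hid, hwd, hd g hg, hw g hg, hg1, hinv⟩ (hb i g d w)
    obtain ⟨i, hiN, hio, hix⟩ := hswap x hxF u₁ hu₁ (Ne.symm hu₁x)
    obtain ⟨d, hid⟩ := exists_centre hH hio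
    have hmove : ¬ R ≤ stabilizer G d := fun h => hnoc i hiN hio d hid fun g hg => h hg
    set O := oddCoreOf N with hO
    have hON : O ≤ N := oddCoreOf_le N
    have hNO : N ≤ normalizer (O : Set G) := le_normalizer_oddCoreOf N
    -- `O` fixes `x`
    have hOx : O ≤ stabilizer G x := by
      by_contra h
      obtain ⟨g, hg, hgx⟩ := SetLike.not_le_iff_exists.1 h
      haveI : Fact (Nat.Prime 2) := ⟨Nat.prime_two⟩
      have hFO : F = orbit O x := by
        ext y
        constructor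
        · intro hy
          by_cases hyx : y = x
          · rw [hyx]; exact mem_orbit_self x
          obtain ⟨n, hn, hnx, hny⟩ :=
            htrx x hxF (hall x hxF) _ (fixOf_smul (hON hg) hxF) hgx y hy hyx
          refine ⟨⟨n * g * n⁻¹, (mem_normalizer_iff.1 (hNO hn) g).1 hg⟩, ?_⟩
          show (n * g * n⁻¹) • x = y
          rw [mul_smul, mul_smul, inv_smul_eq_iff.2 hnx.symm, hny]
        · rintro ⟨o, rfl⟩
          exact fixOf_smul (hON o.2) hxF
      have hodd : Odd (Nat.card F) := by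
        refine (odd_card_oddCoreOf N).of_dvd_nat ?_
        rw [hFO, Nat.card_congr (orbitEquivQuotientStabilizer O x)]
        exact Subgroup.card_quotient_dvd_card _
      have hp2 : IsPGroup 2 (zpowers i) :=
        IsPGroup.of_card (n := 1) (by rw [Nat.card_zpowers, hio, pow_one])
      have h1 := card_modEq_fixed hp2 F (fun g hg y hy => fixOf_smul (zpowers_le.2 hiN hg) hy)
      have e0 : Nat.card {y : G ⧸ H // y ∈ F ∧ ∀ g ∈ zpowers i, g • y = y} = 0 :=
        Finite.card_eq_zero_iff.2 ⟨fun q => hnoc i hiN hio d hid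
          (Cfsg.Lib.StrongEmb.eq_of_fixed hH hio (q.2.2 i (mem_zpowers i)) hid ▸ q.2.1)⟩
      rw [e0] at h1
      exact hodd.not_two_dvd_nat (Nat.modEq_zero_iff_dvd.1 h1)
    obtain ⟨k, hkN, hko, hkx⟩ := hswap x hxF u₂ hu₂ (Ne.symm hu₂x)
    have hik : (i * k) • x = x :=
      hOx (mul_mem_oddCore hH (N := N) le_rfl hQodd hio hiN hid hmove hio hiN hko hkN)
    rw [mul_smul, hkx] at hik
    exact hu₁₂ (by rw [← hix]; nth_rw 1 [← hik]; rw [smul_smul, sq_of_order_two hio, one_smul])

/-- an `r`-group fixing `c` and another point that no involution at `c` centralises fixes exactly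
two points -/
theorem fixOf_eq_pair (hH : Cfsg.IsStronglyEmbedded H) (hb : NoBad H) [Fact r.Prime]
    {R : Subgroup G} (hR : IsPGroup r R) {c a : G ⧸ H} (hca : c ≠ a)
    (hc : c ∈ fixOf (α := G ⧸ H) R) (ha : a ∈ fixOf (α := G ⧸ H) R) (hno : ¬ CentredIn R c) :
    fixOf (α := G ⧸ H) R = {c, a} := by
  ext y
  refine ⟨fun hy => ?_, ?_⟩
  · by_contra hne
    rw [Set.mem_insert_iff, Set.mem_singleton_iff, not_or] at hne
    exact hno (centredIn_of_hasThree hH hb hR
      ⟨c, hc, a, ha, y, hy, hca, Ne.symm hne.1, Ne.symm hne.2⟩ hc)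
  · rintro (rfl | rfl) <;> assumption

/-- the fixed points of an `r`-group with at least three of them form one orbit of the centraliser
of the group in the point stabiliser, apart from the point, if the centraliser has two commuting
involutions -/
theorem exists_centralizing_move (step : CommStep.{u}) (hH : Cfsg.IsStronglyEmbedded H)
    (hb : NoBad H) [Fact r.Prime] {R : Subgroup G} (hR : IsPGroup r R) (h3 : HasThree H R)
    (h2 : HasCommutingInvolutions (centralizer (R : Set G)))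
    {a b : G ⧸ H} (hc : (QuotientGroup.mk 1 : G ⧸ H) ∈ fixOf (α := G ⧸ H) R)
    (ha : a ∈ fixOf (α := G ⧸ H) R) (hb' : b ∈ fixOf (α := G ⧸ H) R)
    (ha1 : a ≠ QuotientGroup.mk 1) (hb1 : b ≠ QuotientGroup.mk 1) :
    ∃ g ∈ H, g ∈ centralizer (R : Set G) ∧ g • a = b := by
  set M := centralizer (R : Set G) with hM
  have hcen : ∀ y ∈ fixOf (α := G ⧸ H) R, ∃ v ∈ M, orderOf v = 2 ∧ v • y = y := fun y hy => by
    obtain ⟨v, hv, hvy, hle⟩ := centredIn_of_hasThree hH hb hR h3 hy
    exact ⟨v, mem_centralizer_iff.2 fun x hx => mem_centralizer_singleton_iff.1 (hle hx), hv, hvy⟩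
  obtain ⟨v₁, hv₁M, hv₁, hv₁c⟩ := hcen _ hc
  have hmk : ∀ g : G, g • (QuotientGroup.mk 1 : G ⧸ H) = QuotientGroup.mk 1 ↔ g ∈ H := fun g => by
    rw [MulAction.Quotient.smul_mk, smul_eq_mul, mul_one, eq_comm, QuotientGroup.eq, inv_one,
      one_mul]
  have hmove : ∀ y ∈ fixOf (α := G ⧸ H) R, y ≠ (QuotientGroup.mk 1 : G ⧸ H) →
      ∃ d : M, (d : G) • (QuotientGroup.mk 1 : G ⧸ H) = y ∧ d ∉ H.subgroupOf M := by
    intro y hy hy1
    obtain ⟨w, hwM, hw, hwy⟩ := hcen y hy
    obtain ⟨n, hn, -, hny, -⟩ :=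
      exists_swapper_centres hH hv₁ hv₁M hv₁c hw hwM hwy (Ne.symm hy1)
    exact ⟨⟨n, hn⟩, hny, fun h => hy1 (hny.symm.trans ((hmk n).2 (mem_subgroupOf.1 h)))⟩
  obtain ⟨da, hda, hda'⟩ := hmove a ha ha1
  obtain ⟨db, hdb, hdb'⟩ := hmove b hb' hb1
  have hHM : Cfsg.IsStronglyEmbedded (H.subgroupOf M) := by
    refine ⟨fun h => hda' (h ▸ mem_top _), ?_, fun g hg => ?_⟩
    · refine even_iff_two_dvd.2 ?_
      rw [← hv₁, ← Subgroup.orderOf_mk v₁ hv₁M]
      exact Subgroup.orderOf_dvd_natCard _ (mem_subgroupOf.2 ((hmk v₁).1 hv₁c))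
    · rw [← card_map_of_injective M.subtype_injective]
      refine (hH.2.2 (g : G) fun h => hg (mem_subgroupOf.2 h)).of_dvd_nat (card_dvd_of_le ?_)
      rintro _ ⟨x, hx, rfl⟩
      obtain ⟨hxH, y, hy, hyx⟩ := mem_inf.1 hx
      refine mem_inf.2 ⟨mem_subgroupOf.1 hxH, y, mem_subgroupOf.1 hy, ?_⟩
      rw [← hyx]
      rfl
  obtain ⟨h, hh, hhm⟩ := transitive_of_commStep step hHM h2 da db hda' hdb'
  refine ⟨h, mem_subgroupOf.1 hh, h.2, ?_⟩
  rw [← hda, ← hdb, smul_smul, MulAction.Quotient.smul_mk, MulAction.Quotient.smul_mk, smul_eq_mul,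
    smul_eq_mul, mul_one, mul_one, eq_comm, QuotientGroup.eq]
  exact mem_subgroupOf.1 hhm

end Cfsg.Lib.BenderSE
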