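/-
Steps 4 and 5 of notes/bender_reg_h7.md at once: if every `r`-group of a pair stabiliser centralised
by an involution at one of the points is centralised by two of them, the pair stabiliser is a Hall
subgroup of the point stabiliser controlling fusion, so there is a regular normal subgroup.
-/
import Cfsg.Agent.BenderSE.Reg.KernelCase
import Cfsg.Agent.BenderSE.Reg.Wide
import Cfsg.Agent.BenderSE.Reg.Complement

set_option autoImplicit false
set_option linter.unusedSectionVars false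
set_option linter.style.haveILetI false

namespace Cfsg.Lib.BenderSE

open Subgroup MulAction Cfsg.Lib.InvolCalc Cfsg.Lib.StrongEmb

universe u

variable {G : Type u} [Group G] [Finite G] {H : Subgroup G}

/-- two involutions at `c` centralise `R` -/
def TwoCentred (R : Subgroup G) (c : G ⧸ H) : Prop :=
  ∃ v w : G, orderOf v = 2 ∧ orderOf w = 2 ∧ v ≠ w ∧ v • c = c ∧ w • c = c ∧
    R ≤ centralizer ({v} : Set G) ∧ R ≤ centralizer ({w} : Set G)

/-- no `r`-group of `G_o ∩ G_a` has exactly one involution at `o` centralising it -/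
def NoRankOne (H : Subgroup G) (a : G ⧸ H) : Prop :=
  ∀ (r : ℕ) (R : Subgroup G), r.Prime → IsPGroup r R →
    R ≤ stabilizer G (QuotientGroup.mk 1 : G ⧸ H) ⊓ stabilizer G a → R ≠ ⊥ →
    CentredIn R (QuotientGroup.mk 1 : G ⧸ H) → TwoCentred R (QuotientGroup.mk 1 : G ⧸ H)

/-- every `r`-group of `G_o ∩ G_a` with a third fixed point has a 2-group centralising it and transitive
on its fixed points other than `o` -/
def TwoGroupMoves (H : Subgroup G) (a : G ⧸ H) : Prop :=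
  ∀ (r : ℕ) (R : Subgroup G), r.Prime → IsPGroup r R →
    R ≤ stabilizer G (QuotientGroup.mk 1 : G ⧸ H) ⊓ stabilizer G a → R ≠ ⊥ → HasThree H R →
    ∃ S : Subgroup G, S ≤ centralizer (R : Set G) ⊓ stabilizer G (QuotientGroup.mk 1 : G ⧸ H) ∧
      IsPGroup 2 S ∧
      ∀ x ∈ fixOf (α := G ⧸ H) R, ∀ y ∈ fixOf (α := G ⧸ H) R,
        x ≠ QuotientGroup.mk 1 → y ≠ QuotientGroup.mk 1 → ∃ s ∈ S, s • x = y

/-- a 2-group of the point stabiliser centralising a wide `r`-group is transitive on its other fixed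
points, whose number is a power of two -/
theorem exists_two_transitive_fix (hS : Setting H) (hb : NoBad H) (reg : RegBelow.{u} (Nat.card G))
    (hC : CommAt H) {r : ℕ} [Fact r.Prime] {R : Subgroup G} (hR : IsPGroup r R) (hR1 : R ≠ ⊥)
    (h3 : HasThree H R) {c : G ⧸ H} (hc : c ∈ fixOf (α := G ⧸ H) R) (h2 : TwoCentred R c) :
    ∃ S : Subgroup G, S ≤ centralizer (R : Set G) ⊓ stabilizer G c ∧ IsPGroup 2 S ∧
      (∀ x ∈ fixOf (α := G ⧸ H) R, ∀ y ∈ fixOf (α := G ⧸ H) R, x ≠ c → y ≠ c →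
        ∃ s ∈ S, s • x = y) ∧
      ∃ k : ℕ, Nat.card {y : G ⧸ H // y ∈ fixOf (α := G ⧸ H) R ∧ y ≠ c} = 2 ^ k := by
  have hH := hS.se
  obtain ⟨v, w, hv, hw, hvw, hvc, hwc, hvR, hwR⟩ := h2
  set N := centralizer (R : Set G) with hN
  have hmemN : ∀ i : G, R ≤ centralizer ({i} : Set G) → i ∈ N := fun i h =>
    mem_centralizer_iff.2 fun x hx => mem_centralizer_singleton_iff.1 (h hx)
  have hvN := hmemN v hvR
  have hwN := hmemN w hwR
  have horb : ∀ y, y ∈ orbit N c ↔ y ∈ fixOf (α := G ⧸ H) R := by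
    intro y
    constructor
    · rintro ⟨⟨n, hn⟩, rfl⟩ x hx
      show x • n • c = n • c
      rw [smul_smul, mem_centralizer_iff.1 hn x hx, mul_smul, hc x hx]
    · intro hy
      rcases eq_or_ne y c with rfl | hyc
      · exact mem_orbit_self y
      obtain ⟨z, hz, hzy, hzR⟩ := centredIn_of_hasThree hH hb hR h3 hy
      obtain ⟨n, hn, -, hnc, -⟩ :=
        exists_swapper_centres hH hv hvN hvc hz (hmemN z hzR) hzy (Ne.symm hyc)
      exact ⟨⟨n, hn⟩, hnc⟩
  have hmove : ¬ N ≤ stabilizer G c := by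
    intro hle
    obtain ⟨p, hp, q, hq, -, -, hpq, -, -⟩ := h3
    rcases eq_or_ne p c with rfl | hpc
    · obtain ⟨⟨n, hn⟩, hnq⟩ := (horb q).2 hq
      exact hpq ((mem_stabilizer_iff.1 (hle hn)).symm.trans hnq)
    · obtain ⟨⟨n, hn⟩, hnp⟩ := (horb p).2 hp
      exact hpc (hnp.symm.trans (mem_stabilizer_iff.1 (hle hn)))
  have hNtop : N ≠ ⊤ := fun htop => by
    refine hR1 (eq_bot_of_normal_le_stabilizer hS.core ⟨fun x hx g => ?_⟩ (a := c)
      fun g hg => hc g hg)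
    have hg : g ∈ N := htop ▸ mem_top g
    rw [← mem_centralizer_iff.1 hg x hx, mul_inv_cancel_right]
    exact hx
  obtain ⟨S, hSle, hS2, -, hStr, k, hk⟩ := exists_two_transitive hH reg hC hNtop hvN hwN hv hw hvw
    (hC c v w hv hw hvc hwc) hvN hv hvc hmove
  refine ⟨S, hSle, hS2, fun x hx y hy => hStr x ((horb x).2 hx) y ((horb y).2 hy), k, ?_⟩
  rw [← hk]
  exact Nat.card_congr (Equiv.subtypeEquivRight fun y => and_congr_left' (horb y).symm)

/-- a 2-group orbit has 2-power size -/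
theorem exists_card_fix {R S : Subgroup G} {c b : G ⧸ H}
    (hS : S ≤ centralizer (R : Set G) ⊓ stabilizer G c) (hS2 : IsPGroup 2 S)
    (hc : c ∈ fixOf (α := G ⧸ H) R) (hb : b ∈ fixOf (α := G ⧸ H) R) (hbc : b ≠ c)
    (htr : ∀ x ∈ fixOf (α := G ⧸ H) R, ∀ y ∈ fixOf (α := G ⧸ H) R, x ≠ c → y ≠ c →
      ∃ s ∈ S, s • x = y) :
    ∃ k : ℕ, Nat.card {y : G ⧸ H // y ∈ fixOf (α := G ⧸ H) R ∧ y ≠ c} = 2 ^ k := by
  haveI : Fact (Nat.Prime 2) := ⟨Nat.prime_two⟩
  have horb : {y : G ⧸ H | y ∈ fixOf (α := G ⧸ H) R ∧ y ≠ c} = orbit S b := by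
    ext y
    constructor
    · intro hy
      obtain ⟨s, hs, hsy⟩ := htr b hb y hy.1 hbc hy.2
      exact ⟨⟨s, hs⟩, hsy⟩
    · rintro ⟨s, rfl⟩
      refine ⟨fun x hx => ?_, fun e => hbc (smul_left_cancel (s : G) (e.trans
        (mem_stabilizer_iff.1 (mem_inf.1 (hS s.2)).2).symm))⟩
      show x • (s : G) • b = (s : G) • b
      rw [smul_smul, mem_centralizer_iff.1 (mem_inf.1 (hS s.2)).1 x hx, mul_smul, hb x hx]
  show ∃ k : ℕ, Nat.card ↥{y : G ⧸ H | y ∈ fixOf (α := G ⧸ H) R ∧ y ≠ c} = 2 ^ k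
  rw [horb]
  exact hS2.card_orbit b

/-- STEPS 4 and 5 -/
theorem hasRegular_of_twoGroupMoves (hS : Setting H) (hb : NoBad H) (h2 : TwoTransitive H)
    {a : G ⧸ H} (hao : a ≠ QuotientGroup.mk 1) (hyp : TwoGroupMoves H a) : HasRegular H := by
  have hH := hS.se
  set o : G ⧸ H := QuotientGroup.mk 1 with ho
  set D := stabilizer G o ⊓ stabilizer G a with hD
  have hDH : D ≤ H := inf_le_left.trans_eq stabilizer_mk_one
  set D' := D.subgroupOf H with hD'
  have hDc : Nat.card D' = Nat.card D := Nat.card_congr (subgroupOfEquivOfLe hDH).toEquiv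
  have hDodd : Odd (Nat.card D) := odd_stabilizer_inf hH hao.symm
  have hfixo : ∀ g : G, g ∈ H → g • o = o := fun g hg => (smul_mk_one_iff (H := H)).2 hg
  -- the index is the number of the other points
  have hindex : D'.index = Nat.card {b : G ⧸ H // b ≠ o} := by
    have h1 : D' = stabilizer H a := by
      ext x
      rw [hD', mem_subgroupOf, hD, mem_inf, mem_stabilizer_iff, mem_stabilizer_iff, mem_stabilizer_iff]
      exact ⟨fun h => h.2, fun h => ⟨hfixo x x.2, h⟩⟩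
    have h2' : orbit H a = {b : G ⧸ H | b ≠ o} := by
      ext b
      constructor
      · rintro ⟨⟨g, hg⟩, rfl⟩ e
        exact hao (smul_left_cancel g (e.trans (hfixo g hg).symm))
      · intro hb'
        obtain ⟨g, hgo, hga⟩ := h2 o a b hao hb'
        exact ⟨⟨g, (smul_mk_one_iff (H := H)).1 hgo⟩, hga⟩
    rw [h1, index_stabilizer H a, h2', ← Nat.card_coe_set_eq]
    rfl
  have hHall : (Nat.card D').Coprime D'.index := by
    refine Nat.coprime_of_dvd' fun r hr hrD hrI => ?_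
    exfalso
    haveI := Fact.mk hr
    rw [hDc] at hrD
    rw [hindex] at hrI
    obtain ⟨P, hPp, hP, -⟩ :=
      exists_pairSylow_ge (IsPGroup.of_bot (p := r) (G := G)) (x := o) (z := a) bot_le
    have hP1 : P ≠ ⊥ := fun e => by
      have h1 := hP.2
      rw [e, card_bot] at h1
      exact (Nat.one_lt_pow (hr.factorization_pos_of_dvd Nat.card_pos.ne' hrD).ne' hr.one_lt).ne h1
    have hinv : ∀ g ∈ P, ∀ b ∈ ({b : G ⧸ H | b ≠ o} : Set (G ⧸ H)), g • b ∈ ({b : G ⧸ H | b ≠ o} : Set (G ⧸ H)) :=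
      fun g hg b hb' e => hb' (smul_left_cancel g (e.trans (hP.left g hg).symm))
    have h1 := card_modEq_fixed hPp {b : G ⧸ H | b ≠ o} hinv
    have h0 : Nat.card {b : G ⧸ H // b ∈ ({b : G ⧸ H | b ≠ o} : Set (G ⧸ H)) ∧ ∀ g ∈ P, g • b = b} % r = 0 :=
      Eq.trans (h1.symm.trans (Nat.modEq_zero_iff_dvd.2 hrI)) (Nat.zero_mod r)
    obtain ⟨k, hk⟩ : ∃ k : ℕ, Nat.card {b : G ⧸ H //
        b ∈ ({b : G ⧸ H | b ≠ o} : Set (G ⧸ H)) ∧ ∀ g ∈ P, g • b = b} = 2 ^ k := by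
      by_cases h3 : HasThree H P
      · obtain ⟨S, hS₁, hS₂, hS₃⟩ := hyp r P hr hPp hP.1 hP1 h3
        obtain ⟨k, hk⟩ := exists_card_fix hS₁ hS₂ hP.left hP.right hao hS₃
        exact ⟨k, hk ▸ Nat.card_congr (Equiv.subtypeEquivRight fun b => and_comm)⟩
      · refine ⟨0, Nat.card_eq_one_iff_unique.2 ⟨⟨fun p q => Subtype.ext ?_⟩, ⟨⟨a, hao, hP.right⟩⟩⟩⟩
        have key : ∀ b : G ⧸ H, b ≠ o → (∀ g ∈ P, g • b = b) → b = a := fun b hbo hbP => by
          by_contra hba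
          exact h3 ⟨o, hP.left, a, hP.right, b, hbP, hao.symm, Ne.symm hbo, Ne.symm hba⟩
        rw [key _ p.2.1 p.2.2, key _ q.2.1 q.2.2]
    rw [hk] at h0
    have hr2 : r = 2 := (Nat.prime_dvd_prime_iff_eq hr Nat.prime_two).1
      (hr.dvd_of_dvd_pow (Nat.dvd_of_mod_eq_zero h0))
    exact hDodd.not_two_dvd_nat (hr2 ▸ hrD)
  have hctl : ControlsPrimePowers D' := by
    intro x hx hpp g hg
    obtain ⟨hxo, hxa⟩ := mem_inf.1 (mem_subgroupOf.1 hx)
    obtain ⟨r, k, hr, hk, hord⟩ := hpp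
    haveI : Fact r.Prime := ⟨hr.nat_prime⟩
    set R := zpowers (x : G) with hR
    have hRp : IsPGroup r R := IsPGroup.of_card (n := k) (by
      rw [Nat.card_zpowers, Subgroup.orderOf_coe, hord])
    have hRle : R ≤ D := zpowers_le.2 (mem_inf.2 ⟨hxo, hxa⟩)
    have hfix : ∀ y : G ⧸ H, (x : G) • y = y → y ∈ fixOf (α := G ⧸ H) R := fun y hy q hq => by
      obtain ⟨j, rfl⟩ := hq
      exact mem_stabilizer_iff.1 (zpow_mem (show (x : G) ∈ stabilizer G y from hy) j)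
    have hga : (g : G) • a ∈ fixOf (α := G ⧸ H) R := by
      refine hfix _ ?_
      have h1 : ((g : G)⁻¹ * x * g) • a = a := mem_stabilizer_iff.1 (mem_inf.1 (mem_subgroupOf.1 hg)).2
      rw [mul_smul, mul_smul, inv_smul_eq_iff] at h1
      exact h1
    have hgo : (g : G) • a ≠ o := fun e => hao (smul_left_cancel (g : G) (e.trans (hfixo g g.2).symm))
    by_cases hfa : (g : G) • a = a
    · refine ⟨1, one_mem _, ?_⟩
      rw [inv_one, one_mul, hD', mem_subgroupOf]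
      exact mem_inf.2 ⟨mem_stabilizer_iff.2 (hfixo g g.2), mem_stabilizer_iff.2 hfa⟩
    have hRo := hfix o hxo
    have hRa := hfix a hxa
    have h3 : HasThree H R :=
      ⟨o, hRo, a, hRa, _, hga, hao.symm, Ne.symm hgo, Ne.symm hfa⟩
    have hR1 : R ≠ ⊥ := fun e => by
      have h1 : orderOf x = 1 := by
        rw [← Subgroup.orderOf_coe, ← Nat.card_zpowers, ← hR, e, card_bot]
      rw [← hord] at h1
      exact (Nat.one_lt_pow hk.ne' hr.nat_prime.one_lt).ne' h1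
    obtain ⟨S, hSle, hS2, hStr⟩ := hyp r R hr.nat_prime hRp hRle hR1 h3
    obtain ⟨s, hs, hsa⟩ := hStr a hRa _ hga hao hgo
    have hsH : s ∈ H := (mem_inf.1 (hSle hs)).2 |> fun h => stabilizer_mk_one (H := H) ▸ h
    refine ⟨⟨s, hsH⟩, subset_closure ⟨Subtype.ext ?_, ?_⟩, ?_⟩
    · exact (mem_centralizer_iff.1 (mem_inf.1 (hSle hs)).1 _ (mem_zpowers _)).symm
    · obtain ⟨i, hi⟩ := IsPGroup.iff_orderOf.1 hS2 ⟨s, hs⟩
      rw [Subgroup.orderOf_mk] at hi
      rw [Subgroup.orderOf_mk, hi, hDc]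
      exact (Nat.coprime_two_left.2 hDodd).pow_left i
    · refine mem_subgroupOf.2 (mem_inf.2 ⟨?_, mem_stabilizer_iff.2 ?_⟩)
      · exact mem_stabilizer_iff.2 (hfixo _ (mul_mem (inv_mem hsH) g.2))
      · show (s⁻¹ * (g : G)) • a = a
        rw [mul_smul, ← hsa, inv_smul_smul]
  haveI : Group.IsSolvable D' := Cfsg.Agent.PF.isSolvable_of_odd D' (hDc ▸ hDodd)
  obtain ⟨N, hNc, hND, hNtop⟩ :=
    exists_characteristic_complement _ D' rfl inferInstance hHall hctl
  haveI := hNc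
  set Q := N.map H.subtype with hQ
  refine hasRegular_of_complement (a := a) (map_subtype_le N) ?_ ?_ ?_
  · exact le_normalizer.trans (Cfsg.Lib.HalfFixed.normalizer_le_map_of_characteristic H N)
  · rw [eq_bot_iff]
    intro y hy
    obtain ⟨⟨q, hq, rfl⟩, hya⟩ := mem_inf.1 hy
    have h1 : q ∈ N ⊓ D' := mem_inf.2 ⟨hq, mem_subgroupOf.2
      (mem_inf.2 ⟨mem_stabilizer_iff.2 (hfixo q q.2), hya⟩)⟩
    rw [hND, mem_bot] at h1
    rw [h1]
    exact one_mem _
  · intro b hb'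
    obtain ⟨g, hgo, hga⟩ := h2 o a b hao hb'
    have h1 : (⟨g, (smul_mk_one_iff (H := H)).1 hgo⟩ : H) ∈ N ⊔ D' := hNtop ▸ mem_top _
    rw [← SetLike.mem_coe, Subgroup.normal_mul] at h1
    obtain ⟨q, hq, d, hd, hqd⟩ := h1
    refine ⟨q, ⟨q, hq, rfl⟩, ?_⟩
    have h2' : (q : G) * (d : G) = g := congrArg Subtype.val hqd
    rw [← hga, ← h2', mul_smul, mem_stabilizer_iff.1 (mem_inf.1 (mem_subgroupOf.1 hd)).2]

/-- STEPS 4 and 5 when no group has rank one -/
theorem hasRegular_of_noRankOne (hS : Setting H) (hb : NoBad H) (h2 : TwoTransitive H)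
    (reg : RegBelow.{u} (Nat.card G)) (hC : CommAt H) {a : G ⧸ H} (hao : a ≠ QuotientGroup.mk 1)
    (hno : NoRankOne H a) : HasRegular H := by
  refine hasRegular_of_twoGroupMoves hS hb h2 hao fun r R hr hR hRD hR1 h3 => ?_
  haveI := Fact.mk hr
  have hc : (QuotientGroup.mk 1 : G ⧸ H) ∈ fixOf (α := G ⧸ H) R := fun g hg => (mem_inf.1 (hRD hg)).1
  obtain ⟨S, h₁, h₂, h₃, -⟩ := exists_two_transitive_fix hS hb reg hC hR hR1 h3 hc
    (hno r R hr hR hRD hR1 (centredIn_of_hasThree hS.se hb hR h3 hc))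
  exact ⟨S, h₁, h₂, h₃⟩

end Cfsg.Lib.BenderSE
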