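/-
Step 6 of notes/bender_reg_h7.md: a cyclic `r`-group of a pair stabiliser, centralised by exactly one
involution at `o` but with a non-trivial subgroup centralised by two, is centralised by a 2-group
transitive on its fixed points other than `o`.
-/
import Cfsg.Agent.BenderSE.Reg.Control
import Mathlib.Algebra.Ring.GeomSum

set_option autoImplicit false
set_option linter.unusedSectionVars false
set_option linter.style.haveILetI false

namespace Cfsg.Lib.BenderSE

open Subgroup MulAction Cfsg.Lib.InvolCalc Cfsg.Lib.StrongEmb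

universe u

/-- a `2`-power exponent congruent to `1` modulo `r` is congruent to `1` modulo every power of `r` -/
theorem int_modEq_one_of_pow {r i k : ℕ} (hr : r.Prime) (hr2 : r ≠ 2) {j : ℤ}
    (h1 : j ≡ 1 [ZMOD (r : ℤ)]) (h2 : j ^ 2 ^ k ≡ 1 [ZMOD (r : ℤ) ^ i]) :
    j ≡ 1 [ZMOD (r : ℤ) ^ i] := by
  have hS : (∑ l ∈ Finset.range (2 ^ k), j ^ l) ≡ (2 ^ k : ℕ) [ZMOD (r : ℤ)] := by
    have h3 : ∀ n : ℕ, (∑ l ∈ Finset.range n, j ^ l) ≡ (n : ℤ) [ZMOD (r : ℤ)] := by
      intro n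
      induction n with
      | zero => simp
      | succ n ih =>
        rw [Finset.sum_range_succ, Nat.cast_succ]
        exact ih.add (by simpa using h1.pow n)
    exact h3 _
  have hndvd : ¬ (r : ℤ) ∣ ∑ l ∈ Finset.range (2 ^ k), j ^ l := fun hd => by
    have h3 : (r : ℤ) ∣ ((2 ^ k : ℕ) : ℤ) :=
      Int.modEq_zero_iff_dvd.1 (hS.symm.trans (Int.modEq_zero_iff_dvd.2 hd))
    exact hr2 ((Nat.prime_dvd_prime_iff_eq hr Nat.prime_two).1
      (hr.dvd_of_dvd_pow (Int.natCast_dvd_natCast.1 h3)))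
  have hcop : IsCoprime ((r : ℤ) ^ i) (∑ l ∈ Finset.range (2 ^ k), j ^ l) :=
    IsCoprime.pow_left ((Nat.prime_iff_prime_int.1 hr).coprime_iff_not_dvd.2 hndvd)
  refine (Int.modEq_iff_dvd.2 ?_).symm
  refine hcop.dvd_of_dvd_mul_left ?_
  rw [mul_comm, mul_comm, geom_sum_mul]
  exact Int.modEq_iff_dvd.1 h2.symm

variable {G : Type u} [Group G] [Finite G] {H : Subgroup G}

/-- subgroups of a cyclic group with the same order are equal -/
theorem eq_of_cyclic_of_card {R A B : Subgroup G} [IsCyclic R] (hA : A ≤ R) (hB : B ≤ R)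
    (h : Nat.card A = Nat.card B) : A = B := by
  classical
  haveI := Fintype.ofFinite R
  set s : Finset R := Finset.univ.filter fun x => x ^ Nat.card A = 1 with hs
  have hle : s.card ≤ Nat.card A := IsCyclic.card_pow_eq_one_le Nat.card_pos
  have key : ∀ C : Subgroup G, C ≤ R → Nat.card C = Nat.card A →
      Finset.univ.filter (fun x : R => (x : G) ∈ C) = s := fun C hC hc => by
    refine Finset.eq_of_subset_of_card_le (fun x hx => ?_) ?_
    · simp only [hs, Finset.mem_filter, Finset.mem_univ, true_and] at hx ⊢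
      apply Subtype.ext
      rw [← hc, Subgroup.coe_pow, OneMemClass.coe_one]
      exact congrArg Subtype.val (pow_card_eq_one' (x := (⟨(x : G), hx⟩ : C)))
    · refine hle.trans (le_of_eq ?_)
      rw [← hc, ← Fintype.card_subtype, ← Nat.card_eq_fintype_card]
      exact (Nat.card_congr (subgroupOfEquivOfLe hC).toEquiv).symm
  ext g
  constructor
  · intro hg
    have := ((key A hA rfl).trans (key B hB h.symm).symm)
    have h2 : (⟨g, hA hg⟩ : R) ∈ Finset.univ.filter (fun x : R => (x : G) ∈ A) := by simpa using hg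
    rw [this] at h2
    simpa using h2
  · intro hg
    have := ((key A hA rfl).trans (key B hB h.symm).symm)
    have h2 : (⟨g, hB hg⟩ : R) ∈ Finset.univ.filter (fun x : R => (x : G) ∈ B) := by simpa using hg
    rw [← this] at h2
    simpa using h2

/-- STEP 6 -/
theorem exists_twoGroup_of_power (hS : Setting H) (hb : NoBad H) (h2 : TwoTransitive H)
    (reg : RegBelow.{u} (Nat.card G)) (hC : CommAt H) {a : G ⧸ H}
    (hao : a ≠ QuotientGroup.mk 1) {r : ℕ} [Fact r.Prime] {R Y : Subgroup G}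
    (hRc : IsCyclic R) (hR : IsPGroup r R)
    (hRD : R ≤ stabilizer G (QuotientGroup.mk 1 : G ⧸ H) ⊓ stabilizer G a) (h3 : HasThree H R)
    (hcard : Nat.card R * invCount H =
      Nat.card ↥(stabilizer G (QuotientGroup.mk 1 : G ⧸ H) ⊓ stabilizer G a))
    (hrm : ¬ r ∣ invCount H)
    (huniq : ∀ v w : G, orderOf v = 2 → orderOf w = 2 → v • (QuotientGroup.mk 1 : G ⧸ H) = QuotientGroup.mk 1 →
      w • (QuotientGroup.mk 1 : G ⧸ H) = QuotientGroup.mk 1 →
      R ≤ centralizer ({v} : Set G) → R ≤ centralizer ({w} : Set G) → v = w)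
    (hYR : Y ≤ R) (hY1 : Y ≠ ⊥) (hY2 : TwoCentred Y (QuotientGroup.mk 1 : G ⧸ H)) :
    ∃ S : Subgroup G, S ≤ centralizer (R : Set G) ⊓ stabilizer G (QuotientGroup.mk 1 : G ⧸ H) ∧
      IsPGroup 2 S ∧ ∀ x ∈ fixOf (α := G ⧸ H) R, ∀ y ∈ fixOf (α := G ⧸ H) R,
        x ≠ QuotientGroup.mk 1 → y ≠ QuotientGroup.mk 1 → ∃ s ∈ S, s • x = y := by
  have hH := hS.se
  set o : G ⧸ H := QuotientGroup.mk 1 with ho
  set D := stabilizer G o ⊓ stabilizer G a with hD
  have hRo : o ∈ fixOf (α := G ⧸ H) R := fun g hg => (mem_inf.1 (hRD hg)).1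
  have hRa : a ∈ fixOf (α := G ⧸ H) R := fun g hg => (mem_inf.1 (hRD hg)).2
  have hDodd : Odd (Nat.card D) := odd_stabilizer_inf hH hao.symm
  have hfac : (Nat.card D).factorization r = (Nat.card R).factorization r := by
    rw [← hcard, Nat.factorization_mul Nat.card_pos.ne' (invCount_pos hH).ne', Finsupp.add_apply,
      Nat.factorization_eq_zero_of_not_dvd hrm, add_zero]
  obtain ⟨i, hi⟩ := IsPGroup.iff_card.1 hR
  have hRcard : Nat.card R = r ^ (Nat.card R).factorization r := by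
    rw [hi, (Fact.out : r.Prime).factorization_pow, Finsupp.single_eq_same]
  have hR1 : R ≠ ⊥ := fun e => hY1 (le_bot_iff.1 (e ▸ hYR))
  have hr2 : r ≠ 2 := by
    intro e
    subst e
    have hRodd := hDodd.of_dvd_nat (card_dvd_of_le hRD)
    rw [hi] at hRodd
    rcases Nat.eq_zero_or_pos i with rfl | hi0
    · exact hR1 (Subgroup.card_eq_one.1 (by rw [hi, pow_zero]))
    · exact Nat.not_even_iff_odd.2 hRodd (Nat.even_pow.2 ⟨even_two, hi0.ne'⟩)
  obtain ⟨v, hv, hvo, hvR⟩ := centredIn_of_hasThree hH hb hR h3 hRo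
  -- the centraliser of `v` in any pair stabiliser at `o` is an `r`-group
  have hCv : ∀ b : G ⧸ H, b ≠ o →
      IsPGroup r ↥(stabilizer G o ⊓ stabilizer G b ⊓ centralizer ({v} : Set G)) := by
    intro b hbo
    obtain ⟨g, hgo, hga⟩ := h2 o a b hao hbo
    have hDb : Nat.card ↥(stabilizer G o ⊓ stabilizer G b) = Nat.card D := by
      rw [hD, ← Cfsg.Lib.Coprime.card_conjMap g (stabilizer G o ⊓ stabilizer G a)]
      congr 2
      ext x
      rw [Cfsg.Lib.Coprime.mem_conjMap, mem_inf, mem_inf, mem_stabilizer_iff, mem_stabilizer_iff,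
        mem_stabilizer_iff, mem_stabilizer_iff, mul_smul, mul_smul, mul_smul, mul_smul, hgo, hga,
        inv_smul_eq_iff, inv_smul_eq_iff, hgo, hga]
    have h1 := card_centralizer_fixing hH (Ne.symm hbo) hv hvo
    rw [hDb, ← hcard] at h1
    exact IsPGroup.of_card (n := i) ((Nat.eq_of_mul_eq_mul_right (invCount_pos hH) h1).trans hi)
  -- the normaliser of `R` at `o`
  set N := normalizer (R : Set G) ⊓ stabilizer G o with hN
  have hND : N ⊓ stabilizer G a = R := by
    refine le_antisymm (fun x hx => ?_) (le_inf (le_inf le_normalizer fun g hg => hRo g hg)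
      fun g hg => hRa g hg)
    obtain ⟨⟨hxn, hxo⟩, hxa⟩ := mem_inf.1 hx |>.imp mem_inf.1 id
    have hxv : x * v * x⁻¹ = v := by
      refine (huniq v (x * v * x⁻¹) hv (by rw [orderOf_conj', hv]) hvo ?_ hvR fun g hg => ?_).symm
      · rw [mul_smul, mul_smul, mem_stabilizer_iff.1 (inv_mem hxo), hvo, mem_stabilizer_iff.1 hxo]
      · refine mem_centralizer_singleton_iff.2 ?_
        have h1 := mem_centralizer_singleton_iff.1 (hvR ((mem_normalizer_iff''.1 hxn g).1 hg))
        calc g * (x * v * x⁻¹) = x * (x⁻¹ * g * x * v) * x⁻¹ := by group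
          _ = x * (v * (x⁻¹ * g * x)) * x⁻¹ := by rw [h1]
          _ = x * v * x⁻¹ * g := by group
    set C := stabilizer G o ⊓ stabilizer G a ⊓ centralizer ({v} : Set G) with hC'
    have hRC : R ≤ C := le_inf hRD hvR
    have hCR : Nat.card C ≤ Nat.card R := by
      have h1 := card_centralizer_fixing hH hao.symm hv hvo
      rw [← hD, ← hcard] at h1
      exact (Nat.eq_of_mul_eq_mul_right (invCount_pos hH) h1).le
    rw [Subgroup.eq_of_le_of_card_ge hRC hCR]
    exact mem_inf.2 ⟨mem_inf.2 ⟨hxo, hxa⟩,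
      mem_centralizer_singleton_iff.2 (mul_inv_eq_iff_eq_mul.1 hxv)⟩
  set F : Set (G ⧸ H) := {y | y ∈ fixOf (α := G ⧸ H) R ∧ y ≠ o} with hF
  have hNF : ∀ g ∈ N, ∀ y ∈ F, g • y ∈ F := fun g hg y hy =>
    ⟨fixOf_smul (mem_inf.1 hg).1 hy.1, fun e => hy.2 (smul_left_cancel g
      (e.trans (mem_stabilizer_iff.1 (mem_inf.1 hg).2).symm))⟩
  -- transitivity of the normaliser
  have hNtr : ∀ b ∈ F, ∃ g ∈ N, g • a = b := by
    rintro b ⟨hb', hbo⟩
    obtain ⟨h, hho, hha⟩ := h2 o a b hao hbo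
    set Db := stabilizer G o ⊓ stabilizer G b with hDb
    have hcb : Nat.card Db = Nat.card D := by
      rw [hD, ← Cfsg.Lib.Coprime.card_conjMap h (stabilizer G o ⊓ stabilizer G a)]
      congr 2
      ext x
      rw [Cfsg.Lib.Coprime.mem_conjMap, mem_inf, mem_inf, mem_stabilizer_iff, mem_stabilizer_iff,
        mem_stabilizer_iff, mem_stabilizer_iff, mul_smul, mul_smul, mul_smul, mul_smul, hho, hha,
        inv_smul_eq_iff, inv_smul_eq_iff, hho, hha]
    have hRb : R ≤ Db := fun g hg => mem_inf.2 ⟨hRo g hg, hb' g hg⟩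
    have hRb' : Cfsg.Lib.Coprime.conjMap h R ≤ Db := by
      intro x hx
      have hx' := hRD (Cfsg.Lib.Coprime.mem_conjMap.1 hx)
      obtain ⟨e1, e2⟩ := mem_inf.1 hx'
      rw [mem_stabilizer_iff, mul_smul, mul_smul, hho, inv_smul_eq_iff, hho] at e1
      rw [mem_stabilizer_iff, mul_smul, mul_smul, hha, inv_smul_eq_iff, hha] at e2
      exact mem_inf.2 ⟨e1, e2⟩
    let T : Sylow r Db := Sylow.ofCard (R.subgroupOf Db) (by
      rw [Nat.card_congr (subgroupOfEquivOfLe hRb).toEquiv, hcb, hfac, ← hRcard])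
    let T' : Sylow r Db := Sylow.ofCard ((Cfsg.Lib.Coprime.conjMap h R).subgroupOf Db) (by
      rw [Nat.card_congr (subgroupOfEquivOfLe hRb').toEquiv, Cfsg.Lib.Coprime.card_conjMap, hcb, hfac,
        ← hRcard])
    obtain ⟨d, hd⟩ := MulAction.exists_smul_eq Db T' T
    obtain ⟨hdo, hdb⟩ := mem_inf.1 d.2
    refine ⟨(d : G) * h, mem_inf.2 ⟨?_, ?_⟩, by rw [mul_smul, hha, mem_stabilizer_iff.1 hdb]⟩
    · rw [← Cfsg.Lib.Coprime.conjMap_eq_self_iff]
      have h1 : ((d • T' : Sylow r Db) : Subgroup Db).map Db.subtype = R := by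
        rw [hd]
        exact map_subgroupOf_eq_of_le hRb
      rw [Cfsg.Lib.Coprime.map_subtype_smul] at h1
      refine Eq.trans ?_ h1
      rw [show (T' : Subgroup Db).map Db.subtype = Cfsg.Lib.Coprime.conjMap h R from
        map_subgroupOf_eq_of_le hRb']
      ext x
      simp only [Cfsg.Lib.Coprime.mem_conjMap]
      group
    · rw [mem_stabilizer_iff, mul_smul, hho, mem_stabilizer_iff.1 hdo]
  have horb : orbit N a = F := by
    ext b
    constructor
    · rintro ⟨⟨g, hg⟩, rfl⟩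
      exact hNF g hg a ⟨hRa, hao⟩
    · intro hb'
      obtain ⟨g, hg, hga⟩ := hNtr b hb'
      exact ⟨⟨g, hg⟩, hga⟩
  have hNcard : Nat.card F * Nat.card R = Nat.card N := by
    rw [← horb, ← Subgroup.card_mul_index (stabilizer N a), index_stabilizer, ← Nat.card_coe_set_eq,
      mul_comm]
    congr 1
    rw [← hND, ← Nat.card_congr (subgroupOfEquivOfLe (inf_le_left : N ⊓ stabilizer G a ≤ N)).toEquiv]
    rw [show stabilizer N a = (N ⊓ stabilizer G a).subgroupOf N from Subgroup.ext fun x => by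
      rw [mem_subgroupOf, mem_inf]; exact ⟨fun h => ⟨x.2, h⟩, fun h => h.2⟩]
  -- `Y` is normalised
  have hNY : N ≤ normalizer (Y : Set G) := by
    intro g hg
    haveI := hRc
    refine Cfsg.Lib.Coprime.conjMap_eq_self_iff.1 ?_
    have hgR := (mem_inf.1 hg).1
    have hle : Cfsg.Lib.Coprime.conjMap g Y ≤ R :=
      (Cfsg.Lib.Coprime.conjMap_mono hYR).trans (Cfsg.Lib.Coprime.conjMap_eq_self hgR).le
    exact eq_of_cyclic_of_card hle hYR (Cfsg.Lib.Coprime.card_conjMap g Y)
  -- the two-group at `Y`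
  have hY3 : HasThree H Y := by
    obtain ⟨p, hp, q, hq, s, hs, h1, h2', h3'⟩ := h3
    exact ⟨p, fun g hg => hp g (hYR hg), q, fun g hg => hq g (hYR hg), s, fun g hg => hs g (hYR hg),
      h1, h2', h3'⟩
  have hYo : o ∈ fixOf (α := G ⧸ H) Y := fun g hg => hRo g (hYR hg)
  have hYa : a ∈ fixOf (α := G ⧸ H) Y := fun g hg => hRa g (hYR hg)
  obtain ⟨S', hS'le, hS'2, hS'tr, kY, hkY⟩ :=
    exists_two_transitive_fix hS hb reg hC (hR.to_le hYR) hY1 hY3 hYo hY2
  set M := normalizer (Y : Set G) ⊓ stabilizer G o with hM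
  have hS'M : S' ≤ M := fun s hs => mem_inf.2
    ⟨centralizer_le_normalizer _ (mem_inf.1 (hS'le hs)).1, (mem_inf.1 (hS'le hs)).2⟩
  have horbM : orbit M a = {y : G ⧸ H | y ∈ fixOf (α := G ⧸ H) Y ∧ y ≠ o} := by
    ext b
    constructor
    · rintro ⟨⟨g, hg⟩, rfl⟩
      exact ⟨fixOf_smul (mem_inf.1 hg).1 hYa, fun e => hao (smul_left_cancel g
        (e.trans (mem_stabilizer_iff.1 (mem_inf.1 hg).2).symm))⟩
    · rintro ⟨hb', hbo⟩
      obtain ⟨s, hs, hsa⟩ := hS'tr a hYa b hb' hao hbo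
      exact ⟨⟨s, hS'M hs⟩, hsa⟩
  have hMcard : Nat.card M = 2 ^ kY * Nat.card ↥(M ⊓ stabilizer G a) := by
    rw [← Subgroup.card_mul_index (stabilizer M a), index_stabilizer, horbM, mul_comm,
      ← Nat.card_coe_set_eq, ← hkY]
    congr 1
    rw [← Nat.card_congr (subgroupOfEquivOfLe (inf_le_left : M ⊓ stabilizer G a ≤ M)).toEquiv]
    congr 2
    ext x
    rw [mem_subgroupOf, mem_inf]
    exact ⟨fun h => ⟨x.2, h⟩, fun h => h.2⟩
  -- the number of the fixed points is a power of two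
  obtain ⟨kF, hkF⟩ : ∃ k, Nat.card F = 2 ^ k := by
    refine ⟨_, (Nat.eq_prime_pow_of_unique_prime_dvd (p := 2) ?_ fun {q} hq hqF => ?_)⟩
    · haveI : Nonempty F := ⟨⟨a, hRa, hao⟩⟩
      exact Nat.card_pos.ne'
    by_contra hq2
    haveI := Fact.mk hq
    have hle : N ≤ M := le_inf hNY inf_le_right
    have hqM : q ^ ((Nat.card N).factorization q) ∣ Nat.card ↥(M ⊓ stabilizer G a) := by
      have h1 : q ^ ((Nat.card N).factorization q) ∣ Nat.card M :=
        (Nat.ordProj_dvd _ q).trans (card_dvd_of_le hle)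
      rw [hMcard] at h1
      exact (Nat.Coprime.pow _ _ ((Nat.coprime_primes hq Nat.prime_two).2 hq2)).dvd_of_dvd_mul_left h1
    have hposF : 0 < (Nat.card F).factorization q :=
      hq.factorization_pos_of_dvd (by haveI : Nonempty F := ⟨⟨a, hRa, hao⟩⟩; exact Nat.card_pos.ne') hqF
    have hNfac : (Nat.card N).factorization q =
        (Nat.card F).factorization q + (Nat.card R).factorization q := by
      rw [← hNcard, Nat.factorization_mul (by haveI : Nonempty F := ⟨⟨a, hRa, hao⟩⟩; exact Nat.card_pos.ne')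
        Nat.card_pos.ne', Finsupp.add_apply]
    by_cases hqr : q = r
    · subst hqr
      have h1 := Nat.le_of_dvd Nat.card_pos
        (hqM.trans (card_dvd_of_le (inf_le_inf_right _ inf_le_right)))
      have h2' : q ^ (Nat.card N).factorization q ∣ Nat.card D :=
        hqM.trans (card_dvd_of_le (inf_le_inf_right _ inf_le_right))
      have h3' := (hq.pow_dvd_iff_le_factorization Nat.card_pos.ne').1 h2'
      omega
    -- a `q`-element of `N` fixes a second point
    obtain ⟨w, hw⟩ := exists_prime_orderOf_dvd_card' (G := N) q (hqF.trans ⟨_, hNcard.symm⟩)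
    obtain ⟨T, hT⟩ := IsPGroup.exists_le_sylow (p := q) (P := zpowers (⟨(w : G), hle w.2⟩ : M))
      (IsPGroup.of_card (n := 1) (by
        rw [Nat.card_zpowers, pow_one, ← hw, ← Subgroup.orderOf_coe, ← Subgroup.orderOf_coe w]))
    obtain ⟨T₀⟩ : Nonempty (Sylow q ↥(M ⊓ stabilizer G a)) := inferInstance
    have hMfac : (Nat.card M).factorization q = (Nat.card ↥(M ⊓ stabilizer G a)).factorization q := by
      rw [hMcard, Nat.factorization_mul (by positivity) Nat.card_pos.ne', Finsupp.add_apply,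
        Nat.factorization_eq_zero_of_not_dvd fun h => hq2 ((Nat.prime_dvd_prime_iff_eq hq Nat.prime_two).1
          (hq.dvd_of_dvd_pow h)), zero_add]
    set T₁ := ((T₀ : Subgroup ↥(M ⊓ stabilizer G a)).map (M ⊓ stabilizer G a).subtype) with hT₁
    have hT₁M : T₁ ≤ M := (map_subtype_le _).trans inf_le_left
    let T₂ : Sylow q M := Sylow.ofCard (T₁.subgroupOf M) (by
      rw [Nat.card_congr (subgroupOfEquivOfLe hT₁M).toEquiv, hT₁,
        card_map_of_injective (Subgroup.subtype_injective _), Sylow.card_eq_multiplicity, hMfac])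
    obtain ⟨g, hg⟩ := MulAction.exists_smul_eq M T₂ T
    have hwfix : (w : G) • (g : G) • a = (g : G) • a := by
      have h1 : (⟨(w : G), hle w.2⟩ : M) ∈ ((g • T₂ : Sylow q M) : Subgroup M) := by
        rw [hg]; exact hT (mem_zpowers _)
      have h2' := mem_map_of_mem M.subtype h1
      rw [Cfsg.Lib.Coprime.map_subtype_smul, show (T₂ : Subgroup M).map M.subtype = T₁ from
        map_subgroupOf_eq_of_le hT₁M, Cfsg.Lib.Coprime.mem_conjMap] at h2'
      have h3' := (mem_inf.1 (map_subtype_le _ h2')).2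
      rw [mem_stabilizer_iff, mul_smul, mul_smul, inv_smul_eq_iff] at h3'
      exact h3'
    obtain ⟨hwn, hwo⟩ := mem_inf.1 w.2
    have hgao : (g : G) • a ≠ o := fun e => hao (smul_left_cancel (g : G)
      (e.trans (mem_stabilizer_iff.1 (mem_inf.1 g.2).2).symm))
    have hwv : (w : G) * v * (w : G)⁻¹ = v := by
      refine (huniq v _ hv (by rw [orderOf_conj', hv]) hvo ?_ hvR fun x hx => ?_).symm
      · rw [mul_smul, mul_smul, mem_stabilizer_iff.1 (inv_mem hwo), hvo, mem_stabilizer_iff.1 hwo]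
      · refine mem_centralizer_singleton_iff.2 ?_
        have h1 := mem_centralizer_singleton_iff.1 (hvR ((mem_normalizer_iff''.1 hwn x).1 hx))
        calc x * ((w : G) * v * (w : G)⁻¹) = w * ((w : G)⁻¹ * x * w * v) * (w : G)⁻¹ := by group
          _ = w * (v * ((w : G)⁻¹ * x * w)) * (w : G)⁻¹ := by rw [h1]
          _ = (w : G) * v * (w : G)⁻¹ * x := by group
    obtain ⟨l, hl⟩ := IsPGroup.iff_orderOf.1 (hCv _ hgao) ⟨(w : G), mem_inf.2
      ⟨mem_inf.2 ⟨hwo, mem_stabilizer_iff.2 hwfix⟩,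
        mem_centralizer_singleton_iff.2 (mul_inv_eq_iff_eq_mul.1 hwv)⟩⟩
    rw [Subgroup.orderOf_mk, Subgroup.orderOf_coe, hw] at hl
    rcases Nat.eq_zero_or_pos l with rfl | hl0
    · exact hq.ne_one (by simpa using hl)
    · exact hqr ((Nat.prime_dvd_prime_iff_eq hq (Fact.out : r.Prime)).1
        (hq.dvd_of_dvd_pow (n := l) (hl ▸ dvd_refl q)))
  -- the Sylow 2-subgroup of the normaliser
  haveI : Fact (Nat.Prime 2) := ⟨Nat.prime_two⟩
  obtain ⟨T⟩ : Nonempty (Sylow 2 N) := inferInstance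
  set S := (T : Subgroup N).map N.subtype with hSdef
  have hS2 : IsPGroup 2 S := T.isPGroup'.map _
  have hRodd : Odd (Nat.card R) := hDodd.of_dvd_nat (card_dvd_of_le hRD)
  have hScard : Nat.card S = 2 ^ kF := by
    rw [hSdef, card_map_of_injective N.subtype_injective, Sylow.card_eq_multiplicity, ← hNcard, hkF,
      Nat.factorization_mul (by positivity) Nat.card_pos.ne', Finsupp.add_apply,
      Nat.factorization_pow, Finsupp.smul_apply, Nat.prime_two.factorization_self, smul_eq_mul, mul_one,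
      Nat.factorization_eq_zero_of_not_dvd hRodd.not_two_dvd_nat, add_zero]
  have hSN : S ≤ N := map_subtype_le _
  have hSorb : orbit S a = F := by
    have hsub : orbit S a ⊆ F := by
      rintro _ ⟨⟨s, hs⟩, rfl⟩
      exact hNF s (hSN hs) a ⟨hRa, hao⟩
    refine Set.eq_of_subset_of_ncard_le hsub ?_
    have hstab : stabilizer S a = ⊥ := by
      rw [eq_bot_iff]
      intro s hs
      have h1 : (s : G) ∈ R := hND.le (mem_inf.2 ⟨hSN s.2, hs⟩)
      have h2' : orderOf (s : G) = 1 := by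
        obtain ⟨l, hl⟩ := IsPGroup.iff_orderOf.1 hS2 s
        rw [← Subgroup.orderOf_coe] at hl
        exact Nat.eq_one_of_dvd_coprimes ((Nat.coprime_two_left.2 hRodd).pow_left l) hl.dvd
          (Subgroup.orderOf_dvd_natCard _ h1)
      exact mem_bot.2 (Subtype.ext (orderOf_eq_one_iff.1 h2'))
    rw [← Nat.card_coe_set_eq, ← Nat.card_coe_set_eq (s := orbit S a), hkF, ← hScard,
      Nat.card_congr (orbitEquivQuotientStabilizer S a), hstab,
      Nat.card_congr (QuotientGroup.quotientBot (G := S)).toEquiv]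
  refine ⟨S, fun s hs => mem_inf.2 ⟨?_, (mem_inf.1 (hSN hs)).2⟩, hS2, fun x hx y hy hxo hyo => ?_⟩
  · obtain ⟨x, hx⟩ := hRc.exists_generator
    obtain ⟨hsn, hso⟩ := mem_inf.1 (hSN hs)
    obtain ⟨j, hj⟩ := hx ⟨s * x * s⁻¹, (mem_normalizer_iff.1 hsn x).1 x.2⟩
    have hj' : (x : G) ^ j = s * x * s⁻¹ := congrArg Subtype.val hj
    have hpow : ∀ n : ℕ, s ^ n * (x : G) * (s ^ n)⁻¹ = (x : G) ^ (j ^ n) := by
      intro n
      induction n with
      | zero => simp
      | succ n ih =>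
        rw [pow_succ s, show s ^ n * s * (x : G) * (s ^ n * s)⁻¹ = s ^ n * (s * x * s⁻¹) * (s ^ n)⁻¹ by group,
          ← hj', ← conj_zpow, ih, ← zpow_mul, pow_succ]
    obtain ⟨kk, hkk⟩ := hS2 ⟨s, hs⟩
    have hkk' : s ^ 2 ^ kk = 1 := congrArg Subtype.val hkk
    have hxo' : orderOf (x : G) = r ^ i := by
      rw [Subgroup.orderOf_coe, orderOf_eq_card_of_forall_mem_zpowers hx, hi]
    have h1 : j ^ 2 ^ kk ≡ 1 [ZMOD (r : ℤ) ^ i] := by
      have h := hpow (2 ^ kk)
      rw [hkk', one_mul, inv_one, mul_one] at h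
      have h' : (x : G) ^ (1 : ℤ) = (x : G) ^ (j ^ 2 ^ kk) := by rw [zpow_one]; exact h
      rw [zpow_eq_zpow_iff_modEq, hxo'] at h'
      exact_mod_cast h'.symm
    -- `s` centralises `Y`
    have hsY : ∀ y ∈ Y, s * y * s⁻¹ = y := by
      have hsM : s ∈ M := mem_inf.2 ⟨hNY (hSN hs), hso⟩
      obtain ⟨s', hs', hs'a⟩ := hS'tr a hYa (s • a)
        (fixOf_smul (hNY (hSN hs)) hYa) hao
        (fun e => hao (smul_left_cancel s (e.trans (mem_stabilizer_iff.1 hso).symm)))
      intro y hy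
      -- the index of the centraliser is odd
      set CM := (centralizer (Y : Set G)).subgroupOf M with hCM
      haveI : CM.Normal := by
        refine ⟨fun c hc g => mem_subgroupOf.2 (mem_centralizer_iff.2 fun z hz => ?_)⟩
        have h1' := mem_centralizer_iff.1 (mem_subgroupOf.1 hc) _
          ((mem_normalizer_iff''.1 (mem_inf.1 g.2).1 z).1 hz)
        push_cast
        calc z * ((g : G) * c * (g : G)⁻¹) = g * ((g : G)⁻¹ * z * g * c) * (g : G)⁻¹ := by group
          _ = g * (c * ((g : G)⁻¹ * z * g)) * (g : G)⁻¹ := by rw [h1']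
          _ = (g : G) * c * (g : G)⁻¹ * z := by group
      have hdvd : orderOf ((⟨s, hsM⟩ : M) : M ⧸ CM) ∣ Nat.card D := by
        set d : M := (⟨s', hS'M hs'⟩ : M)⁻¹ * ⟨s, hsM⟩ with hd
        have hdD : (d : G) ∈ D := mem_inf.2 ⟨(mem_inf.1 d.2).2, by
          rw [mem_stabilizer_iff, hd]
          push_cast
          rw [mul_smul, ← hs'a, inv_smul_smul]⟩
        have heq : ((⟨s, hsM⟩ : M) : M ⧸ CM) = (d : M ⧸ CM) := by
          rw [QuotientGroup.eq, hd, ← mul_assoc, mem_subgroupOf]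
          push_cast
          refine mem_centralizer_iff.2 fun z hz => ?_
          have hz' : s⁻¹⁻¹ * z * s⁻¹ ∈ Y :=
            (mem_normalizer_iff''.1 (inv_mem (hNY (hSN hs))) z).1 hz
          rw [inv_inv] at hz'
          have h5 : Commute (s'⁻¹) (s * z * s⁻¹) :=
            Commute.inv_left (mem_centralizer_iff.1 (mem_inf.1 (hS'le hs')).1 _ hz').symm
          calc z * (s⁻¹ * s'⁻¹ * s) = s⁻¹ * ((s * z * s⁻¹) * s'⁻¹) * s := by group
            _ = s⁻¹ * (s'⁻¹ * (s * z * s⁻¹)) * s := by rw [h5.eq]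
            _ = s⁻¹ * s'⁻¹ * s * z := by group
        rw [heq]
        refine (orderOf_map_dvd (QuotientGroup.mk' CM) d).trans ?_
        rw [← Subgroup.orderOf_coe]
        exact Subgroup.orderOf_dvd_natCard _ hdD
      have hdvd2 : orderOf ((⟨s, hsM⟩ : M) : M ⧸ CM) ∣ 2 ^ kk := by
        refine (orderOf_map_dvd (QuotientGroup.mk' CM) _).trans ?_
        rw [Subgroup.orderOf_mk]
        exact orderOf_dvd_of_pow_eq_one hkk'
      have h3' := (QuotientGroup.eq_one_iff _).1 (orderOf_eq_one_iff.1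
        (Nat.eq_one_of_dvd_coprimes ((Nat.coprime_two_left.2 hDodd).pow_left kk) hdvd2 hdvd))
      rw [← mem_centralizer_iff.1 (mem_subgroupOf.1 h3') y hy, mul_inv_cancel_right]
    have h2' : j ≡ 1 [ZMOD (r : ℤ)] := by
      obtain ⟨y, hyY, hy1⟩ := (Subgroup.ne_bot_iff_exists_ne_one.1 hY1) |> fun ⟨y, hy⟩ =>
        (⟨y, y.2, fun e => hy (Subtype.ext e)⟩ : ∃ y, y ∈ Y ∧ y ≠ (1 : G))
      obtain ⟨l, hl⟩ := hx ⟨y, hYR hyY⟩
      have hl' : (x : G) ^ l = y := congrArg Subtype.val hl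
      have h := hsY y hyY
      rw [← hl', ← conj_zpow, ← hj', ← zpow_mul, zpow_eq_zpow_iff_modEq, hxo'] at h
      -- `(j - 1) l` is divisible by the order, `l` is not
      by_contra hne
      have hcop : IsCoprime ((r : ℤ) ^ i) (1 - j) := IsCoprime.pow_left
        ((Nat.prime_iff_prime_int.1 (Fact.out : r.Prime)).coprime_iff_not_dvd.2
          fun hd => hne (Int.modEq_iff_dvd.2 hd))
      have hd : (r : ℤ) ^ i ∣ (1 - j) * l := by
        have := Int.modEq_iff_dvd.1 h
        push_cast at this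
        convert this using 1
        ring
      have h4 := hcop.dvd_of_dvd_mul_left hd
      refine hy1 ?_
      rw [← hl', ← zpow_zero (x : G), zpow_eq_zpow_iff_modEq, hxo']
      push_cast
      exact Int.modEq_zero_iff_dvd.2 h4
    have hj1 := int_modEq_one_of_pow (Fact.out : r.Prime) hr2 h2' h1
    refine mem_centralizer_iff.2 fun y hy => ?_
    obtain ⟨l, hl⟩ := hx ⟨y, hy⟩
    have hl' : (x : G) ^ l = y := congrArg Subtype.val hl
    have hsx : s * x * s⁻¹ = (x : G) := by
      rw [← hj']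
      nth_rewrite 2 [← zpow_one (x : G)]
      rw [zpow_eq_zpow_iff_modEq, hxo']
      push_cast
      exact hj1
    rw [← hl', ((show Commute s (x : G) from mul_inv_eq_iff_eq_mul.1 hsx).zpow_right l).eq]
  · have hx' : x ∈ orbit S a := hSorb.symm ▸ (⟨hx, hxo⟩ : x ∈ F)
    have hy' : y ∈ orbit S a := hSorb.symm ▸ (⟨hy, hyo⟩ : y ∈ F)
    obtain ⟨⟨s₁, h₁⟩, e₁⟩ := hx'
    obtain ⟨⟨s₂, h₂⟩, e₂⟩ := hy'
    have e₁' : s₁ • a = x := e₁
    have e₂' : s₂ • a = y := e₂
    exact ⟨s₂ * s₁⁻¹, mul_mem h₂ (inv_mem h₁), by rw [mul_smul, inv_smul_eq_iff.2 e₁'.symm, e₂']⟩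

end Cfsg.Lib.BenderSE
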