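/-
The remaining configuration of step 7 of notes/bender_reg_h7.md: `D = ΓL(1, 2^s)` acting faithfully on
the involutions at the point, `s` an odd prime.
-/
import Cfsg.Agent.BenderSE.Reg.Control

set_option autoImplicit false
set_option linter.unusedSectionVars false

namespace Cfsg.Lib.BenderSE

open Subgroup MulAction

universe u

variable {G : Type u} [Group G]

/-- STEP 7: `D = A P` with `A` regular on the involutions at `o = H` and `P` of prime order `s`
centralising exactly one of them, `2^s` the number of involutions plus one. -/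
structure StepSeven (H : Subgroup G) (a : G ⧸ H) (s : ℕ) (A P : Subgroup G) : Prop where
  setting : Setting H
  noBad : NoBad H
  twoTrans : TwoTransitive H
  commAt : CommAt H
  ne : a ≠ QuotientGroup.mk 1
  faithful : centGroup (QuotientGroup.mk 1 : G ⧸ H) ⊓ stabilizer G a = ⊥
  prime : s.Prime
  s_ne_two : s ≠ 2
  count : invCount H + 1 = 2 ^ s
  card_A : Nat.card A = invCount H
  card_P : Nat.card P = s
  comm : IsMulCommutative A
  sup_eq : A ⊔ P = stabilizer G (QuotientGroup.mk 1 : G ⧸ H) ⊓ stabilizer G a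
  inf_eq : A ⊓ P = ⊥
  norm : stabilizer G (QuotientGroup.mk 1 : G ⧸ H) ⊓ stabilizer G a ≤ normalizer (A : Set G)
  regular : ∀ i j : G, i ∈ invsAt (QuotientGroup.mk 1 : G ⧸ H) → j ∈ invsAt (QuotientGroup.mk 1 : G ⧸ H) →
    ∃! d, d ∈ A ∧ d * i * d⁻¹ = j
  inverted : ∃ t : G, orderOf t = 2 ∧ t • (QuotientGroup.mk 1 : G ⧸ H) = a ∧
    (∀ x ∈ A, t * x * t⁻¹ = x⁻¹) ∧ P ≤ centralizer ({t} : Set G)
  fixed : CentredIn P (QuotientGroup.mk 1 : G ⧸ H)
  rankOne : ∀ v w : G, v ∈ invsAt (QuotientGroup.mk 1 : G ⧸ H) → w ∈ invsAt (QuotientGroup.mk 1 : G ⧸ H) →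
    P ≤ centralizer ({v} : Set G) → P ≤ centralizer ({w} : Set G) → v = w

end Cfsg.Lib.BenderSE
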