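/-
Steps 3-6 of notes/bender_reg_h7.md: a faithful pair stabiliser either gives a regular normal subgroup
or the configuration of step 7.
-/
import Cfsg.Agent.BenderSE.Reg.Semilinear
import Cfsg.Agent.BenderSE.Reg.PowerCase
import Cfsg.Agent.BenderSE.Reg.StepSeven

set_option autoImplicit false
set_option linter.unusedSectionVars false
set_option linter.style.haveILetI false

namespace Cfsg.Lib.BenderSE

open Subgroup MulAction Cfsg.Lib.InvolCalc Cfsg.Lib.StrongEmb

universe u

variable {G : Type u} [Group G] [Finite G] {H : Subgroup G}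

/-- `2 ^ (r ^ i) - 1` is prime to `r` -/
theorem not_dvd_two_pow_pow_sub_one {r i : ℕ} [Fact r.Prime] :
    ¬ r ∣ 2 ^ r ^ i - 1 := by
  have hr : r.Prime := Fact.out
  intro hd
  have h1 : ((2 : ZMod r)) ^ r ^ i = 1 := by
    rw [← sub_eq_zero]
    have h := (ZMod.natCast_eq_zero_iff (2 ^ r ^ i - 1) r).2 hd
    rw [Nat.cast_sub Nat.one_le_two_pow] at h
    push_cast at h
    exact h
  rw [ZMod.pow_card_pow] at h1
  have h2 : ((1 : ℕ) : ZMod r) = 0 := by
    push_cast
    linear_combination h1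
  exact hr.not_dvd_one ((ZMod.natCast_eq_zero_iff 1 r).1 h2)

/-- STEPS 3 to 6 -/
theorem hasRegular_or_stepSeven (hS : Setting H) (hb : NoBad H) (h2 : TwoTransitive H)
    (reg : RegBelow.{u} (Nat.card G)) (hC : CommAt H) {a : G ⧸ H} (hao : a ≠ QuotientGroup.mk 1)
    (hD0 : centGroup (QuotientGroup.mk 1 : G ⧸ H) ⊓ stabilizer G a = ⊥) :
    HasRegular H ∨ ∃ (s : ℕ) (A P : Subgroup G), StepSeven H a s A P := by
  have hH := hS.se
  by_cases htg : TwoGroupMoves H a
  · exact Or.inl (hasRegular_of_twoGroupMoves hS hb h2 hao htg)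
  simp only [TwoGroupMoves, not_forall, not_exists] at htg
  obtain ⟨r, R, hr, hR, hRD, hR1, h3, hno⟩ := htg
  haveI := Fact.mk hr
  set o : G ⧸ H := QuotientGroup.mk 1 with ho
  set D := stabilizer G o ⊓ stabilizer G a with hD
  have hRo : o ∈ fixOf (α := G ⧸ H) R := fun g hg => (mem_inf.1 (hRD hg)).1
  have hnot : ¬ TwoCentred R o := fun ht => by
    obtain ⟨S, h₁, h₂, h₃, -⟩ := exists_two_transitive_fix hS hb reg hC hR hR1 h3 hRo ht
    exact hno S ⟨h₁, h₂, h₃⟩
  obtain ⟨u, hu, huo, huR⟩ := centredIn_of_hasThree hH hb hR h3 hRo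
  have huniq : ∀ w : G, orderOf w = 2 → w • o = o → R ≤ centralizer ({w} : Set G) → w = u :=
    fun w hw hwo hwR => by_contra fun hne => hnot ⟨w, u, hw, hu, hne, hwo, huo, hwR, huR⟩
  obtain ⟨t, ht, hto⟩ := exists_swapper hH hao.symm
  obtain ⟨A, hAD, hAn, hAc, hAcard, hAinv, -, hAtr, hAfree, hAt, hsup, hPc, -, u₀, hu₀, hPu₀⟩ :=
    exists_singer hS hC hao ht hto hD0
  set P := D ⊓ centralizer ({t} : Set G) with hP
  have hm := invCount_pos hH
  have hPle : P ≤ D ⊓ centralizer ({u₀} : Set G) :=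
    le_inf inf_le_left fun g hg => mem_centralizer_singleton_iff.2 (hPu₀ g hg).eq
  have hPcard : Nat.card P * invCount H = Nat.card D := card_centralizer_swapper hH hao.symm ht hto
  have hPeq : P = D ⊓ centralizer ({u₀} : Set G) :=
    Subgroup.eq_of_le_of_card_ge hPle (Nat.eq_of_mul_eq_mul_right hm
      ((card_centralizer_fixing hH hao.symm hu₀.1 hu₀.2).trans hPcard.symm)).le
  obtain ⟨d, hd, hdu⟩ := hAtr u₀ hu₀ u ⟨hu, huo⟩
  have hback : ∀ y ∈ D ⊓ centralizer ({u} : Set G), d⁻¹ * y * d ∈ P := by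
    intro y hy
    obtain ⟨hyD, hyu⟩ := mem_inf.1 hy
    rw [hPeq]
    refine mem_inf.2 ⟨mul_mem (mul_mem (inv_mem (hAD hd)) hyD) (hAD hd),
      mem_centralizer_singleton_iff.2 ?_⟩
    have h1 : y * u = u * y := mem_centralizer_singleton_iff.1 hyu
    calc d⁻¹ * y * d * u₀ = d⁻¹ * (y * (d * u₀ * d⁻¹)) * d := by group
      _ = d⁻¹ * ((d * u₀ * d⁻¹) * y) * d := by rw [hdu, h1]
      _ = u₀ * (d⁻¹ * y * d) := by group
  have hRC : R ≤ D ⊓ centralizer ({u} : Set G) := le_inf hRD huR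
  -- `R` is cyclic
  haveI : IsCyclic ↥(D ⊓ centralizer ({u} : Set G)) := by
    haveI := hPc
    refine isCyclic_of_injective (G' := P) (MonoidHom.mk'
      (fun y : ↥(D ⊓ centralizer ({u} : Set G)) => (⟨d⁻¹ * (y : G) * d, hback _ y.2⟩ : P))
      fun y z => Subtype.ext (by
        show d⁻¹ * ((y : G) * z) * d = d⁻¹ * y * d * (d⁻¹ * z * d)
        group)) fun y z h => ?_
    have h1 : d⁻¹ * (y : G) * d = d⁻¹ * z * d := congrArg Subtype.val h
    exact Subtype.ext (mul_left_cancel (mul_right_cancel h1))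
  haveI hRc : IsCyclic R := isCyclic_of_injective (inclusion hRC) (inclusion_injective hRC)
  obtain ⟨⟨x, hxR⟩, hx⟩ := hRc.exists_generator
  have hRx : R = zpowers x := by
    refine le_antisymm (fun y hy => ?_) (zpowers_le.2 hxR)
    obtain ⟨l, hl⟩ := hx ⟨y, hy⟩
    exact ⟨l, congrArg Subtype.val hl⟩
  have hxu : Commute x u := mem_centralizer_singleton_iff.1 (huR hxR)
  obtain ⟨i, hcount, hord, hCu⟩ := exists_generator_of_unique hS hC hao hD0 (hRD hxR) (hRx ▸ hR)
    ⟨hu, huo⟩ hxu fun w hw hc => huniq w hw.1 hw.2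
      (hRx ▸ zpowers_le.2 (mem_centralizer_singleton_iff.2 hc.eq))
  have hRcard : Nat.card R = r ^ i := by rw [hRx, Nat.card_zpowers, hord]
  have hRm : Nat.card R * invCount H = Nat.card D := by
    have h1 := card_centralizer_fixing hH hao.symm hu huo
    rwa [hCu, ← hRx] at h1
  have hi0 : i ≠ 0 := fun e => hR1 (Subgroup.card_eq_one.1 (by rw [hRcard, e, pow_zero]))
  have hDodd : Odd (Nat.card D) := odd_stabilizer_inf hH hao.symm
  rcases Nat.lt_or_ge i 2 with hi | hi
  · -- step 7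
    obtain rfl : i = 1 := by omega
    rw [pow_one] at hcount hRcard
    have hPr : Nat.card P = r :=
      Nat.eq_of_mul_eq_mul_right hm (by rw [hPcard, ← hRm, hRcard])
    have hr2 : r ≠ 2 := fun e => by
      have h1 := hDodd.of_dvd_nat (card_dvd_of_le hRD)
      rw [hRcard, e] at h1
      exact absurd h1 (by decide)
    refine Or.inr ⟨r, A, P, ⟨hS, hb, h2, hC, hao, hD0, hr, hr2, hcount, hAcard, hPr,
      ?_, hsup, ?_, hAn, ?_, ⟨t, ht, hto, hAinv, inf_le_right⟩,
      ⟨u₀, hu₀.1, hu₀.2, hPle.trans inf_le_right⟩, ?_⟩⟩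
    · exact IsCyclic.isMulCommutative
    · exact eq_bot_iff.2 ((inf_le_inf le_rfl inf_le_right).trans hAt.le)
    · intro v w hv hw
      obtain ⟨y, hy, hyw⟩ := hAtr v hv w hw
      refine ⟨y, ⟨hy, hyw⟩, fun z ⟨hz, hzw⟩ => ?_⟩
      refine (inv_mul_eq_one.1 (hAfree (y⁻¹ * z) (mul_mem (inv_mem hy) hz) v hv ?_)).symm
      show y⁻¹ * z * v = v * (y⁻¹ * z)
      calc y⁻¹ * z * v = y⁻¹ * (z * v * z⁻¹) * z := by group
        _ = y⁻¹ * (y * v * y⁻¹) * z := by rw [hzw, hyw]
        _ = v * (y⁻¹ * z) := by group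
    · intro v w hv hw hvP hwP
      have key : ∀ v : G, v ∈ invsAt o → P ≤ centralizer ({v} : Set G) → d * v * d⁻¹ = u := by
        intro v hv hvP
        refine huniq _ (by rw [orderOf_conj', hv.1]) ?_ fun y hy => mem_centralizer_singleton_iff.2 ?_
        · have hdo : d • o = o := mem_stabilizer_iff.1 (mem_inf.1 (hAD hd)).1
          rw [mul_smul, mul_smul, inv_smul_eq_iff.2 hdo.symm, hv.2, hdo]
        · have h1 : d⁻¹ * y * d * v = v * (d⁻¹ * y * d) :=
            mem_centralizer_singleton_iff.1 (hvP (hback y (hRC hy)))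
          calc y * (d * v * d⁻¹) = d * (d⁻¹ * y * d * v) * d⁻¹ := by group
            _ = d * (v * (d⁻¹ * y * d)) * d⁻¹ := by rw [h1]
            _ = d * v * d⁻¹ * y := by group
      exact mul_left_cancel (mul_right_cancel ((key v hv hvP).trans (key w hw hwP).symm))
  · -- step 6
    exfalso
    set y := x ^ r with hy
    have hyord : orderOf y = r ^ (i - 1) := by
      rw [hy, orderOf_pow' x hr.ne_zero, hord, Nat.gcd_eq_right (dvd_pow_self r hi0)]
      refine Nat.div_eq_of_eq_mul_left hr.pos ?_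
      rw [← pow_succ, Nat.sub_add_cancel (by omega)]
    have hyR : zpowers y ≤ R := zpowers_le.2 (pow_mem hxR r)
    have hY1 : zpowers y ≠ ⊥ := fun e => by
      have h1 : Nat.card (zpowers y) = 1 := by rw [e, card_bot]
      rw [Nat.card_zpowers, hyord] at h1
      exact (Nat.one_lt_pow (by omega) hr.one_lt).ne' h1
    have hY2 : TwoCentred (zpowers y) o := by
      by_contra hnot'
      obtain ⟨j, hj1, hj2, -⟩ := exists_generator_of_unique hS hC hao hD0
        (hRD (hyR (mem_zpowers y))) (hR.to_le hyR) ⟨hu, huo⟩ (hxu.pow_left r) fun w hw hc => by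
          by_contra hne
          exact hnot' ⟨w, u, hw.1, hu, hne, hw.2, huo,
            zpowers_le.2 (mem_centralizer_singleton_iff.2 hc.eq), hyR.trans huR⟩
      have hij : i = j := Nat.pow_right_injective hr.two_le
        (Nat.pow_right_injective (le_refl 2) (hcount.symm.trans hj1))
      have h4 : i - 1 = j := Nat.pow_right_injective hr.two_le (hyord.symm.trans hj2)
      omega
    have hrm : ¬ r ∣ invCount H := by
      have h1 : invCount H = 2 ^ r ^ i - 1 := by omega
      rw [h1]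
      exact not_dvd_two_pow_pow_sub_one
    obtain ⟨S, h₁, h₂, h₃⟩ := exists_twoGroup_of_power hS hb h2 reg hC hao hRc hR hRD h3 hRm hrm
      (fun v w hv hw hvo hwo hvR hwR => (huniq v hv hvo hvR).trans (huniq w hw hwo hwR).symm)
      hyR hY1 hY2
    exact hno S ⟨h₁, h₂, h₃⟩

end Cfsg.Lib.BenderSE
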