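/-
THE JOINT INDUCTION of COMM and REG. The two inputs are `CommStepReg` (the involutions of `H` commute,
given REG below) and `SevenStep` (step 7 of notes/bender_reg_h7.md).
-/
import Cfsg.Agent.BenderSE.Induction
import Cfsg.Agent.BenderSE.Socle
import Cfsg.Agent.BenderSE.Reg.RankOne

set_option autoImplicit false
set_option linter.unusedSectionVars false
set_option linter.style.haveILetI false

namespace Cfsg.Lib.BenderSE

open Subgroup MulAction Cfsg.Lib.InvolCalc Cfsg.Lib.StrongEmb

universe u

/-- COMM in a simple group with REG in the smaller ones -/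
def CommStepReg : Prop :=
  ∀ (S : Type u) [Group S] [Finite S], IsSimpleGroup S →
    ∀ K : Subgroup S, Cfsg.IsStronglyEmbedded K → HasCommutingInvolutions S → TwoTransitive K →
      NoBad K → CentreSquares K → RegBelow.{u} (Nat.card S) →
      ∀ i ∈ K, ∀ j ∈ K, orderOf i = 2 → orderOf j = 2 → i * j = j * i

/-- step 7 in a simple group with REG in the smaller ones -/
def SevenStep : Prop :=
  ∀ (S : Type u) [Group S] [Finite S], IsSimpleGroup S → RegBelow.{u} (Nat.card S) →
    ∀ (K : Subgroup S) (a : S ⧸ K) (s : ℕ) (A P : Subgroup S), StepSeven K a s A P → HasRegular K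

variable {G : Type u} [Group G] [Finite G] {H : Subgroup G}

/-- commuting involutions in `H` commute at every point -/
theorem commAt_of_commute (h : ∀ i ∈ H, ∀ j ∈ H, orderOf i = 2 → orderOf j = 2 → i * j = j * i) :
    CommAt H := by
  intro c i j hi hj hic hjc
  obtain ⟨g, rfl⟩ := QuotientGroup.mk_surjective c
  have key : ∀ k : G, k • (QuotientGroup.mk g : G ⧸ H) = QuotientGroup.mk g → g⁻¹ * k * g ∈ H := by
    intro k hk
    rw [← smul_mk_one_iff (H := H), mul_smul, mul_smul,
      show g • (QuotientGroup.mk 1 : G ⧸ H) = QuotientGroup.mk g by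
        rw [MulAction.Quotient.smul_mk, smul_eq_mul, mul_one], hk,
      MulAction.Quotient.smul_mk, smul_eq_mul, inv_mul_cancel]
  have ho : ∀ k : G, orderOf k = 2 → orderOf (g⁻¹ * k * g) = 2 := fun k hk => by
    rw [show g⁻¹ * k * g = g⁻¹ * k * g⁻¹⁻¹ by rw [inv_inv], orderOf_conj', hk]
  have h1 := h _ (key i hic) _ (key j hjc) (ho i hi) (ho j hj)
  show i * j = j * i
  calc i * j = g * ((g⁻¹ * i * g) * (g⁻¹ * j * g)) * g⁻¹ := by group
    _ = g * ((g⁻¹ * j * g) * (g⁻¹ * i * g)) * g⁻¹ := by rw [h1]
    _ = j * i := by group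

/-- REG in a simple group from COMM and REG below -/
theorem hasRegular_of_regBelow [IsSimpleGroup G] (seven : SevenStep.{u}) (hS : Setting H)
    (hb : NoBad H) (h2 : TwoTransitive H) (reg : RegBelow.{u} (Nat.card G)) (hC : CommAt H) :
    HasRegular H := by
  obtain ⟨g, hg⟩ : ∃ g : G, g ∉ H := by
    by_contra h
    push Not at h
    exact hS.se.1 ((Subgroup.eq_top_iff' H).2 h)
  have hao : (QuotientGroup.mk g : G ⧸ H) ≠ QuotientGroup.mk 1 := fun h => by
    rw [QuotientGroup.eq, mul_one, inv_mem_iff] at h
    exact hg h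
  by_cases hD0 : centGroup (QuotientGroup.mk 1 : G ⧸ H) ⊓ stabilizer G (QuotientGroup.mk g : G ⧸ H) = ⊥
  · rcases hasRegular_or_stepSeven hS hb h2 reg hC hao hD0 with h | ⟨s, A, P, h⟩
    · exact h
    · exact seven G inferInstance reg H _ s A P h
  · exact hasRegular_of_kernel hS hb h2 (centreTwo_of_regBelow hS.se reg hC) hao hD0

/-- THE INDUCTION -/
theorem below_of_steps (step : CommStepReg.{u}) (seven : SevenStep.{u}) (n : ℕ) :
    CommBelow.{u} n ∧ RegBelow.{u} n := by
  induction n using Nat.strong_induction_on with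
  | _ n ih =>
    have comm : CommBelow.{u} n := by
      intro S _ _ hsimple hlt K hK h2
      haveI := hsimple
      have hcs : CentreSquares K := centreSquares_of_commBelow hK (ih _ hlt).1
      have hS : Setting K := ⟨hK, normalCore_eq_bot_of_simple hK, h2⟩
      have hb := noBad_of_centreSquares hS hcs
      exact step S hsimple K hK h2 (twoTransitive_of_noBad hK h2 hb) hb hcs (ih _ hlt).2
    refine ⟨comm, ?_⟩
    intro S _ _ hsimple hlt K hK h2
    haveI := hsimple
    have hcs : CentreSquares K := centreSquares_of_commBelow hK (ih _ hlt).1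
    have hS : Setting K := ⟨hK, normalCore_eq_bot_of_simple hK, h2⟩
    have hb := noBad_of_centreSquares hS hcs
    exact hasRegular_of_regBelow seven hS hb (twoTransitive_of_noBad hK h2 hb) (ih _ hlt).2
      (commAt_of_commute (comm S hsimple hlt K hK h2))

theorem regProp_of_steps (step : CommStepReg.{u}) (seven : SevenStep.{u}) : RegProp.{u} :=
  fun S _ _ hsimple => (below_of_steps step seven (Nat.card S + 1)).2 S hsimple (Nat.lt_succ_self _)

theorem commStep_of_steps (step : CommStepReg.{u}) (seven : SevenStep.{u}) : CommStep.{u} :=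
  fun S _ _ hsimple K hK h2 ht hb hcs => step S hsimple K hK h2 ht hb hcs (below_of_steps step seven _).2

theorem coreStep_of_regProp (reg : RegProp.{u}) : CoreStep.{u} := by
  intro S _ _ hsimple K hK h2 _ _ _ _
  haveI := hsimple
  have hS : Setting K := ⟨hK, normalCore_eq_bot_of_simple hK, h2⟩
  obtain ⟨L, Q, F⟩ := exists_frame reg hS
  have h1 : oddCoreOf K = ⊥ := F.oddCore_bot hS (oddCoreOf_le K)
    (le_normalizer.trans (normalizer_le_normalizer_oddCoreOf K)) (odd_card_oddCoreOf K)
  exact (map_eq_bot_iff_of_injective _ K.subtype_injective).1 h1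

/-- row 1221 -/
theorem oddCore_le_oddCore_of_steps (step : CommStepReg.{u}) (seven : SevenStep.{u})
    (hH : Cfsg.IsStronglyEmbedded H) :
    (Cfsg.oddCore ↥H).map H.subtype ≤ Cfsg.oddCore G :=
  oddCore_le_oddCore (commStep_of_steps step seven)
    (coreStep_of_regProp (regProp_of_steps step seven)) hH

end Cfsg.Lib.BenderSE
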