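/-
The generic half of notes/bender_reg_kill.md: the function counting pairs in one class with given product, the
equality case of Cauchy-Schwarz on constituents, and the Mackey formula for a two-transitive point stabiliser.
-/
import Cfsg.Agent.Chars.Core
import Cfsg.Agent.Chars.Sums
import Cfsg.Agent.Chars.Perm

set_option autoImplicit false
set_option linter.unusedSectionVars false
set_option linter.style.haveILetI false

namespace Cfsg.Lib.BenderSE.CountPair

open scoped ComplexConjugate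
open Cfsg.Lib.Chars

universe u

variable {G : Type u} [Group G]

/-- The number of pairs of conjugates of `v` with product `g`. -/
noncomputable def pairCount (v g : G) : ℕ :=
  Nat.card {p : G × G // IsConj v p.1 ∧ IsConj v p.2 ∧ p.1 * p.2 = g}

/-- The number of conjugates of `v`. -/
noncomputable def classSize (v : G) : ℕ := Nat.card {x : G // IsConj v x}

theorem classSize_ne_zero [Finite G] (v : G) : classSize v ≠ 0 := by
  haveI : Nonempty {x : G // IsConj v x} := ⟨⟨v, IsConj.refl v⟩⟩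
  exact Nat.card_pos.ne'

theorem pairCount_conj (v g k : G) : pairCount v (k * g * k⁻¹) = pairCount v g := by
  refine Nat.card_congr ((Equiv.prodCongr (MulAut.conj k⁻¹).toEquiv (MulAut.conj k⁻¹).toEquiv).subtypeEquiv
    fun p => ?_)
  have e : ∀ a : G, IsConj v a ↔ IsConj v (k⁻¹ * a * k⁻¹⁻¹) := fun a =>
    ⟨fun h => h.trans (isConj_iff.2 ⟨k⁻¹, rfl⟩), fun h => h.trans (isConj_iff.2 ⟨k, by group⟩)⟩
  simp only [Equiv.prodCongr_apply, Prod.map_fst, Prod.map_snd, MulEquiv.toEquiv_eq_coe,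
    MulEquiv.coe_toEquiv, MulAut.conj_apply, ← e]
  refine and_congr_right fun _ => and_congr_right fun _ => ⟨fun h => ?_, fun h => ?_⟩
  · rw [show k⁻¹ * p.1 * k⁻¹⁻¹ * (k⁻¹ * p.2 * k⁻¹⁻¹) = k⁻¹ * (p.1 * p.2) * k by group, h]
    group
  · rw [show p.1 * p.2 = k * (k⁻¹ * p.1 * k⁻¹⁻¹ * (k⁻¹ * p.2 * k⁻¹⁻¹)) * k⁻¹ by group, h]

theorem isClassFunction_pairCount (v : G) : Cfsg.IsClassFunction G fun g => (pairCount v g : ℂ) :=
  fun g k => congrArg Nat.cast (pairCount_conj v g k)

theorem pairCount_eq_sum [Fintype G] (v g : G) :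
    (pairCount v g : ℂ) = (classSize v : ℂ) * classSize v / (Nat.card G : ℂ) *
      ∑ χ : Cfsg.IrrCharacter G, (χ : G → ℂ) v * (χ : G → ℂ) v * conj ((χ : G → ℂ) g) / (χ : G → ℂ) 1 :=
  class_mult_formula v v g

/-- The pairing of any function with the pair count through the irreducible constituents. -/
theorem inner_pairCount [Fintype G] (F : G → ℂ) (v : G) :
    Cfsg.classInner F (fun g => (pairCount v g : ℂ)) = (classSize v : ℂ) * classSize v / (Nat.card G : ℂ) *
      ∑ χ : Cfsg.IrrCharacter G,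
        Cfsg.classInner F (χ : G → ℂ) * ((χ : G → ℂ) v * (χ : G → ℂ) v / (χ : G → ℂ) 1) := by
  rw [classInner_def]
  simp only [Complex.conj_natCast]
  simp only [pairCount_eq_sum, Finset.mul_sum, classInner_def, Finset.sum_mul]
  rw [Finset.sum_comm]
  exact Finset.sum_congr rfl fun χ _ => Finset.sum_congr rfl fun g _ => by ring

/-- The pairing of an induced function, computed on the subgroup. -/
theorem inner_pairCount_indFun [Fintype G] (H : Subgroup G) [Fintype H] (θ : H → ℂ) (v : G) :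
    Cfsg.classInner θ (fun h : H => (pairCount v (h : G) : ℂ)) =
      (classSize v : ℂ) * classSize v / (Nat.card G : ℂ) *
        ∑ χ : Cfsg.IrrCharacter G,
          Cfsg.classInner θ (fun h : H => (χ : G → ℂ) h) * ((χ : G → ℂ) v * (χ : G → ℂ) v / (χ : G → ℂ) 1) := by
  rw [← frobenius_reciprocity H θ (isClassFunction_pairCount v), inner_pairCount]
  simp only [frobenius_reciprocity H θ (isClassFunction_irr _)]

/-- The equality case of Cauchy-Schwarz with weights `ρ`. -/
theorem eq_mul_of_sq_eq {ι : Type*} (S : Finset ι) {ρ b d : ι → ℝ} (hρ : ∀ i ∈ S, 0 ≤ ρ i)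
    (hd : ∀ i ∈ S, 0 < d i) (hpos : ∑ i ∈ S, ρ i * d i ≠ 0)
    (h : (∑ i ∈ S, ρ i * b i) ^ 2 = (∑ i ∈ S, ρ i * (b i ^ 2 / d i)) * ∑ i ∈ S, ρ i * d i) :
    ∀ i ∈ S, ρ i ≠ 0 → b i = (∑ j ∈ S, ρ j * b j) / (∑ j ∈ S, ρ j * d j) * d i := by
  set B := ∑ j ∈ S, ρ j * b j
  set D := ∑ j ∈ S, ρ j * d j
  set r := B / D with hr
  have hz : ∑ i ∈ S, ρ i * ((b i - r * d i) ^ 2 / d i) = 0 := by
    rw [Finset.sum_congr rfl fun i hi => show ρ i * ((b i - r * d i) ^ 2 / d i) =
      ρ i * (b i ^ 2 / d i) - (2 * r) * (ρ i * b i) + r ^ 2 * (ρ i * d i) by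
        have := (hd i hi).ne'
        field_simp
        ring, Finset.sum_add_distrib, Finset.sum_sub_distrib, ← Finset.mul_sum, ← Finset.mul_sum]
    have h1 : r * D = B := div_mul_cancel₀ B hpos
    refine (mul_left_inj' hpos).1 ?_
    rw [zero_mul]
    linear_combination -h + (r * D - B) * h1
  intro i hi hne
  have h1 := (Finset.sum_eq_zero_iff_of_nonneg fun j hj =>
    mul_nonneg (hρ j hj) (div_nonneg (sq_nonneg _) (hd j hj).le)).1 hz i hi
  rw [mul_eq_zero, div_eq_zero_iff, sq_eq_zero_iff] at h1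
  rcases h1.resolve_left hne with h2 | h2
  · linarith
  · exact absurd h2 (hd i hi).ne'

/-- The permutation character on the cosets is the induced trivial character. -/
theorem indFun_one_eq_permChar [Fintype G] (H : Subgroup G) :
    Cfsg.indFun H (fun _ => (1 : ℂ)) = permChar G (G ⧸ H) := by
  classical
  funext g
  rw [indFun_apply, Finset.sum_congr rfl fun x _ => show Cfsg.extendByZero H (fun _ => (1 : ℂ)) (x⁻¹ * g * x) =
    if x⁻¹ * g * x ∈ H then 1 else 0 by
      split_ifs with hx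
      · rw [extendByZero_mem _ hx]
      · rw [extendByZero_not_mem _ hx], Finset.sum_boole]
  have e : Nat.card {x : G // x⁻¹ * g * x ∈ H} = Nat.card H * Nat.card (MulAction.fixedBy (G ⧸ H) g) := by
    rw [← Nat.card_prod]
    refine Nat.card_congr ((Equiv.subtypeEquivRight fun x => ?_).trans
      (QuotientGroup.preimageMkEquivSubgroupProdSet H (MulAction.fixedBy (G ⧸ H) g)))
    show x⁻¹ * g * x ∈ H ↔ g • (x : G ⧸ H) = (x : G ⧸ H)
    rw [eq_comm, MulAction.Quotient.smul_mk, QuotientGroup.eq, smul_eq_mul, mul_assoc]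
  rw [← Fintype.card_subtype, ← Nat.card_eq_fintype_card, e, Nat.cast_mul,
    inv_mul_cancel_left₀ (Nat.cast_ne_zero.2 Nat.card_pos.ne')]
  rfl

/-- Mackey for two double cosets. -/
theorem classInner_indFun_two [Fintype G] (H : Subgroup G) [Fintype H] {t : G} (ht : t ∉ H)
    (htr : ∀ g : G, g ∉ H → ∃ h ∈ H, ∃ k ∈ H, g = h * t * k) (D : Subgroup G) [Fintype D]
    (hD : ∀ x, x ∈ D ↔ x ∈ H ∧ t⁻¹ * x * t ∈ H)
    {θ η : H → ℂ} (hθ : Cfsg.IsClassFunction H θ) (hη : Cfsg.IsClassFunction H η) :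
    Cfsg.classInner (Cfsg.indFun H θ) (Cfsg.indFun H η) = Cfsg.classInner θ η +
      Cfsg.classInner (fun x : D => θ ⟨x, ((hD x).1 x.2).1⟩)
        (fun x : D => η ⟨t⁻¹ * x * t, ((hD x).1 x.2).2⟩) := by
  classical
  have hH : (Nat.card H : ℂ) ≠ 0 := Nat.cast_ne_zero.2 Nat.card_pos.ne'
  have hDc : (Nat.card D : ℂ) ≠ 0 := Nat.cast_ne_zero.2 Nat.card_pos.ne'
  set φ : G → ℂ := fun g => ∑ x : H, θ x * conj (Cfsg.extendByZero H η (g⁻¹ * x * g)) with hφ
  have hext : ∀ (k : H) (y : G), Cfsg.extendByZero H η ((k : G)⁻¹ * y * k) = Cfsg.extendByZero H η y := by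
    intro k y
    by_cases hy : y ∈ H
    · rw [extendByZero_mem _ (H.mul_mem (H.mul_mem (H.inv_mem k.2) hy) k.2), extendByZero_mem _ hy]
      conv_rhs => rw [← hη ⟨y, hy⟩ k⁻¹]
      exact congrArg η (Subtype.ext (by simp))
    · rw [extendByZero_not_mem _ hy, extendByZero_not_mem]
      intro hm
      exact hy (by simpa [mul_assoc] using H.mul_mem (H.mul_mem k.2 hm) (H.inv_mem k.2))
  have hinv : ∀ (h k : H) (g : G), φ ((h : G) * g * k) = φ g := by
    intro h k g
    refine Fintype.sum_equiv (MulAut.conj h⁻¹).toEquiv _ _ fun x => ?_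
    rw [MulEquiv.toEquiv_eq_coe, MulEquiv.coe_toEquiv, MulAut.conj_apply, hθ x h⁻¹,
      show ((h : G) * g * k)⁻¹ * x * ((h : G) * g * k) = (k : G)⁻¹ * (g⁻¹ * ((h⁻¹ * x * h⁻¹⁻¹ : H) : G) * g) * k by
        simp only [Subgroup.coe_mul, Subgroup.coe_inv]
        group, hext]
  have h1 : Cfsg.classInner (Cfsg.indFun H θ) (Cfsg.indFun H η) =
      (Nat.card H : ℂ)⁻¹ * ((Nat.card H : ℂ)⁻¹ * ∑ g : G, φ g) := by
    rw [frobenius_reciprocity H θ (isClassFunction_indFun H η), classInner_def]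
    congr 1
    simp only [indFun_apply, map_mul, map_inv₀, Complex.conj_natCast, map_sum, hφ]
    rw [Finset.sum_comm, Finset.mul_sum]
    refine Finset.sum_congr rfl fun x _ => ?_
    rw [← Finset.mul_sum]
    ring
  have hφH : ∀ g ∈ H, φ g = (Nat.card H : ℂ) * Cfsg.classInner θ η := fun g hg => by
    have h0 := hinv ⟨g, hg⟩ 1 1
    simp only [mul_one, OneMemClass.coe_one] at h0
    rw [h0, classInner_def, ← mul_assoc, mul_inv_cancel₀ hH, one_mul]
    exact Finset.sum_congr rfl fun x _ => by rw [inv_one, one_mul, mul_one, extendByZero_apply]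
  have hφt : ∀ g ∉ H, φ g = (Nat.card D : ℂ) * Cfsg.classInner (fun x : D => θ ⟨x, ((hD x).1 x.2).1⟩)
      (fun x : D => η ⟨t⁻¹ * x * t, ((hD x).1 x.2).2⟩) := fun g hg => by
    obtain ⟨h, hh, k, hk, rfl⟩ := htr g hg
    have h0 := hinv ⟨h, hh⟩ ⟨k, hk⟩ t
    simp only at h0
    rw [h0, classInner_def, ← mul_assoc, mul_inv_cancel₀ hDc, one_mul, hφ]
    simp only
    rw [← Finset.sum_filter_add_sum_filter_not Finset.univ (fun x : H => t⁻¹ * (x : G) * t ∈ H),
      Finset.sum_eq_zero (s := Finset.univ.filter (fun x : H => ¬ t⁻¹ * (x : G) * t ∈ H)) (fun x hx => by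
        rw [extendByZero_not_mem _ (Finset.mem_filter.1 hx).2, map_zero, mul_zero]), add_zero]
    refine Finset.sum_bij' (fun x hx => (⟨x, (hD _).2 ⟨x.2, (Finset.mem_filter.1 hx).2⟩⟩ : D))
      (fun y _ => (⟨y, ((hD y).1 y.2).1⟩ : H)) (fun _ _ => Finset.mem_univ _) (fun y _ => by simp [((hD y).1 y.2).2])
      (fun _ _ => rfl) (fun _ _ => rfl) (fun x hx => ?_)
    rw [extendByZero_mem _ (Finset.mem_filter.1 hx).2]
  -- the number of elements outside `H`
  have hout : (Finset.univ.filter fun g : G => ¬ g ∈ H).card * Nat.card D = Nat.card H * Nat.card H := by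
    have e : Nat.card {g : G // ¬ g ∈ H} = Nat.card H * Nat.card (MulAction.orbit H ((t : G) : G ⧸ H)) := by
      rw [← Nat.card_prod]
      refine Nat.card_congr ((Equiv.subtypeEquivRight fun g => ?_).trans
        (QuotientGroup.preimageMkEquivSubgroupProdSet H (MulAction.orbit H ((t : G) : G ⧸ H))))
      show ¬ g ∈ H ↔ (g : G ⧸ H) ∈ MulAction.orbit H ((t : G) : G ⧸ H)
      constructor
      · intro hg
        obtain ⟨h, hh, k, hk, rfl⟩ := htr g hg
        refine ⟨⟨h, hh⟩, ?_⟩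
        show ((h * t : G) : G ⧸ H) = ((h * t * k : G) : G ⧸ H)
        exact QuotientGroup.eq.2 (by simpa [mul_assoc] using hk)
      · rintro ⟨h, hh⟩ hg
        change (((h : G) * t : G) : G ⧸ H) = (g : G ⧸ H) at hh
        rw [QuotientGroup.eq] at hh
        exact ht (by simpa [mul_assoc] using H.mul_mem (H.mul_mem (H.inv_mem h.2) hg) (H.inv_mem hh))
    have hst : Nat.card (MulAction.stabilizer H ((t : G) : G ⧸ H)) = Nat.card D := by
      refine Nat.card_congr
        { toFun := fun x => ⟨(x : H), (hD _).2 ⟨(x : H).2, ?_⟩⟩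
          invFun := fun y => ⟨⟨y, ((hD y).1 y.2).1⟩, ?_⟩
          left_inv := fun _ => rfl
          right_inv := fun _ => rfl }
      · have h0 : ((((x : H) : G) * t : G) : G ⧸ H) = (t : G ⧸ H) := x.2
        rw [QuotientGroup.eq] at h0
        simpa [mul_assoc] using H.inv_mem h0
      · show (((y : G) * t : G) : G ⧸ H) = (t : G ⧸ H)
        rw [QuotientGroup.eq]
        simpa [mul_assoc] using H.inv_mem ((hD y).1 y.2).2
    have hos := Nat.card_congr (MulAction.orbitProdStabilizerEquivGroup H ((t : G) : G ⧸ H))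
    rw [Nat.card_prod, hst] at hos
    rw [← Fintype.card_subtype, ← Nat.card_eq_fintype_card, e, mul_assoc, hos]
  rw [h1, ← Finset.sum_filter_add_sum_filter_not Finset.univ (· ∈ H),
    Finset.sum_congr rfl fun g hg => hφH g (Finset.mem_filter.1 hg).2,
    Finset.sum_congr (s₁ := Finset.univ.filter fun g : G => ¬ g ∈ H) rfl fun g hg => hφt g (Finset.mem_filter.1 hg).2,
    Finset.sum_const, Finset.sum_const, nsmul_eq_mul, nsmul_eq_mul, ← mul_assoc (((Finset.univ.filter
      fun g : G => ¬ g ∈ H).card : ℕ) : ℂ), ← Nat.cast_mul, hout, Nat.cast_mul, ← Fintype.card_subtype,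
    ← Nat.card_eq_fintype_card]
  field_simp

/-- The inner product of an induced function with the permutation character. -/
theorem classInner_indFun_permChar [Fintype G] (H : Subgroup G) [Fintype H] {t : G} (ht : t ∉ H)
    (htr : ∀ g : G, g ∉ H → ∃ h ∈ H, ∃ k ∈ H, g = h * t * k) (D : Subgroup G) [Fintype D]
    (hD : ∀ x, x ∈ D ↔ x ∈ H ∧ t⁻¹ * x * t ∈ H) {θ : H → ℂ} (hθ : Cfsg.IsClassFunction H θ) :
    Cfsg.classInner (Cfsg.indFun H θ) (permChar G (G ⧸ H)) = Cfsg.classInner θ (fun _ => 1) +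
      Cfsg.classInner (fun x : D => θ ⟨x, ((hD x).1 x.2).1⟩) (fun _ => 1) := by
  rw [← indFun_one_eq_permChar, classInner_indFun_two H ht htr D hD hθ (fun _ _ => rfl)]

end Cfsg.Lib.BenderSE.CountPair
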