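/-
The arithmetic of step 7 of the regular normal subgroup theorem (notes/bender_reg_kill.md):
constituents with weights `ρ`, values `b` at an involution and integer constants `e` on the torus
cannot satisfy the degree, norm and column conditions.
-/
import Mathlib

set_option autoImplicit false

namespace Cfsg.Lib.BenderSE.RegKill

open Finset

variable {ι : Type*} {F : Finset ι} {ρ b : ι → ℕ} {e : ι → ℤ} {M E : ℤ}

/-- a bound on the weights of all constituents from the sum of their values -/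
theorem split_bound (hρ : ∀ i ∈ F, 1 ≤ ρ i) (hb : ∀ i ∈ F, 1 ≤ b i) (hcong : ∀ i ∈ F, M ∣ 2 * (b i : ℤ) - e i)
    (he : ∀ i ∈ F, |e i| ≤ E) (hE : 0 ≤ E) (hEM : E < M) {B : ℤ} (hB : ∑ i ∈ F, (ρ i : ℤ) * b i = B) {W : ℕ}
    (hW : 2 * B < (W + 1) * (M - E)) (hnn : 0 ≤ 2 * B - ((W : ℤ) - 1) * (M + E)) :
    (2 * B - ((W : ℤ) - 1) * (M + E)) ^ 2 ≤ (∑ i ∈ F, (ρ i : ℤ) ^ 2) * ∑ i ∈ F, e i ^ 2 ∨
      4 * ∑ i ∈ F, (ρ i : ℤ) ^ 2 ≤ 4 * (W : ℤ) ^ 2 + (2 * B - (W : ℤ) * (M - E)) ^ 2 := by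
  classical
  choose! k hk using hcong
  have hk0 : ∀ i ∈ F, 0 ≤ k i := fun i hi => by
    have h1 := hk i hi
    have h2 := (abs_le.1 (he i hi)).2
    have h3 : (1 : ℤ) ≤ b i := by exact_mod_cast hb i hi
    by_contra h4
    nlinarith [mul_le_mul_of_nonneg_left (show k i ≤ -1 by omega) (show 0 ≤ M by linarith)]
  set Fb := F.filter fun i => 1 ≤ k i with hFb
  set Fs := F.filter fun i => ¬ 1 ≤ k i with hFs
  have hsplit : ∀ f : ι → ℤ, ∑ i ∈ Fb, f i + ∑ i ∈ Fs, f i = ∑ i ∈ F, f i := fun f =>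
    sum_filter_add_sum_filter_not F _ f
  have hks : ∀ i ∈ Fs, i ∈ F ∧ 2 * (b i : ℤ) = e i := fun i hi => by
    obtain ⟨h1, h2⟩ := mem_filter.1 hi
    refine ⟨h1, ?_⟩
    have h3 : k i = 0 := by have := hk0 i h1; omega
    have := hk i h1
    rw [h3, mul_zero] at this
    omega
  set K := ∑ i ∈ Fb, (ρ i : ℤ) * k i with hK
  set S := ∑ i ∈ Fs, (ρ i : ℤ) * e i with hS
  set w := ∑ i ∈ Fb, (ρ i : ℤ) with hw
  set D := ∑ i ∈ Fb, (ρ i : ℤ) * e i with hD
  have h2B : 2 * B = M * K + D + S := by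
    rw [← hB, mul_sum, ← hsplit, hK, mul_sum, hD, ← sum_add_distrib, hS]
    refine congrArg₂ (· + ·) (sum_congr rfl fun i hi => ?_) (sum_congr rfl fun i hi => ?_)
    · rw [show 2 * ((ρ i : ℤ) * b i) = (ρ i : ℤ) * (2 * b i) by ring,
        show (2 : ℤ) * b i = M * k i + e i from by have := hk i (mem_filter.1 hi).1; linarith]
      ring
    · rw [← (hks i hi).2]; ring
  have hwK : w ≤ K := sum_le_sum fun i hi => le_mul_of_one_le_right (by positivity) (mem_filter.1 hi).2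
  have hDabs : -(K * E) ≤ D ∧ D ≤ K * E := by
    rw [hK, sum_mul, ← sum_neg_distrib, hD]
    constructor <;> refine sum_le_sum fun i hi => ?_
    all_goals
      obtain ⟨h1, h2⟩ := mem_filter.1 hi
      have h3 := abs_le.1 (he i h1)
      have h4 : (0 : ℤ) ≤ ρ i := by positivity
      nlinarith [mul_nonneg h4 (mul_nonneg (sub_nonneg.2 h2) hE)]
  have hsmall : ∀ i ∈ Fs, (2 : ℤ) ≤ e i := fun i hi => by
    have := hb i (hks i hi).1
    have := (hks i hi).2
    omega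
  have hS0 : 2 * (∑ i ∈ Fs, (ρ i : ℤ)) ≤ S := by
    rw [mul_sum, hS]
    exact sum_le_sum fun i hi => by
      have := hsmall i hi
      have h4 : (0 : ℤ) ≤ ρ i := by positivity
      nlinarith
  have hSnn : 0 ≤ S := le_trans (by positivity) hS0
  have hKW : K ≤ W := by
    by_contra h
    push Not at h
    nlinarith
  have hlow : 2 * B - K * (M + E) ≤ S := by nlinarith
  have hupp : S ≤ 2 * B - K * (M - E) := by nlinarith
  rcases lt_or_eq_of_le hKW with hlt | heq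
  · left
    have hME : 0 ≤ M + E := by linarith
    have h1 : 2 * B - ((W : ℤ) - 1) * (M + E) ≤ S := by nlinarith
    calc (2 * B - ((W : ℤ) - 1) * (M + E)) ^ 2 ≤ S ^ 2 := by gcongr
      _ ≤ (∑ i ∈ Fs, (ρ i : ℤ) ^ 2) * ∑ i ∈ Fs, e i ^ 2 := sum_mul_sq_le_sq_mul_sq _ _ _
      _ ≤ _ := by
        refine mul_le_mul ?_ ?_ (sum_nonneg fun i _ => sq_nonneg _) (sum_nonneg fun i _ => sq_nonneg _)
        · exact sum_le_sum_of_subset_of_nonneg (filter_subset _ _) fun i _ _ => sq_nonneg _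
        · exact sum_le_sum_of_subset_of_nonneg (filter_subset _ _) fun i _ _ => sq_nonneg _
  · right
    have h1 : ∑ i ∈ Fb, (ρ i : ℤ) ^ 2 ≤ w ^ 2 :=
      sum_sq_le_sq_sum_of_nonneg fun i _ => by positivity
    have h2 : ∑ i ∈ Fs, (ρ i : ℤ) ^ 2 ≤ (∑ i ∈ Fs, (ρ i : ℤ)) ^ 2 :=
      sum_sq_le_sq_sum_of_nonneg fun i _ => by positivity
    have h3 : 0 ≤ ∑ i ∈ Fs, (ρ i : ℤ) := by positivity
    have h4 : 0 ≤ w := by positivity
    rw [← hsplit]
    rw [heq] at hupp hwK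
    nlinarith [mul_self_le_mul_self h4 hwK, mul_self_le_mul_self (by positivity : (0 : ℤ) ≤ 2 * _)
      (hS0.trans hupp)]

theorem sq_succ_le_two_pow {s : ℕ} (h : 7 ≤ s) : (s + 1) ^ 2 ≤ 2 ^ (s - 1) := by
  induction s, h using Nat.le_induction with
  | base => norm_num
  | succ s hs ih =>
    calc (s + 1 + 1) ^ 2 ≤ (s + 1) ^ 2 * 2 := by nlinarith
      _ ≤ 2 ^ (s - 1) * 2 := by gcongr
      _ = 2 ^ (s + 1 - 1) := by rw [← pow_succ]; congr 1; omega

/-- no configuration for `s = 3` -/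
theorem kill_three (hρ : ∀ i ∈ F, 1 ≤ ρ i) (hb : ∀ i ∈ F, 1 ≤ b i)
    (hcong : ∀ i ∈ F, (7 : ℤ) ∣ 2 * (b i : ℤ) - e i) (hQ : ∑ i ∈ F, e i ^ 2 ≤ 5)
    (hB : ∑ i ∈ F, ρ i * b i = 6) (hR : ∑ i ∈ F, ρ i ^ 2 = 3) : False := by
  classical
  have hρ1 : ∀ i ∈ F, ρ i = 1 := fun i hi => by
    have h1 := single_le_sum (f := fun i => ρ i ^ 2) (fun j _ => Nat.zero_le _) hi
    rw [hR] at h1
    have h2 := hρ i hi
    have h3 : ρ i ^ 2 ≤ 3 := h1
    nlinarith
  have hcard : F.card = 3 := by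
    rw [sum_congr rfl (g := fun _ => 1) fun i hi => by rw [hρ1 i hi, one_pow]] at hR
    simpa using hR
  have hb3 : ∀ i ∈ F, b i ≤ 6 := fun i hi => by
    have h1 := single_le_sum (f := fun i => ρ i * b i) (fun j _ => Nat.zero_le _) hi
    rw [hB] at h1
    simpa [hρ1 i hi] using h1
  have he1 : ∀ i ∈ F, 1 ≤ e i ^ 2 := fun i hi => by
    by_contra h
    push Not at h
    have h0 : e i = 0 := by nlinarith [sq_nonneg (e i)]
    have h7 := hcong i hi
    rw [h0] at h7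
    have := hb i hi
    have := hb3 i hi
    omega
  have hbig : ∀ i ∈ F, 3 ≤ b i := fun i hi => by
    have h1 : e i ^ 2 + ∑ j ∈ F.erase i, e j ^ 2 ≤ 5 := by
      rw [add_sum_erase F (fun j => e j ^ 2) hi]; exact hQ
    have h2 : (2 : ℤ) ≤ ∑ j ∈ F.erase i, e j ^ 2 := by
      refine le_trans ?_ (card_nsmul_le_sum (F.erase i) _ 1 fun j hj => he1 j (mem_of_mem_erase hj))
      rw [card_erase_of_mem hi, hcard]; norm_num
    have h3 : e i ^ 2 ≤ 3 := by omega
    have h5 : -1 ≤ e i ∧ e i ≤ 1 := by constructor <;> nlinarith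
    have h6 : e i ≠ 0 := fun h => by have := he1 i hi; rw [h] at this; norm_num at this
    have := hb i hi
    have := hcong i hi
    omega
  have h1 : ∑ i ∈ F, ρ i * b i ≥ F.card • 3 :=
    card_nsmul_le_sum F _ 3 fun i hi => by rw [hρ1 i hi, one_mul]; exact hbig i hi
  rw [hB, hcard] at h1
  norm_num at h1

/-- no configuration for `s ≥ 5`: `L` exceptional constituents of weight `a`, value `bZ` and column
data `c`, `ε` besides the constant ones -/
theorem kill_five_le {s L : ℕ} (hs : 5 ≤ s) (hs2 : Odd s) {m : ℕ} (hm : m = 2 ^ s - 1)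
    (hL : 2 * s * L + 1 = m) (hρ : ∀ i ∈ F, 1 ≤ ρ i) (hb : ∀ i ∈ F, 1 ≤ b i)
    (hcong : ∀ i ∈ F, (m : ℤ) ∣ 2 * (b i : ℤ) - e i) {c ε : ℤ} (hε : ε = 1 ∨ ε = -1)
    (hbudget : ∑ i ∈ F, e i ^ 2 + (L * c * c - 2 * ε * c) ≤ 2 * s - 2) {a bZ : ℕ}
    (hbZ : a ≠ 0 → 1 ≤ bZ ∧ (m : ℤ) ∣ 2 * (bZ : ℤ) - (c + ε * (2 * s)))
    (hB : ∑ i ∈ F, ρ i * b i + L * (a * bZ) = m - 1)
    (hR : ∑ i ∈ F, ρ i ^ 2 + L * a ^ 2 = 1 + 2 * L) : False := by
  classical
  have hpow : 32 ≤ 2 ^ s := le_trans (by norm_num) (Nat.pow_le_pow_right (by norm_num) hs)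
  have hs7 : s = 5 ∨ 7 ≤ s := by obtain ⟨k, rfl⟩ := hs2; omega
  have hfacts : (s = 5 ∧ L = 3 ∧ m = 31) ∨ (7 ≤ s ∧ s + 2 ≤ L) := by
    rcases hs7 with rfl | h7
    · norm_num at hm
      subst hm
      exact Or.inl ⟨rfl, by omega, rfl⟩
    · refine Or.inr ⟨h7, ?_⟩
      have h1 := sq_succ_le_two_pow h7
      have h2 : 2 ^ s = 2 * 2 ^ (s - 1) := by rw [← pow_succ']; congr 1; omega
      by_contra h
      push Not at h
      have h3 : s * L ≤ s * (s + 1) := Nat.mul_le_mul_left s (by omega)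
      have h4 : 2 * s * L = 2 * (s * L) := by ring
      have h5 : s * (s + 1) + (s + 1) = (s + 1) ^ 2 := by ring
      omega
  have hL3 : 3 ≤ L := by omega
  have hm31 : 31 ≤ m := by omega
  have hc0 : 0 ≤ (L : ℤ) * c * c - 2 * ε * c := by
    have h3 : (3 : ℤ) ≤ L := by exact_mod_cast hL3
    have hc1 : c ≤ c ^ 2 ∧ -c ≤ (-c) ^ 2 := ⟨Int.le_self_sq c, Int.le_self_sq (-c)⟩
    have hLc : 3 * c ^ 2 ≤ (L : ℤ) * c ^ 2 := by gcongr
    rcases hε with rfl | rfl <;> nlinarith [sq_nonneg c]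
  have hQ : ∑ i ∈ F, e i ^ 2 ≤ 2 * (s : ℤ) - 2 := by linarith
  have hQ0 : (0 : ℤ) ≤ ∑ i ∈ F, e i ^ 2 := sum_nonneg fun i _ => sq_nonneg _
  set E : ℕ := Nat.sqrt (2 * s - 2) with hE
  have hE2 : E * E ≤ 2 * s - 2 := Nat.sqrt_le _
  have he : ∀ i ∈ F, |e i| ≤ (E : ℤ) := fun i hi => by
    have h1 := (single_le_sum (f := fun i => e i ^ 2) (fun j _ => sq_nonneg _) hi).trans hQ
    rw [Int.abs_eq_natAbs, Int.ofNat_le, hE, Nat.le_sqrt]
    have h2 : ((e i).natAbs * (e i).natAbs : ℤ) = e i ^ 2 := by rw [Int.natAbs_mul_self']; ring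
    zify [show 2 ≤ 2 * s by omega]
    push_cast at h2 ⊢
    linarith
  have hEs : E ≤ s := Nat.le_of_lt_succ (Nat.sqrt_lt.2 (by nlinarith [Nat.sub_le (2 * s) 2]))
  have hE5 : s = 5 → E ≤ 2 := fun h => by subst h; exact Nat.le_of_lt_succ (Nat.sqrt_lt.2 (by norm_num))
  have hm6 : 6 * s + 1 ≤ m := by nlinarith
  have hEm : (E : ℤ) < m := by exact_mod_cast (show E < m by omega)
  have hmL : (m : ℤ) = 2 * s * L + 1 := by exact_mod_cast hL.symm
  have hBz : ∀ B : ℕ, ∑ i ∈ F, ρ i * b i = B → ∑ i ∈ F, (ρ i : ℤ) * b i = B := fun B h => by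
    exact_mod_cast h
  have hEz2 : (E : ℤ) * E ≤ 2 * s - 2 := by
    have h := hE2
    zify [show 2 ≤ 2 * s by omega] at h
    exact h
  rcases Nat.eq_zero_or_pos a with rfl | ha
  · -- no exceptional constituent
    simp only [zero_mul, mul_zero, add_zero, ne_eq, zero_pow, OfNat.ofNat_ne_zero, not_false_eq_true] at hB hR
    have hR' : ∑ i ∈ F, (ρ i : ℤ) ^ 2 = 1 + 2 * L := by exact_mod_cast hR
    have hB' := hBz _ hB
    have hm1 : ((m - 1 : ℕ) : ℤ) = (m : ℤ) - 1 := by omega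
    rw [hm1] at hB'
    have hEzs : (E : ℤ) ≤ s := by exact_mod_cast hEs
    have hm6z : 6 * (s : ℤ) + 1 ≤ m := by exact_mod_cast hm6
    rcases split_bound hρ hb hcong he (by positivity) hEm hB' (W := 2) (by push_cast; linarith) (by push_cast; linarith)
      with h | h
    · rw [hR'] at h
      push_cast at h
      have h1 : (1 + 2 * (L : ℤ)) * ∑ i ∈ F, e i ^ 2 ≤ (1 + 2 * L) * (2 * s - 2) := by gcongr
      nlinarith
    · rw [hR'] at h
      push_cast at h
      rcases hfacts with ⟨rfl, rfl, rfl⟩ | ⟨h7, hL7⟩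
      · have := hE5 rfl
        interval_cases E <;> norm_num at h
      · have hL7z : (s : ℤ) + 2 ≤ L := by exact_mod_cast hL7
        have hE0 : (0 : ℤ) ≤ E := by positivity
        nlinarith
  obtain ⟨hbZ1, hbZc⟩ := hbZ ha.ne'
  have ha1 : a = 1 := by
    by_contra h
    have h2 : 2 ≤ a := by omega
    have h3 : L * 2 ^ 2 ≤ L * a ^ 2 := by gcongr
    omega
  subst ha1
  rw [one_mul] at hB
  rw [one_pow, mul_one] at hR
  have hbZs : bZ ≤ 2 * s := by
    by_contra h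
    push Not at h
    have h1 : L * (2 * s + 1) ≤ L * bZ := by gcongr; omega
    have h2 : L * (2 * s + 1) = 2 * s * L + L := by ring
    omega
  have hcb : -2 ≤ c ∧ c ≤ 2 := by
    by_contra h
    have h3 : (3 : ℤ) ≤ |c| := by rcases abs_cases c with ⟨h', _⟩ | ⟨h', _⟩ <;> omega
    have h9 : (9 : ℤ) ≤ c * c := by rw [← abs_mul_abs_self]; nlinarith
    have h2c : 2 * ε * c ≤ c * c := by
      have : 2 * ε * c ≤ 2 * |c| := by
        rcases hε with rfl | rfl <;> linarith [le_abs_self c, neg_abs_le c]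
      rw [← abs_mul_abs_self c]
      nlinarith
    have hL1 : (0 : ℤ) ≤ (L : ℤ) - 1 := by omega
    have h5 : ((L : ℤ) - 1) * 9 ≤ ((L : ℤ) - 1) * (c * c) := mul_le_mul_of_nonneg_left h9 hL1
    have h6 : ((L : ℤ) - 1) * (c * c) = (L : ℤ) * c * c - c * c := by ring
    have h7 : (s : ℤ) + 2 ≤ L ∨ (s = 5 ∧ L = 3) := by omega
    rcases h7 with h7 | ⟨rfl, rfl⟩
    · linarith
    · push_cast at *
      linarith
  -- the main case
  have hmain : c = 0 → bZ = s → False := by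
    intro hc hbs
    subst hc hbs
    have hR' : ∑ i ∈ F, (ρ i : ℤ) ^ 2 = 1 + L := by
      have : ∑ i ∈ F, ρ i ^ 2 = 1 + L := by omega
      exact_mod_cast this
    have hB' : ∑ i ∈ F, (ρ i : ℤ) * b i = bZ * L := by
      refine (hBz (bZ * L) ?_).trans (by push_cast; rfl)
      have h2 : L * bZ = bZ * L := mul_comm _ _
      have h4 : 2 * bZ * L = 2 * (bZ * L) := by ring
      omega
    have hEzs : (E : ℤ) ≤ bZ := by exact_mod_cast hEs
    have hm6z : 6 * (bZ : ℤ) + 1 ≤ m := by exact_mod_cast hm6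
    have h2B : 2 * ((bZ : ℤ) * L) = m - 1 := by rw [hmL]; ring
    rcases split_bound hρ hb hcong he (by positivity) hEm hB' (W := 1) (by push_cast; linarith) (by push_cast; linarith)
      with h | h
    · rw [hR', h2B] at h
      push_cast at h
      have h1 : (1 + (L : ℤ)) * ∑ i ∈ F, e i ^ 2 ≤ (1 + L) * (2 * bZ - 2) := by gcongr
      nlinarith
    · rw [hR', h2B] at h
      push_cast at h
      rcases hfacts with ⟨h5, hL5, hm5⟩ | ⟨h7, hL7⟩
      · have := hE5 h5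
        subst hL5 hm5
        interval_cases E <;> norm_num at h
      · have hL7z : (bZ : ℤ) + 2 ≤ L := by exact_mod_cast hL7
        nlinarith
  -- the remaining values
  have hzero : s = 5 → c = 2 → bZ = 6 → False := by
    intro h5 hc2 hb6
    obtain ⟨-, rfl, rfl⟩ : s = 5 ∧ L = 3 ∧ m = 31 := by omega
    subst h5 hc2 hb6
    have hQ' : ∑ i ∈ F, e i ^ 2 ≤ 0 := by rcases hε with rfl | rfl <;> norm_num at hbudget <;> linarith
    rcases F.eq_empty_or_nonempty with hF | ⟨i, hi⟩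
    · rw [hF] at hB; simp at hB
    · have h1 := (single_le_sum (f := fun i => e i ^ 2) (fun j _ => sq_nonneg _) hi).trans hQ'
      have h2 : e i = 0 := by nlinarith [h1]
      have h3 := hcong i hi
      rw [h2] at h3
      have h4 := hb i hi
      have h5 := single_le_sum (f := fun i => ρ i * b i) (fun j _ => Nat.zero_le _) hi
      have h6 : b i ≤ ρ i * b i := Nat.le_mul_of_pos_left _ (hρ i hi)
      omega
  have hfull : bZ = 2 * s → False := by
    intro h2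
    subst h2
    have h3 : L * (2 * s) = 2 * s * L := mul_comm _ _
    have h4 : ∑ i ∈ F, ρ i * b i = 0 := by omega
    rcases F.eq_empty_or_nonempty with hF | ⟨i, hi⟩
    · rw [hF] at hR; simp only [sum_empty] at hR; omega
    · have h1 := (Finset.sum_eq_zero_iff.1 h4) i hi
      have := Nat.mul_ne_zero (Nat.one_le_iff_ne_zero.1 (hρ i hi)) (Nat.one_le_iff_ne_zero.1 (hb i hi))
      exact this h1
  obtain ⟨k, hk⟩ := hbZc
  have hk0 : k = 0 ∨ (s = 5 ∧ (k = 1 ∨ k = -1)) := by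
    rcases hfacts with ⟨rfl, rfl, rfl⟩ | ⟨h7, hL7⟩
    · push_cast at hk
      rcases hε with rfl | rfl <;> omega
    · left
      have hm8 : 6 * s + 3 ≤ m := by nlinarith
      have hm8z : 6 * (s : ℤ) + 3 ≤ m := by exact_mod_cast hm8
      have hbz : (bZ : ℤ) ≤ 2 * s := by exact_mod_cast hbZs
      by_contra hk1
      rcases lt_or_gt_of_ne hk1 with h | h <;> rcases hε with rfl | rfl <;> nlinarith
  rcases hk0 with rfl | ⟨h5, hk1⟩
  · rw [mul_zero] at hk
    rcases hε with rfl | rfl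
    · have hc2 : c = 0 ∨ c = 2 ∨ c = -2 := by omega
      rcases hc2 with rfl | rfl | rfl
      · exact hmain rfl (by omega)
      · rcases hfacts with ⟨h5, -, -⟩ | ⟨h7, hL7⟩
        · exact hzero h5 rfl (by omega)
        · have hL7z : (s : ℤ) + 2 ≤ L := by exact_mod_cast hL7
          nlinarith
      · have hL3z : (3 : ℤ) ≤ L := by exact_mod_cast hL3
        rcases hfacts with ⟨rfl, -, -⟩ | ⟨h7, hL7⟩
        · push_cast at hbudget
          nlinarith
        · have hL7z : (s : ℤ) + 2 ≤ L := by exact_mod_cast hL7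
          nlinarith
    · omega
  · obtain ⟨-, rfl, rfl⟩ : s = 5 ∧ L = 3 ∧ m = 31 := by omega
    subst h5
    push_cast at hk hbudget
    rcases hk1 with rfl | rfl <;> rcases hε with rfl | rfl <;> first | omega | (exact hfull (by omega))

end Cfsg.Lib.BenderSE.RegKill
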