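/-
The character half of step 7 of the regular normal subgroup theorem (notes/bender_reg_kill.md): a
character whose constituents all have degree `n` times their value at an involution, of norm
`1 + (M - 1)/s`, is impossible next to a self-centralising cyclic torus of order `M = 2^s - 1` with
automiser of order `2s`.
-/
import Cfsg.Agent.BenderSE.Reg.KillArith
import Cfsg.Agent.Chev.GTwoOdd.ReeS.Cover.Exc
import Cfsg.Agent.InvolCalc.FoursCent.Chars
import Cfsg.Agent.Chars.Count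
import Cfsg.Agent.Chars.Construct

set_option autoImplicit false
set_option linter.unusedSectionVars false
set_option linter.style.haveILetI false

namespace Cfsg.Lib.BenderSE.RegKill

open scoped ComplexConjugate
open Cfsg.Lib.Chars

universe u

variable {G : Type u} [Group G] [Fintype G] {A : Subgroup G}

/-- the sum over the torus of an irreducible character is a multiple of its order -/
theorem exists_sum_torus [Fintype A] (χ : Cfsg.IrrCharacter G) :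
    ∃ k : ℕ, ∑ a : A, (χ : G → ℂ) a = (Nat.card A : ℂ) * k := by
  obtain ⟨k, hk⟩ := IsCharacter.exists_mult (IsCharacter.restrict (isCharacter_of_irr χ.2) A)
    (isIrrCharacter_one (G := A))
  refine ⟨k, ?_⟩
  rw [classInner_def, inv_mul_eq_iff_eq_mul₀ (Nat.cast_ne_zero.2 Nat.card_pos.ne')] at hk
  simpa using hk

/-- an integer constant on the torus and the degree agree modulo its order -/
theorem dvd_deg_sub_of_const [Fintype A] (χ : Cfsg.IrrCharacter G) {w : ℤ}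
    (hw : ∀ a ∈ A, a ≠ 1 → (χ : G → ℂ) a = w) :
    (Nat.card A : ℤ) ∣ (deg (χ : G → ℂ) : ℤ) - w := by
  classical
  obtain ⟨k, hk⟩ := exists_sum_torus (A := A) χ
  rw [← Finset.add_sum_erase Finset.univ _ (Finset.mem_univ (1 : A)),
    Finset.sum_congr rfl (g := fun _ => (w : ℂ)) fun (a : A) ha =>
      hw a a.2 fun e => (Finset.mem_erase.1 ha).1 (Subtype.ext e),
    OneMemClass.coe_one, irr_apply_one_eq_deg, Finset.sum_const, nsmul_eq_mul,
    Finset.card_erase_of_mem (Finset.mem_univ _), Finset.card_univ, ← Nat.card_eq_fintype_card] at hk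
  have hk' : ((deg (χ : G → ℂ) : ℤ) + ((Nat.card A - 1 : ℕ) : ℤ) * w : ℤ) = (Nat.card A : ℤ) * k := by
    have h : (((deg (χ : G → ℂ) : ℤ) + ((Nat.card A - 1 : ℕ) : ℤ) * w : ℤ) : ℂ) =
        (((Nat.card A : ℤ) * k : ℤ) : ℂ) := by push_cast; simpa using hk
    exact_mod_cast h
  refine ⟨(k : ℤ) - w, ?_⟩
  have hpos : 0 < Nat.card A := Nat.card_pos
  rw [Nat.cast_sub hpos] at hk'
  push_cast at hk'
  linear_combination hk'

/-- constant on a torus whose non-identity elements are conjugate -/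
theorem exists_const_of_conj [Fintype A] (χ : Cfsg.IrrCharacter G) (hcomm : ∀ a b : A, a * b = b * a)
    {a₀ : G} (ha₀ : a₀ ∈ A) (ha₀1 : a₀ ≠ 1) (hall : ∀ a ∈ A, a ≠ 1 → IsConj a₀ a) :
    ∃ w : ℤ, ∀ a ∈ A, a ≠ 1 → (χ : G → ℂ) a = w := by
  classical
  have hc : ∀ a ∈ A, a ≠ 1 → (χ : G → ℂ) a = (χ : G → ℂ) a₀ := fun a ha ha1 =>
    (classFunction_eq_of_isConj (isClassFunction_irr χ) (hall a ha ha1)).symm
  obtain ⟨f, hf⟩ := Dual.exists_hom_ne_one hcomm (a := ⟨a₀, ha₀⟩) fun e => ha₀1 (congrArg Subtype.val e)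
  obtain ⟨k₁, hk₁⟩ := exists_sum_torus (A := A) χ
  obtain ⟨k₂, hk₂⟩ := IsCharacter.exists_mult (IsCharacter.restrict (isCharacter_of_irr χ.2) A)
    (Dual.isIrr_ev f)
  rw [classInner_def, inv_mul_eq_iff_eq_mul₀ (Nat.cast_ne_zero.2 Nat.card_pos.ne')] at hk₂
  have hdiff : ∑ a : A, (χ : G → ℂ) a * (1 - conj (Dual.ev f a)) =
      (χ : G → ℂ) a₀ * ∑ a : A, (1 - conj (Dual.ev f a)) := by
    rw [Finset.mul_sum]
    refine Finset.sum_congr rfl fun a _ => ?_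
    by_cases ha : a = 1
    · subst ha; simp [Dual.ev]
    · rw [hc a a.2 fun e => ha (Subtype.ext e)]
  have hf0 : ∑ a : A, ((f a : ℂˣ) : ℂ) = 0 :=
    sum_hom_units_eq_zero ((Units.coeHom ℂ).comp f) fun h => hf (Units.ext (DFunLike.congr_fun h (⟨a₀, ha₀⟩ : A)))
  simp only [mul_sub, mul_one, Finset.sum_sub_distrib] at hdiff
  rw [hk₁, hk₂, ← map_sum, show ∑ a : A, Dual.ev f a = 0 from hf0, map_zero, mul_zero, sub_zero, Finset.sum_const,
    Finset.card_univ, nsmul_eq_mul, mul_one, ← Nat.card_eq_fintype_card] at hdiff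
  refine ⟨(k₁ : ℤ) - k₂, fun a ha ha1 => ?_⟩
  rw [hc a ha ha1]
  have h0 : (Nat.card A : ℂ) ≠ 0 := Nat.cast_ne_zero.2 Nat.card_pos.ne'
  push_cast
  refine mul_left_cancel₀ h0 ?_
  linear_combination -hdiff

/-- the normaliser is transitive on a torus of which it moves every element freely -/
theorem isConj_of_card (hC : ∀ a ∈ A, a ≠ 1 → Subgroup.centralizer ({a} : Set G) = A) {e : ℕ}
    (he : (A.subgroupOf (Subgroup.normalizer (A : Set G))).index = e) (hcard : Nat.card A = e + 1)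
    {a₀ : G} (ha₀ : a₀ ∈ A) (ha₀1 : a₀ ≠ 1) {a : G} (ha : a ∈ A) (ha1 : a ≠ 1) : IsConj a₀ a := by
  classical
  set N := Subgroup.normalizer (A : Set G) with hN
  set A' := A.subgroupOf N with hA'
  let f : N ⧸ A' → {x : A // x ≠ 1} := Quotient.lift
    (fun g : N => (⟨⟨(g : G) * a₀ * (g : G)⁻¹, (Subgroup.mem_normalizer_iff.1 g.2 a₀).1 ha₀⟩,
      fun e => ha₀1 (conj_eq_one_iff.1 (congrArg Subtype.val e))⟩ : {x : A // x ≠ 1}))
    (fun g g' h => by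
      have h1 : ((g : G)⁻¹ * g') ∈ Subgroup.centralizer ({a₀} : Set G) := by
        rw [hC a₀ ha₀ ha₀1]; exact Subgroup.mem_subgroupOf.1 (QuotientGroup.leftRel_apply.1 h)
      rw [Subgroup.mem_centralizer_singleton_iff] at h1
      refine Subtype.ext (Subtype.ext ?_)
      show (g : G) * a₀ * (g : G)⁻¹ = (g' : G) * a₀ * (g' : G)⁻¹
      calc (g : G) * a₀ * (g : G)⁻¹ = (g : G) * (a₀ * ((g : G)⁻¹ * g')) * (g' : G)⁻¹ := by group
        _ = (g : G) * ((g : G)⁻¹ * g' * a₀) * (g' : G)⁻¹ := by rw [h1]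
        _ = _ := by group)
  have hinj : Function.Injective f := by
    intro p q
    induction p using QuotientGroup.induction_on with
    | H g =>
    induction q using QuotientGroup.induction_on with
    | H g' =>
    intro h
    have h1 : (g : G) * a₀ * (g : G)⁻¹ = (g' : G) * a₀ * (g' : G)⁻¹ :=
      congrArg (fun x : {x : A // x ≠ 1} => ((x : A) : G)) h
    refine QuotientGroup.eq.2 ?_
    rw [hA', Subgroup.mem_subgroupOf]
    show (g : G)⁻¹ * g' ∈ A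
    rw [← hC a₀ ha₀ ha₀1, Subgroup.mem_centralizer_singleton_iff]
    calc (g : G)⁻¹ * g' * a₀ = (g : G)⁻¹ * ((g' : G) * a₀ * (g' : G)⁻¹) * g' := by group
      _ = a₀ * ((g : G)⁻¹ * g') := by rw [← h1]; group
  have hc : Nat.card {x : A // x ≠ 1} ≤ Nat.card (N ⧸ A') := by
    haveI := Fintype.ofFinite A
    rw [← Subgroup.index_eq_card, he, Nat.card_eq_fintype_card, Fintype.card_subtype_compl,
      Fintype.card_subtype_eq, ← Nat.card_eq_fintype_card, hcard]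
    omega
  obtain ⟨q, hq⟩ := (hinj.bijective_of_nat_card_le hc).2 ⟨⟨a, ha⟩, fun e => ha1 (congrArg Subtype.val e)⟩
  induction q using QuotientGroup.induction_on with
  | H g =>
  exact isConj_iff.2 ⟨(g : G), congrArg (fun x : {x : A // x ≠ 1} => ((x : A) : G)) hq⟩

/-- THE KILL, character level -/
theorem kill_chars {s m n : ℕ} (hs : Odd s) (hs3 : 3 ≤ s) (hm : m = 2 ^ s - 1)
    (hcard : Nat.card A = m)
    (hC : ∀ a ∈ A, a ≠ 1 → Subgroup.centralizer ({a} : Set G) = A)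
    (he : (A.subgroupOf (Subgroup.normalizer (A : Set G))).index = 2 * s)
    (hn : (m : ℤ) ∣ (n : ℤ) - 2) {v : G} (hv : orderOf v = 2) {Θ : G → ℂ} (hΘ : Cfsg.IsCharacter G Θ)
    (hΘv : Θ v = (m : ℂ) - 1)
    (hprop : ∀ χ : Cfsg.IrrCharacter G, Cfsg.classInner Θ (χ : G → ℂ) ≠ 0 →
      (χ : G → ℂ) 1 = (n : ℂ) * (χ : G → ℂ) v)
    (hnorm : (s : ℂ) * Cfsg.classInner Θ Θ = (s : ℂ) + ((m : ℂ) - 1))
    {St : Cfsg.IrrCharacter G} (hSt : ∀ a ∈ A, a ≠ 1 → (St : G → ℂ) a = 1)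
    (hSt1 : (St : G → ℂ) ≠ fun _ => 1)
    (hperp1 : Cfsg.classInner Θ (fun _ => 1) = 0) (hperpS : Cfsg.classInner Θ (St : G → ℂ) = 0)
    (hX : ∀ χ χ' : Cfsg.IrrCharacter G, (χ : G → ℂ) ≠ (fun _ => 1) → (χ' : G → ℂ) ≠ (fun _ => 1) →
      χ ≠ St → χ' ≠ St →
      (∀ g : G, (∀ x : G, x⁻¹ * g * x ∈ A → x⁻¹ * g * x = 1) → (χ : G → ℂ) g = (χ' : G → ℂ) g) →
      Cfsg.classInner Θ (χ : G → ℂ) = Cfsg.classInner Θ (χ' : G → ℂ)) : False := by
  classical
  haveI := Fintype.ofFinite A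
  haveI := Fintype.ofFinite ↥(Subgroup.normalizer (A : Set G))
  haveI := Fintype.ofFinite (A →* ℂˣ)
  have hpow : 8 ≤ 2 ^ s := le_trans (by norm_num) (Nat.pow_le_pow_right (by norm_num) hs3)
  have hm7 : 7 ≤ m := by omega
  obtain ⟨a₀, ha₀, ha₀1⟩ : ∃ a ∈ A, a ≠ (1 : G) := A.bot_or_exists_ne_one.resolve_left fun h => by
    rw [h, Subgroup.card_bot] at hcard; omega
  let one : Cfsg.IrrCharacter G := ⟨fun _ => 1, isIrrCharacter_one⟩
  choose ρ hρ using fun χ : Cfsg.IrrCharacter G => IsCharacter.exists_mult hΘ χ.2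
  choose z hz using fun χ : Cfsg.IrrCharacter G => Cfsg.FoursCent.exists_int χ hv
  have hρone : ρ one = 0 := by
    have h := hρ one; rw [show (one : G → ℂ) = fun _ => 1 from rfl, hperp1] at h; exact_mod_cast h.symm
  have hρSt : ρ St = 0 := by have h := hρ St; rw [hperpS] at h; exact_mod_cast h.symm
  have hneSt : one ≠ St := fun e => hSt1 (by rw [← e])
  -- expansions
  have hexp : ∀ g, Θ g = ∑ χ : Cfsg.IrrCharacter G, (ρ χ : ℂ) * (χ : G → ℂ) g := fun g => by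
    rw [classFunction_expand_apply (isClassFunction_isChar hΘ) g]
    exact Finset.sum_congr rfl fun χ _ => by rw [hρ χ]
  have hB : ∑ χ : Cfsg.IrrCharacter G, (ρ χ : ℤ) * z χ = (m : ℤ) - 1 := by
    have h := (hexp v).symm.trans hΘv
    rw [Finset.sum_congr rfl fun χ _ => by rw [hz χ]] at h
    exact_mod_cast h
  have hR : (s : ℤ) * ∑ χ : Cfsg.IrrCharacter G, (ρ χ : ℤ) ^ 2 = (s : ℤ) + ((m : ℤ) - 1) := by
    have h : Cfsg.classInner Θ Θ = ∑ χ : Cfsg.IrrCharacter G, (ρ χ : ℂ) ^ 2 := by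
      have hf : Θ = ∑ χ : Cfsg.IrrCharacter G, (ρ χ : ℂ) • (χ : G → ℂ) := funext fun g => by
        rw [hexp g]; simp [Finset.sum_apply]
      conv_lhs => arg 2; rw [hf]
      rw [classInner_sum_right]
      refine Finset.sum_congr rfl fun χ _ => ?_
      rw [classInner_smul_right, hρ χ, Complex.conj_natCast]; ring
    rw [h] at hnorm
    exact_mod_cast hnorm
  -- constituents: degree and value
  have hdeg : ∀ χ, ρ χ ≠ 0 → (deg (χ : G → ℂ) : ℤ) = (n : ℤ) * z χ ∧ 1 ≤ z χ := fun χ hχ => by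
    have h := hprop χ (by rw [hρ χ]; exact_mod_cast hχ)
    rw [irr_apply_one_eq_deg, hz χ] at h
    have h' : (deg (χ : G → ℂ) : ℤ) = (n : ℤ) * z χ := by exact_mod_cast h
    refine ⟨h', ?_⟩
    have hpos : (0 : ℤ) < deg (χ : G → ℂ) := by exact_mod_cast deg_irr_pos χ
    by_contra hz1
    nlinarith [Int.natCast_nonneg n]
  have hcong : ∀ χ w, ρ χ ≠ 0 → (m : ℤ) ∣ (deg (χ : G → ℂ) : ℤ) - w → (m : ℤ) ∣ 2 * z χ - w := by
    intro χ w hχ h
    rw [(hdeg χ hχ).1] at h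
    have h2 := dvd_sub h (hn.mul_right (z χ))
    rwa [show (n : ℤ) * z χ - w - ((n : ℤ) - 2) * z χ = 2 * z χ - w by ring] at h2
  have hv1 : ∀ x : G, x⁻¹ * v * x ∈ A → x⁻¹ * v * x = 1 := fun x hx => by
    exfalso
    have h1 : orderOf (x⁻¹ * v * x) = 2 := by
      rw [show x⁻¹ * v * x = MulAut.conj x⁻¹ v by simp, MulEquiv.orderOf_eq, hv]
    have h2 := Subgroup.orderOf_dvd_natCard A hx
    rw [h1, hcard] at h2
    have h3 : 2 ∣ 2 ^ s := dvd_pow_self 2 (by omega)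
    omega
  -- everything for a family `X` with the listed properties
  have final : ∀ (X : Finset (Cfsg.IrrCharacter G)), one ∉ X → St ∉ X → ∀ (w : Cfsg.IrrCharacter G → ℤ),
      (∀ χ, χ ∉ X → ∀ a ∈ A, a ≠ 1 → (χ : G → ℂ) a = w χ) →
      ∀ (Y : ℤ), (∀ a ∈ A, a ≠ 1 → ∑ χ ∈ X, ‖(χ : G → ℂ) a‖ ^ 2 = (Y : ℝ)) →
      ∃ F : Finset (Cfsg.IrrCharacter G), (∀ χ ∈ F, 1 ≤ ρ χ) ∧ (∀ χ ∈ F, 1 ≤ (z χ).toNat) ∧
        (∀ χ ∈ F, (m : ℤ) ∣ 2 * ((z χ).toNat : ℤ) - w χ) ∧ ∑ χ ∈ F, w χ ^ 2 + Y + 2 ≤ (m : ℤ) ∧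
        (∑ χ ∈ F, ρ χ * (z χ).toNat : ℕ) + ∑ χ ∈ X, (ρ χ : ℤ) * z χ = (m : ℤ) - 1 ∧
        (s : ℤ) * ((∑ χ ∈ F, ρ χ ^ 2 : ℕ) + ∑ χ ∈ X, (ρ χ : ℤ) ^ 2) = (s : ℤ) + ((m : ℤ) - 1) := by
    intro X h1X hSX w hw Y hY
    set F := Finset.univ.filter fun χ => χ ∉ X ∧ ρ χ ≠ 0 with hF
    have hFm : ∀ χ ∈ F, χ ∉ X ∧ ρ χ ≠ 0 := fun χ hχ => (Finset.mem_filter.1 hχ).2
    have hzc : ∀ χ ∈ F, ((z χ).toNat : ℤ) = z χ := fun χ hχ =>
      Int.toNat_of_nonneg (by linarith [(hdeg χ (hFm χ hχ).2).2])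
    have hrest : ∀ f : Cfsg.IrrCharacter G → ℤ, (∀ χ, ρ χ = 0 → f χ = 0) →
        ∑ χ, f χ = ∑ χ ∈ F, f χ + ∑ χ ∈ X, f χ := fun f hf => by
      rw [← Finset.sum_union (Finset.disjoint_left.2 fun χ hχ hχ' => (hFm χ hχ).1 hχ')]
      refine (Finset.sum_subset (Finset.subset_univ _) fun χ _ hχ => ?_).symm
      simp only [Finset.mem_union, hF, Finset.mem_filter, Finset.mem_univ, true_and] at hχ
      push Not at hχ
      exact hf χ (hχ.1 hχ.2)
    refine ⟨F, fun χ hχ => Nat.one_le_iff_ne_zero.2 (hFm χ hχ).2,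
      fun χ hχ => by have := (hdeg χ (hFm χ hχ).2).2; omega, fun χ hχ => ?_, ?_, ?_, ?_⟩
    · rw [hzc χ hχ]
      exact hcong χ _ (hFm χ hχ).2 (hcard ▸ dvd_deg_sub_of_const χ (hw χ (hFm χ hχ).1))
    · have hall := sum_norm_sq_irr a₀
      rw [hC a₀ ha₀ ha₀1, hcard] at hall
      have hdisj : Disjoint (insert one (insert St F)) X := by
        rw [Finset.disjoint_insert_left, Finset.disjoint_insert_left]
        exact ⟨h1X, hSX, Finset.disjoint_left.2 fun χ hχ hχ' => (hFm χ hχ).1 hχ'⟩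
      have h1 : ∑ χ ∈ insert one (insert St F) ∪ X, ‖(χ : G → ℂ) a₀‖ ^ 2 ≤ (m : ℝ) :=
        hall ▸ Finset.sum_le_sum_of_subset_of_nonneg (Finset.subset_univ _) fun _ _ _ => sq_nonneg _
      rw [Finset.sum_union hdisj, hY a₀ ha₀ ha₀1,
        Finset.sum_insert (by simp [hneSt, hF, hρone]), Finset.sum_insert (by simp [hF, hρSt]),
        hSt a₀ ha₀ ha₀1, show (one : G → ℂ) a₀ = 1 from rfl, norm_one, one_pow,
        Finset.sum_congr rfl (g := fun χ => ((w χ ^ 2 : ℤ) : ℝ)) fun (χ : Cfsg.IrrCharacter G) hχ =>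
          show ‖(χ : G → ℂ) a₀‖ ^ 2 = ((w χ ^ 2 : ℤ) : ℝ) by
          rw [hw χ (hFm χ hχ).1 a₀ ha₀ ha₀1, Complex.norm_intCast, sq_abs]; push_cast; rfl] at h1
      have h2 : ((∑ χ ∈ F, w χ ^ 2 + Y + 2 : ℤ) : ℝ) ≤ ((m : ℤ) : ℝ) := by push_cast at h1 ⊢; linarith
      exact_mod_cast h2
    · rw [← hB, hrest _ fun χ hχ => by simp [hχ]]
      push_cast
      rw [Finset.sum_congr rfl fun χ hχ => by rw [hzc χ hχ]]
    · rw [← hR, hrest _ fun χ hχ => by simp [hχ]]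
      push_cast
      rfl
  rcases (show s = 3 ∨ 5 ≤ s by obtain ⟨k, rfl⟩ := hs; omega) with rfl | hs5
  · have hm' : m = 7 := by rw [hm]; norm_num
    subst hm'
    have hcomm : ∀ a b : A, a * b = b * a := fun a b => Subtype.ext
      ((AbelianTI.setting hC).central a a.2 b b.2)
    choose w hw using fun χ : Cfsg.IrrCharacter G => exists_const_of_conj χ hcomm ha₀ ha₀1
      fun a ha ha1 => isConj_of_card hC he (by rw [hcard]) ha₀ ha₀1 ha ha1
    obtain ⟨F, h1, h2, h3, h4, h5, h6⟩ := final ∅ (by simp) (by simp) w (fun χ _ => hw χ) 0 (by simp)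
    simp only [Finset.sum_empty, add_zero, Nat.cast_ofNat] at h4 h5 h6
    have h5' : (∑ χ ∈ F, ρ χ * (z χ).toNat) = 6 := by omega
    have h6' : (∑ χ ∈ F, ρ χ ^ 2) = 3 := by omega
    exact kill_three (ρ := ρ) (b := fun χ => (z χ).toNat) (e := w) h1 h2 h3 (by omega) h5' h6'
  -- exceptional characters
  have hm2 : 2 * (2 * s) + 1 ≤ Nat.card A := by
    have h1 : 4 * s + 2 ≤ 2 ^ s := by
      clear * - hs5
      induction s, hs5 using Nat.le_induction with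
      | base => norm_num
      | succ k hk ih => rw [pow_succ]; omega
    omega
  obtain ⟨X, hXc, hXeq, hXoff, hXnc, -, ε, c, hε, hXdeg, hXsum⟩ := ReeCover.exists_exceptional hC he hm2
  rw [hcard] at hXc
  have h1X : one ∉ X := fun h => by obtain ⟨a, -, -, ha⟩ := hXnc _ h 1; exact ha rfl
  have hSX : St ∉ X := fun h => by obtain ⟨a, ha, ha1, hne⟩ := hXnc _ h 1; exact hne (hSt a ha ha1)
  choose! w hw using hXoff
  have hY : ∀ a ∈ A, a ≠ 1 → ∑ χ ∈ X, ‖(χ : G → ℂ) a‖ ^ 2 =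
      (((X.card : ℤ) * c * c - 2 * ε * c + ((m : ℤ) - 2 * s) : ℤ) : ℝ) := fun a ha ha1 => by
    rw [Finset.sum_congr rfl fun χ _ => (Complex.normSq_eq_norm_sq _).symm, hXsum a ha ha1, hcard]
    push_cast
    ring
  obtain ⟨F, h1, h2, h3, h4, h5, h6⟩ := final X h1X hSX w (fun χ hχ => hw χ hχ) _ hY
  obtain ⟨χ₀, hχ₀⟩ : X.Nonempty := Finset.card_pos.1 (Nat.pos_of_ne_zero fun h => by rw [h] at hXc; omega)
  have hconst : ∀ χ ∈ X, ρ χ = ρ χ₀ ∧ z χ = z χ₀ := fun χ hχ => by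
    constructor
    · have h := hX χ χ₀ (fun e => h1X ((show χ = one from Subtype.ext e) ▸ hχ))
        (fun e => h1X ((show χ₀ = one from Subtype.ext e) ▸ hχ₀))
        (fun e => hSX (e ▸ hχ)) (fun e => hSX (e ▸ hχ₀)) (hXeq χ hχ χ₀ hχ₀)
      rw [hρ, hρ] at h
      exact_mod_cast h
    · have h := hXeq χ hχ χ₀ hχ₀ v hv1
      rw [hz, hz] at h
      exact_mod_cast h
  rw [show ∑ χ ∈ X, (ρ χ : ℤ) * z χ = (X.card : ℤ) * ((ρ χ₀ : ℤ) * z χ₀) by
    rw [Finset.sum_congr rfl (g := fun _ => (ρ χ₀ : ℤ) * z χ₀) fun χ hχ => by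
      rw [(hconst χ hχ).1, (hconst χ hχ).2], Finset.sum_const, nsmul_eq_mul]] at h5
  rw [show ∑ χ ∈ X, (ρ χ : ℤ) ^ 2 = (X.card : ℤ) * (ρ χ₀ : ℤ) ^ 2 by
    rw [Finset.sum_congr rfl (g := fun _ => (ρ χ₀ : ℤ) ^ 2) fun χ hχ => by
      rw [(hconst χ hχ).1], Finset.sum_const, nsmul_eq_mul]] at h6
  have hL : 2 * s * X.card + 1 = m := hXc
  have hbz : (ρ χ₀ : ℤ) * z χ₀ = ((ρ χ₀ * (z χ₀).toNat : ℕ) : ℤ) := by
    rcases Nat.eq_zero_or_pos (ρ χ₀) with h | h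
    · simp [h]
    · push_cast
      rw [Int.toNat_of_nonneg (by linarith [(hdeg χ₀ h.ne').2])]
  rw [hbz] at h5
  refine kill_five_le (ρ := ρ) (b := fun χ => (z χ).toNat) (e := w) (F := F) hs5 hs hm hL h1 h2 h3 hε
    (c := c) (by linarith) (a := ρ χ₀) (bZ := (z χ₀).toNat) (fun h => ?_) ?_ ?_
  · have hz1 := (hdeg χ₀ h).2
    refine ⟨by omega, ?_⟩
    rw [Int.toNat_of_nonneg (by linarith)]
    obtain ⟨k, hk⟩ := hXdeg χ₀ hχ₀
    refine hcong χ₀ _ h ⟨k, ?_⟩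
    rw [irr_apply_one_eq_deg, hcard] at hk
    have hk' : (deg (χ₀ : G → ℂ) : ℤ) = c + ε * ((2 * s : ℕ) : ℤ) + (m : ℤ) * k :=
      Int.cast_injective (α := ℂ) (by push_cast at hk ⊢; exact hk)
    rw [hk']
    push_cast
    ring
  · zify [show 1 ≤ m by omega]
    push_cast at h5 ⊢
    linarith
  · have hs0 : (s : ℤ) ≠ 0 := by omega
    have : ((∑ χ ∈ F, ρ χ ^ 2 : ℕ) : ℤ) + X.card * (ρ χ₀ : ℤ) ^ 2 = 1 + 2 * X.card := by
      refine mul_left_cancel₀ hs0 ?_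
      rw [h6, ← hL]; push_cast; ring
    exact_mod_cast this

end Cfsg.Lib.BenderSE.RegKill
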