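/-
Step 7 of notes/bender_reg_h7.md: the point stabiliser acts on its involutions either two-transitively,
giving the character of notes/bender_reg_kill.md, or with the orbits of `C_D(v)`, and then `C_H(U)` is
regular on the other cosets.
-/
import Cfsg.Agent.BenderSE.IsometryRank
import Cfsg.Agent.BenderSE.CommBasic
import Cfsg.Agent.BenderSE.RegStructure
import Cfsg.Agent.BenderSE.Reg.KernelCase
import Cfsg.Agent.BenderSE.Reg.StepSeven

set_option autoImplicit false
set_option linter.unusedSectionVars false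
set_option linter.style.haveILetI false

namespace Cfsg.Lib.BenderSE

open Subgroup MulAction Cfsg.Lib.InvolCalc Cfsg.Lib.StrongEmb

universe u

variable {G : Type u} [Group G] [Finite G] {H : Subgroup G}

/-- `(n - 1)(n - 2) < 2 ^ (n - 1)` -/
theorem offDiag_lt_two_pow : ∀ k : ℕ, k * k - k < 2 ^ k
  | 0 => by simp
  | 1 => by simp
  | 2 => by simp
  | k + 3 => by
    have ih := offDiag_lt_two_pow (k + 2)
    have h0 : k + 1 < 2 ^ (k + 1) := Nat.lt_two_pow_self
    have h1 : 2 ^ (k + 2) = 2 * 2 ^ (k + 1) := pow_succ' 2 (k + 1)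
    have h3 : 2 ^ (k + 3) = 2 * 2 ^ (k + 2) := pow_succ' 2 (k + 2)
    have h2 : (k + 3) * (k + 3) - (k + 3) = (k + 2) * (k + 2) - (k + 2) + 2 * (k + 2) := by
      zify [Nat.le_mul_self (k + 3), Nat.le_mul_self (k + 2)]
      ring
    omega

/-- the setting of step 7: `D = A C_D(v)` a Frobenius group, `A` regular on the involutions at `c`,
`|C_D(v)| = s`, `|U| = 2 ^ s` and `C_D(U) = 1` -/
structure InvolFrame (H : Subgroup G) (c a : G ⧸ H) (A : Subgroup G) (v : G) (s : ℕ) : Prop where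
  se : Cfsg.IsStronglyEmbedded H
  nobad : NoBad H
  comm : CommAt H
  ne : a ≠ c
  hs : s.Prime
  card : invCount H + 1 = 2 ^ s
  hv : orderOf v = 2
  hvc : v • c = c
  le : A ≤ stabilizer G c ⊓ stabilizer G a
  norm : stabilizer G c ⊓ stabilizer G a ≤ normalizer (A : Set G)
  abel : ∀ x y : A, x * y = y * x
  reg : ∀ i : G, orderOf i = 2 → i • c = c → ∃! x : A, (x : G) * v * (x : G)⁻¹ = i
  fpf : ∀ r ∈ stabilizer G c ⊓ stabilizer G a, Commute r v → r ≠ 1 →
    ∀ x ∈ A, Commute r x → x = 1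
  cardP : Nat.card ↥(stabilizer G c ⊓ stabilizer G a ⊓ centralizer ({v} : Set G)) = s
  faith : centGroup c ⊓ stabilizer G a = ⊥

/-- the involutions at `c` -/
abbrev InvolAt (H : Subgroup G) (c : G ⧸ H) : Type u := {i : G // orderOf i = 2 ∧ i • c = c}

/-- `G_c` acts on the involutions at `c` -/
instance involAtAction (c : G ⧸ H) : MulAction (stabilizer G c) (InvolAt H c) where
  smul g i := ⟨(g : G) * i.1 * (g : G)⁻¹, by rw [orderOf_conj', i.2.1], by
    have hg : (g : G) • c = c := mem_stabilizer_iff.1 g.2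
    rw [mul_smul, mul_smul, inv_smul_eq_iff.2 hg.symm, i.2.2, hg]⟩
  one_smul i := Subtype.ext (show (1 : G) * i.1 * (1 : G)⁻¹ = i.1 by group)
  mul_smul g g' i := Subtype.ext (show (g : G) * (g' : G) * i.1 * ((g : G) * (g' : G))⁻¹ =
    (g : G) * ((g' : G) * i.1 * (g' : G)⁻¹) * (g : G)⁻¹ by group)

theorem involAt_smul_val {c : G ⧸ H} (g : stabilizer G c) (i : InvolAt H c) :
    (g • i : InvolAt H c).1 = (g : G) * i.1 * (g : G)⁻¹ := rfl

theorem involAt_smul_eq_iff {c : G ⧸ H} (g : stabilizer G c) (i : InvolAt H c) :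
    g • i = i ↔ Commute (g : G) i.1 := by
  rw [Subtype.ext_iff, involAt_smul_val, mul_inv_eq_iff_eq_mul]
  rfl

namespace InvolFrame

variable {c a : G ⧸ H} {A : Subgroup G} {v : G} {s : ℕ}

/-- the base point -/
def pt (h : InvolFrame H c a A v s) : InvolAt H c := ⟨v, h.hv, h.hvc⟩

variable (h : InvolFrame H c a A v s)
include h

theorem eq_one_of_fix {x i : G} (hx : x ∈ A) (hi : orderOf i = 2) (hic : i • c = c)
    (hxi : Commute x i) : x = 1 := by
  obtain ⟨y, hy, hu⟩ := h.reg i hi hic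
  have h1 := hu (⟨x, hx⟩ * y) (by
    show x * (y : G) * v * (x * (y : G))⁻¹ = i
    rw [show x * (y : G) * v * (x * (y : G))⁻¹ = x * ((y : G) * v * (y : G)⁻¹) * x⁻¹ by group, hy,
      hxi.eq, mul_inv_cancel_right])
  exact congrArg Subtype.val (mul_eq_right.1 h1)

/-- a nontrivial element of `A` fixes exactly `c` and `a` -/
theorem eq_or_eq_of_fix {x : G} (hx : x ∈ A) (hx1 : x ≠ 1) {d : G ⧸ H} (hd : x • d = d) :
    d = c ∨ d = a := by
  by_contra hne
  push Not at hne
  obtain ⟨p, hp, hpx⟩ := Nat.exists_prime_and_dvd (fun e => hx1 (orderOf_eq_one_iff.1 e))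
  haveI := Fact.mk hp
  set y := x ^ (orderOf x / p) with hy
  have hyo : orderOf y = p := orderOf_pow_orderOf_div (orderOf_pos x).ne' hpx
  have hyp : IsPGroup p (zpowers y) :=
    IsPGroup.of_card (n := 1) (by rw [Nat.card_zpowers, hyo, pow_one])
  have hfx : ∀ q : G ⧸ H, x • q = q → q ∈ fixOf (α := G ⧸ H) (zpowers y) := fun q hq g hg =>
    mem_stabilizer_iff.1 ((zpowers_le.2 (pow_mem (mem_stabilizer_iff.2 hq) _) :
      zpowers y ≤ stabilizer G q) hg)
  have hxca := mem_inf.1 (h.le hx)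
  obtain ⟨w, hw, hwc, hwy⟩ := exists_centralizing_at h.se h.nobad hyp (hfx c hxca.1)
    ⟨c, hfx c hxca.1, a, hfx a hxca.2, d, hfx d hd, h.ne.symm, hne.1.symm, hne.2.symm⟩
  have h1 := h.eq_one_of_fix (pow_mem hx _) hw hwc (hwy y (mem_zpowers y))
  rw [← hy] at h1
  rw [h1, orderOf_one] at hyo
  exact hp.ne_one hyo.symm

/-- an element of `D` centralising `v` and a further involution at `c` is trivial -/
theorem eq_one_of_two {r i : G} (hr : r ∈ stabilizer G c ⊓ stabilizer G a) (hrv : Commute r v)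
    (hi : orderOf i = 2) (hic : i • c = c) (hri : Commute r i) (hne : i ≠ v) : r = 1 := by
  by_contra hr1
  obtain ⟨y, hy, hu⟩ := h.reg i hi hic
  have h1 : (y : G) = 1 := by
    refine h.fpf r hr hrv hr1 y y.2 ?_
    have h2 := hu ⟨r * y * r⁻¹, (mem_normalizer_iff.1 (h.norm hr) _).1 y.2⟩ (by
      show r * (y : G) * r⁻¹ * v * (r * (y : G) * r⁻¹)⁻¹ = i
      rw [show r * (y : G) * r⁻¹ * v * (r * (y : G) * r⁻¹)⁻¹ =
        r * ((y : G) * (r⁻¹ * v * r) * (y : G)⁻¹) * r⁻¹ by group,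
        show r⁻¹ * v * r = v by rw [mul_assoc, ← hrv.eq, inv_mul_cancel_left], hy, hri.eq,
        mul_inv_cancel_right])
    exact mul_inv_eq_iff_eq_mul.1 (congrArg Subtype.val h2 :)
  exact hne (by rw [← hy, h1]; group)

/-- every element of `G_c` moves `v` like an element of `A` -/
theorem exists_mul (g : G) (hg : g ∈ stabilizer G c) :
    ∃ x ∈ A, Commute (x⁻¹ * g) v := by
  have hgc : g • c = c := mem_stabilizer_iff.1 hg
  obtain ⟨x, hx, -⟩ := h.reg (g * v * g⁻¹) (by rw [orderOf_conj', h.hv])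
    (by rw [mul_smul, mul_smul, inv_smul_eq_iff.2 hgc.symm, h.hvc, hgc])
  refine ⟨x, x.2, ?_⟩
  show (x : G)⁻¹ * g * v = v * ((x : G)⁻¹ * g)
  calc (x : G)⁻¹ * g * v = (x : G)⁻¹ * (g * v * g⁻¹) * g := by group
    _ = _ := by rw [← hx]; group

theorem setting : Isometry.Setting (A.subgroupOf (stabilizer G c))
    ((stabilizer G c ⊓ stabilizer G a).subgroupOf (stabilizer G c))
    ((stabilizer G c ⊓ stabilizer G a ⊓ centralizer ({v} : Set G)).subgroupOf (stabilizer G c))
    h.pt where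
  aB := fun x hx => mem_subgroupOf.2 (h.le (mem_subgroupOf.1 hx))
  rB := fun x hx => mem_subgroupOf.2 (mem_inf.1 (mem_subgroupOf.1 hx)).1
  norm := fun x hx y hy => mem_subgroupOf.2
    ((mem_normalizer_iff.1 (h.norm (mem_subgroupOf.1 hx)) _).1 (mem_subgroupOf.1 hy))
  comm := fun x y => Subtype.ext (Subtype.ext (congrArg Subtype.val
    (h.abel ⟨(x : stabilizer G c), mem_subgroupOf.1 x.2⟩ ⟨(y : stabilizer G c), mem_subgroupOf.1 y.2⟩) :))
  sup := by
    intro g hg
    obtain ⟨x, hx, hxv⟩ := h.exists_mul g g.2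
    refine ⟨⟨x, (h.le.trans inf_le_left) hx⟩, mem_subgroupOf.2 hx, ⟨x, (h.le.trans inf_le_left) hx⟩⁻¹ * g,
      mem_subgroupOf.2 (mem_inf.2 ⟨?_, ?_⟩), by group⟩
    swap
    · exact mem_centralizer_singleton_iff.2 (by rw [Subgroup.coe_mul, Subgroup.coe_inv]; exact hxv)
    rw [Subgroup.coe_mul, Subgroup.coe_inv]
    exact mul_mem (inv_mem (h.le hx)) (mem_subgroupOf.1 hg)
  disj := by
    rw [eq_bot_iff]
    intro x hx
    obtain ⟨h1, h2⟩ := mem_inf.1 hx
    exact mem_bot.2 (Subtype.ext (h.eq_one_of_fix (mem_subgroupOf.1 h1) h.hv h.hvc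
      (mem_centralizer_singleton_iff.1 (mem_inf.1 (mem_subgroupOf.1 h2)).2)))
  reg := fun w => by
    obtain ⟨x, hx, hu⟩ := h.reg w.1 w.2.1 w.2.2
    refine ⟨⟨⟨x, (h.le.trans inf_le_left) x.2⟩, mem_subgroupOf.2 x.2⟩, Subtype.ext hx, ?_⟩
    intro y hy
    have h1 := hu ⟨(y : stabilizer G c), mem_subgroupOf.1 y.2⟩ (congrArg Subtype.val hy)
    exact Subtype.ext (Subtype.ext (congrArg Subtype.val h1 :))
  fixR := fun r hr => (involAt_smul_eq_iff r h.pt).2
    (mem_centralizer_singleton_iff.1 (mem_inf.1 (mem_subgroupOf.1 hr)).2)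
  ti := by
    rintro g x ⟨hxB, hxR⟩ ⟨hgB, -⟩
    obtain ⟨z, hz, hzv⟩ := h.exists_mul x x.2
    have hxD : (x : G) ∈ stabilizer G c ⊓ stabilizer G a := mem_subgroupOf.1 hxB
    set r := z⁻¹ * (x : G) with hr
    have hrD : r ∈ stabilizer G c ⊓ stabilizer G a := mul_mem (inv_mem (h.le hz)) hxD
    have hxA : (x : G) ∈ A := by
      by_cases hr1 : r = 1
      · rw [show (x : G) = z from (inv_mul_eq_one.1 hr1).symm]
        exact hz
      -- otherwise `x` is conjugate to `r` under `A`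
      exfalso
      let φ : A → A := fun y => ⟨(y : G) * (r * (y : G)⁻¹ * r⁻¹),
        mul_mem y.2 ((mem_normalizer_iff.1 (h.norm hrD) _).1 (inv_mem y.2))⟩
      have hinj : Function.Injective φ := by
        rintro ⟨y, hy⟩ ⟨y', hy'⟩ e
        have e' : y * (r * y⁻¹ * r⁻¹) = y' * (r * y'⁻¹ * r⁻¹) := congrArg Subtype.val e
        have h1 := h.fpf r hrD hzv hr1 _ (mul_mem (inv_mem hy') hy) (by
          have h2 : y'⁻¹ * y * r = r * (y'⁻¹ * y) := by
            calc y'⁻¹ * y * r = y'⁻¹ * (y * (r * y⁻¹ * r⁻¹)) * (r * y) := by group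
              _ = y'⁻¹ * (y' * (r * y'⁻¹ * r⁻¹)) * (r * y) := by rw [e']
              _ = r * (y'⁻¹ * y) := by group
          exact h2.symm)
        exact Subtype.ext (inv_mul_eq_one.1 h1).symm
      obtain ⟨⟨y, hy⟩, hye⟩ := Finite.surjective_of_injective hinj ⟨z, hz⟩
      have hye' : y * (r * y⁻¹ * r⁻¹) = z := congrArg Subtype.val hye
      refine hxR ⟨y⁻¹, mem_stabilizer_iff.2 (mem_stabilizer_iff.1 (mem_inf.1 (h.le (inv_mem hy))).1)⟩
        (mem_subgroupOf.2 (h.le (inv_mem hy))) (mem_subgroupOf.2 ?_)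
      have hconj : y⁻¹ * (x : G) * y⁻¹⁻¹ = r := by
        rw [show (x : G) = z * r by rw [hr]; group, ← hye']
        group
      show y⁻¹ * (x : G) * y⁻¹⁻¹ ∈ _
      rw [hconj]
      exact mem_inf.2 ⟨hrD, mem_centralizer_singleton_iff.2 hzv⟩
    have hx1 : (x : G) ≠ 1 := fun e => hxR 1 (one_mem _) (mem_subgroupOf.2 (by simp [e]))
    have hgx : ((g : G) * x * (g : G)⁻¹) • a = a := by
      have h1 := (mem_inf.1 (mem_subgroupOf.1 hgB)).2
      rwa [Subgroup.coe_mul, Subgroup.coe_mul, Subgroup.coe_inv, mem_stabilizer_iff] at h1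
    rw [mul_smul, mul_smul] at hgx
    have hgc : (g : G) • c = c := mem_stabilizer_iff.1 g.2
    refine mem_subgroupOf.2 (mem_inf.2 ⟨g.2, mem_stabilizer_iff.2 ?_⟩)
    rcases h.eq_or_eq_of_fix hxA hx1 (eq_inv_smul_iff.2 hgx) with e | e
    · rw [inv_smul_eq_iff, hgc] at e
      exact absurd e h.ne
    · exact (inv_smul_eq_iff.1 e).symm

/-- The dichotomy: two-transitive, or `G_c ∩ C(v)` has the orbits of `C_D(v)`. -/
theorem orbits :
    (∀ i j : InvolAt H c, i ≠ h.pt → j ≠ h.pt →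
      ∃ g : stabilizer G c, g • h.pt = h.pt ∧ g • i = j) ∨
    (∀ g ∈ stabilizer G c, Commute g v → ∀ i : G, orderOf i = 2 → i • c = c →
      ∃ r ∈ stabilizer G c ⊓ stabilizer G a, Commute r v ∧ r * i * r⁻¹ = g * i * g⁻¹) := by
  classical
  haveI := Fintype.ofFinite (stabilizer G c)
  haveI := Fintype.ofFinite ((stabilizer G c ⊓ stabilizer G a).subgroupOf (stabilizer G c))
  haveI := Fintype.ofFinite (A.subgroupOf (stabilizer G c))
  haveI := Fintype.ofFinite
    ((stabilizer G c ⊓ stabilizer G a ⊓ centralizer ({v} : Set G)).subgroupOf (stabilizer G c))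
  rcases h.setting.frobenius_dichotomy (fun lam hl => h.setting.free_of_fpf (fun r hr x hx => by
    have h1 : ((r : stabilizer G c) : G) * ((x : stabilizer G c) : G) * ((r : stabilizer G c) : G)⁻¹ =
        ((x : stabilizer G c) : G) :=
      congrArg (fun z : A.subgroupOf (stabilizer G c) => ((z : stabilizer G c) : G)) hx
    obtain ⟨hrD, hrv⟩ := mem_inf.1 (mem_subgroupOf.1 r.2)
    exact Subtype.ext (Subtype.ext (h.fpf _ hrD (mem_centralizer_singleton_iff.1 hrv)
      (fun e => hr (Subtype.ext (Subtype.ext e))) _ (mem_subgroupOf.1 x.2)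
      (mul_inv_eq_iff_eq_mul.1 h1)))) hl) with h2 | hsep
  · exact Or.inl h2
  · refine Or.inr fun g hg hgv i hi hic => ?_
    obtain ⟨r, hr, hre⟩ := hsep ⟨g, hg⟩ ((involAt_smul_eq_iff _ h.pt).2 hgv) ⟨i, hi, hic⟩
    obtain ⟨hrD, hrv⟩ := mem_inf.1 (mem_subgroupOf.1 hr)
    exact ⟨r, hrD, mem_centralizer_singleton_iff.1 hrv, congrArg Subtype.val hre⟩

/-- In the second case the stabiliser of two involutions centralises `U`. -/
theorem mem_centGroup_of_orbits
    (hsep : ∀ g ∈ stabilizer G c, Commute g v → ∀ i : G, orderOf i = 2 → i • c = c →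
      ∃ r ∈ stabilizer G c ⊓ stabilizer G a, Commute r v ∧ r * i * r⁻¹ = g * i * g⁻¹)
    {g : G} (hg : g ∈ stabilizer G c) (hgv : Commute g v) {w : G} (hw : orderOf w = 2) (hwc : w • c = c)
    (hwv : w ≠ v) (hgw : Commute g w) : g ∈ centGroup c := by
  classical
  haveI := Fintype.ofFinite G
  set D := stabilizer G c ⊓ stabilizer G a with hD
  set P := D ⊓ centralizer ({v} : Set G) with hP
  obtain ⟨α, hα, -⟩ := h.reg w hw hwc
  have hαc : (α : G) • c = c := mem_stabilizer_iff.1 (mem_inf.1 (h.le α.2)).1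
  set P1 : Finset G := Finset.univ.filter fun p => p ∈ P ∧ p ≠ 1 with hP1
  have hP1c : P1.card = s - 1 := by
    rw [show P1 = (Finset.univ.filter fun p => p ∈ P).erase 1 by ext; simp [hP1, and_comm],
      Finset.card_erase_of_mem (by simp), ← Fintype.card_subtype, ← Nat.card_eq_fintype_card]
    exact congrArg (· - 1) h.cardP
  -- an involution moved by `g` is fixed by `p⁻¹ α q α⁻¹`
  have hex : ∀ i : InvolAt H c, ¬ Commute g i.1 → ∃ x ∈ P1.offDiag,
      Commute (x.1⁻¹ * ((α : G) * x.2 * (α : G)⁻¹)) i.1 := by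
    intro i hgi
    obtain ⟨p, hp, hpv, hpi⟩ := hsep g hg hgv i.1 i.2.1 i.2.2
    have hαD := h.le α.2
    obtain ⟨q, hq, hqv, hqi⟩ := hsep ((α : G)⁻¹ * g * α)
      (mul_mem (mul_mem (inv_mem (mem_inf.1 hαD).1) hg) (mem_inf.1 hαD).1) (by
        show (α : G)⁻¹ * g * α * v = v * ((α : G)⁻¹ * g * α)
        calc (α : G)⁻¹ * g * α * v = (α : G)⁻¹ * (g * ((α : G) * v * (α : G)⁻¹)) * α := by group
          _ = (α : G)⁻¹ * (((α : G) * v * (α : G)⁻¹) * g) * α := by rw [hα, hgw.eq]
          _ = v * ((α : G)⁻¹ * g * α) := by group)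
      ((α : G)⁻¹ * i.1 * α)
      (by rw [show (α : G)⁻¹ * i.1 * α = (α : G)⁻¹ * i.1 * (α : G)⁻¹⁻¹ by rw [inv_inv], orderOf_conj', i.2.1])
      (by rw [mul_smul, mul_smul, hαc, i.2.2, inv_smul_eq_iff, hαc])
    have hqi' : (α : G) * q * (α : G)⁻¹ * i.1 * ((α : G) * q * (α : G)⁻¹)⁻¹ = g * i.1 * g⁻¹ := by
      calc (α : G) * q * (α : G)⁻¹ * i.1 * ((α : G) * q * (α : G)⁻¹)⁻¹ =
          (α : G) * (q * ((α : G)⁻¹ * i.1 * α) * q⁻¹) * (α : G)⁻¹ := by group
        _ = g * i.1 * g⁻¹ := by rw [hqi]; group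
    have hne : ∀ z : G, z * i.1 * z⁻¹ = g * i.1 * g⁻¹ → z ≠ 1 := fun z hz e => hgi (by
      rw [e, one_mul, inv_one, mul_one] at hz
      exact mul_inv_eq_iff_eq_mul.1 hz.symm)
    have hp1 := hne p hpi
    have hq1 : q ≠ 1 := fun e => hne _ hqi' (by rw [e]; group)
    have hcomm : Commute (p⁻¹ * ((α : G) * q * (α : G)⁻¹)) i.1 := by
      set q' := (α : G) * q * (α : G)⁻¹
      show p⁻¹ * q' * i.1 = i.1 * (p⁻¹ * q')
      calc p⁻¹ * q' * i.1 = p⁻¹ * (q' * i.1 * q'⁻¹) * q' := by group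
        _ = p⁻¹ * (p * i.1 * p⁻¹) * q' := by rw [hqi', hpi]
        _ = i.1 * (p⁻¹ * q') := by group
    refine ⟨(p, q), Finset.mem_offDiag.2 ⟨?_, ?_, ?_⟩, hcomm⟩
    · simp [hP1, hP, hp, hp1, mem_centralizer_singleton_iff, hpv.eq]
    · simp [hP1, hP, hq, hq1, mem_centralizer_singleton_iff, hqv.eq]
    · intro e
      -- `p⁻¹ α p α⁻¹` lies in `A`, fixes `i`, so `α = 1`
      replace e : p = q := e
      subst e
      have hA : p⁻¹ * ((α : G) * p * (α : G)⁻¹) ∈ A := by
        rw [show p⁻¹ * ((α : G) * p * (α : G)⁻¹) = p⁻¹ * (α : G) * p * (α : G)⁻¹ by group]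
        refine mul_mem ?_ (inv_mem α.2)
        simpa using (mem_normalizer_iff''.1 (h.norm hp) _).1 α.2
      have h1 := h.eq_one_of_fix hA i.2.1 i.2.2 hcomm
      have h2 := h.fpf p hp hpv hp1 α α.2 (by
        show p * (α : G) = (α : G) * p
        rw [inv_mul_eq_one, eq_mul_inv_iff_mul_eq] at h1
        exact h1)
      exact hwv (by rw [← hα, h2]; group)
  choose f hf hfc using hex
  set M := Finset.univ.filter fun i : InvolAt H c => ¬ Commute g i.1 with hM
  have hMcard : M.card ≤ P1.offDiag.card := by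
    refine Finset.card_le_card_of_injOn (fun i => if hi : ¬ Commute g i.1 then f i hi else (1, 1)) ?_ ?_
    · intro i hi
      have hi' : ¬ Commute g i.1 := by simpa [hM] using hi
      simp only [dif_pos hi']
      exact hf i hi'
    · intro i hi j hj e
      have hi' : ¬ Commute g i.1 := by simpa [hM] using hi
      have hj' : ¬ Commute g j.1 := by simpa [hM] using hj
      simp only [dif_pos hi', dif_pos hj'] at e
      by_contra hij
      obtain ⟨hp, hq, hpq⟩ := Finset.mem_offDiag.1 (hf i hi')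
      simp only [hP1, Finset.mem_filter, Finset.mem_univ, true_and] at hp hq
      have h1 := hfc i hi'
      have h2 := hfc j hj'
      rw [← e] at h2
      set p := (f i hi').1
      set q := (f i hi').2
      set z := p⁻¹ * ((α : G) * q * (α : G)⁻¹) with hz
      have hzD : z ∈ D := mul_mem (inv_mem (mem_inf.1 hp.1).1)
        (mul_mem (mul_mem (h.le α.2) (mem_inf.1 hq.1).1) (inv_mem (h.le α.2)))
      -- conjugate the first fixed involution to `v`
      obtain ⟨β, hβ, -⟩ := h.reg i.1 i.2.1 i.2.2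
      have hβc : (β : G) • c = c := mem_stabilizer_iff.1 (mem_inf.1 (h.le β.2)).1
      have h3 : (β : G)⁻¹ * z * β = 1 := by
        refine h.eq_one_of_two (mul_mem (mul_mem (inv_mem (h.le β.2)) hzD) (h.le β.2)) ?_
          (i := (β : G)⁻¹ * j.1 * β) ?_ ?_ ?_ ?_
        · show (β : G)⁻¹ * z * β * v = v * ((β : G)⁻¹ * z * β)
          calc (β : G)⁻¹ * z * β * v = (β : G)⁻¹ * (z * ((β : G) * v * (β : G)⁻¹)) * β := by group
            _ = (β : G)⁻¹ * (((β : G) * v * (β : G)⁻¹) * z) * β := by rw [hβ, h1.eq]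
            _ = v * ((β : G)⁻¹ * z * β) := by group
        · rw [show (β : G)⁻¹ * j.1 * β = (β : G)⁻¹ * j.1 * (β : G)⁻¹⁻¹ by rw [inv_inv], orderOf_conj', j.2.1]
        · rw [mul_smul, mul_smul, hβc, j.2.2, inv_smul_eq_iff, hβc]
        · show (β : G)⁻¹ * z * β * ((β : G)⁻¹ * j.1 * β) = (β : G)⁻¹ * j.1 * β * ((β : G)⁻¹ * z * β)
          calc (β : G)⁻¹ * z * β * ((β : G)⁻¹ * j.1 * β) = (β : G)⁻¹ * (z * j.1) * β := by group
            _ = (β : G)⁻¹ * (j.1 * z) * β := by rw [h2.eq]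
            _ = _ := by group
        · intro e'
          exact hij (Subtype.ext (by rw [← hβ, ← e']; group))
      have hz1 : z = 1 := by
        calc z = (β : G) * ((β : G)⁻¹ * z * β) * (β : G)⁻¹ := by group
          _ = 1 := by rw [h3]; group
      -- so `p` fixes `v` and `w`
      have h4 : p = (α : G) * q * (α : G)⁻¹ := inv_mul_eq_one.1 hz1
      have hpv : Commute p v := mem_centralizer_singleton_iff.1 (mem_inf.1 hp.1).2
      have hqv : Commute q v := mem_centralizer_singleton_iff.1 (mem_inf.1 hq.1).2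
      refine hp.2 (h.eq_one_of_two (mem_inf.1 hp.1).1 hpv hw hwc ?_ hwv)
      rw [h4, ← hα]
      exact hqv.map (MulAut.conj (α : G)).toMonoidHom
  -- so the fixed subgroup is all of `U`
  have hInv : Fintype.card (InvolAt H c) + 1 = 2 ^ s := by
    rw [← Nat.card_eq_fintype_card, card_fixing h.se c]
    exact h.card
  set Fx := invGroup G c ⊓ centralizer ({g} : Set G) with hFx
  have hFxc : Fintype.card (InvolAt H c) - M.card + 1 ≤ Nat.card Fx := by
    have e : (Finset.univ.filter fun i : InvolAt H c => Commute g i.1).card =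
        Fintype.card (InvolAt H c) - M.card := by
      rw [hM, ← Finset.card_univ, ← Finset.card_filter_add_card_filter_not (s := Finset.univ)
        (fun i : InvolAt H c => Commute g i.1), Nat.add_sub_cancel]
    rw [← e, ← Fintype.card_subtype, ← Fintype.card_option, Nat.card_eq_fintype_card]
    refine Fintype.card_le_of_injective (fun o => o.elim 1 fun i => ⟨i.1.1, mem_inf.2
      ⟨subset_closure ⟨i.1.2.1, i.1.2.2⟩, mem_centralizer_singleton_iff.2 i.2.eq.symm⟩⟩) ?_
    have h1 : ∀ i : InvolAt H c, i.1 ≠ 1 := fun i e => by simpa [e] using i.2.1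
    rintro (_ | i) (_ | j) e
    · rfl
    · exact absurd (congrArg Subtype.val e).symm (h1 j.1)
    · exact absurd (congrArg Subtype.val e) (h1 i.1)
    · exact congrArg some (Subtype.ext (Subtype.ext (congrArg Subtype.val e :)))
  have hFxle : Fx ≤ invGroup G c := inf_le_left
  have hUc : Nat.card (invGroup G c) = 2 ^ s := by rw [card_invGroup h.comm c h.se, h.card]
  obtain ⟨k, hks, hk⟩ := (Nat.dvd_prime_pow Nat.prime_two).1 (hUc ▸ card_dvd_of_le hFxle)
  have hlt := offDiag_lt_two_pow (s - 1)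
  rw [Finset.offDiag_card, hP1c] at hMcard
  have hsk : k = s := by
    by_contra hne
    have h5 : 2 ^ k ≤ 2 ^ (s - 1) := Nat.pow_le_pow_right (by norm_num) (by omega)
    have h6 : 2 ^ s = 2 * 2 ^ (s - 1) := by
      rw [← pow_succ']
      congr 1
      have := h.hs.two_le
      omega
    omega
  have hU : Fx = invGroup G c := Subgroup.eq_of_le_of_card_ge hFxle (by rw [hUc, hk, hsk])
  refine mem_centGroup_iff.2 ⟨mem_stabilizer_iff.1 hg, fun i hi hic => ?_⟩
  have h7 : i ∈ Fx := hU ▸ (subset_closure ⟨hi, hic⟩ : i ∈ invGroup G c)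
  exact (mem_centralizer_singleton_iff.1 (mem_inf.1 h7).2).symm

end InvolFrame

/-- STEP 7 without two-transitivity on the involutions at the base point. -/
theorem InvolFrame.hasRegular_or_two_transitive (h2 : TwoTransitive H) {a : G ⧸ H} {A : Subgroup G} {v : G}
    {s : ℕ} (h : InvolFrame H (QuotientGroup.mk 1 : G ⧸ H) a A v s) :
    HasRegular H ∨ ∀ i j : InvolAt H (QuotientGroup.mk 1 : G ⧸ H), i ≠ h.pt → j ≠ h.pt →
      ∃ g : stabilizer G (QuotientGroup.mk 1 : G ⧸ H), g • h.pt = h.pt ∧ g • i = j := by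
  classical
  rcases h.orbits with ht | hsep
  · exact Or.inr ht
  left
  set c : G ⧸ H := QuotientGroup.mk 1 with hc
  set K := centGroup c with hK
  obtain ⟨w, hw, hwc, hwv⟩ : ∃ w : G, orderOf w = 2 ∧ w • c = c ∧ w ≠ v := by
    by_contra hc'
    push Not at hc'
    haveI : Subsingleton (InvolAt H c) :=
      ⟨fun i j => Subtype.ext ((hc' _ i.2.1 i.2.2).trans (hc' _ j.2.1 j.2.2).symm)⟩
    have h1 : Nat.card (InvolAt H c) ≤ 1 := Finite.card_le_one_iff_subsingleton.2 inferInstance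
    rw [card_fixing h.se c] at h1
    have h3 : Nat.card {t : G // orderOf t = 2 ∧ t ∈ H} + 1 = 2 ^ s := h.card
    have h4 : 2 ^ 2 ≤ 2 ^ s := Nat.pow_le_pow_right (by norm_num) h.hs.two_le
    omega
  have hKH : K ≤ H := inf_le_left.trans_eq stabilizer_mk_one
  have hKn : H ≤ normalizer (K : Set G) := fun g hg =>
    Cfsg.Lib.ZStarApps.mem_normalizer_of_maps fun k hk => by
      have h1 := conj_mem_centGroup g hk
      rwa [(smul_mk_one_iff (H := H)).2 hg] at h1
  refine hasRegular_of_complement hKH hKn h.faith fun b hb => ?_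
  obtain ⟨g, hgc, hga⟩ := h2 c a b h.ne hb
  obtain ⟨x, hx, hxv⟩ := h.exists_mul g (mem_stabilizer_iff.2 hgc)
  have hxg : x⁻¹ * g ∈ stabilizer G c :=
    mul_mem (inv_mem (mem_inf.1 (h.le hx)).1) (mem_stabilizer_iff.2 hgc)
  obtain ⟨r, hr, hrv, hre⟩ := hsep _ hxg hxv w hw hwc
  have hk : r⁻¹ * (x⁻¹ * g) ∈ K := by
    refine h.mem_centGroup_of_orbits hsep (mul_mem (inv_mem (mem_inf.1 hr).1) hxg)
      (hrv.inv_left.mul_left hxv) hw hwc hwv ?_
    show r⁻¹ * (x⁻¹ * g) * w = w * (r⁻¹ * (x⁻¹ * g))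
    set y := x⁻¹ * g
    calc r⁻¹ * y * w = r⁻¹ * (y * w * y⁻¹) * y := by group
      _ = r⁻¹ * (r * w * r⁻¹) * y := by rw [hre]
      _ = w * (r⁻¹ * y) := by group
  -- `g = d k` with `d = x r` in `D`; move `k` to the left
  set d := x * r with hd
  have hdD : d ∈ stabilizer G c ⊓ stabilizer G a := mul_mem (h.le hx) hr
  have hdH : d ∈ H := stabilizer_mk_one.le (mem_inf.1 hdD).1
  refine ⟨d * (r⁻¹ * (x⁻¹ * g)) * d⁻¹, (mem_normalizer_iff.1 (hKn hdH) _).1 hk, ?_⟩
  rw [mul_smul, mul_smul, inv_smul_eq_iff.2 (mem_stabilizer_iff.1 (mem_inf.1 hdD).2).symm, smul_smul,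
    show d * (r⁻¹ * (x⁻¹ * g)) = g by rw [hd]; group, hga]

open scoped ComplexConjugate

open Cfsg.Lib.Chars in
/-- A doubly transitive group on the involutions at `c` gives the character of notes/bender_reg_kill.md. -/
theorem exists_theta (hC : CommAt H) {c : G ⧸ H} {v : G} (hv : orderOf v = 2) (hvc : v • c = c)
    (h2 : 2 ≤ invCount H) (hse : Cfsg.IsStronglyEmbedded H)
    (htr : ∀ i : InvolAt H c, ∃ g : stabilizer G c, g • (⟨v, hv, hvc⟩ : InvolAt H c) = i)
    (htt : ∀ i j : InvolAt H c, i ≠ ⟨v, hv, hvc⟩ → j ≠ ⟨v, hv, hvc⟩ →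
      ∃ g : stabilizer G c, g • (⟨v, hv, hvc⟩ : InvolAt H c) = ⟨v, hv, hvc⟩ ∧ g • i = j)
    {L : Subgroup G} (hL : L = stabilizer G c) [Fintype L] :
    ∃ θ : L → ℂ, Cfsg.IsIrrCharacter L θ ∧ Cfsg.classInner θ (fun _ => 1) = 0 ∧
      (∀ x, conj (θ x) = θ x) ∧
      (∀ x : L, θ x = (Nat.card {i : InvolAt H c // Commute (x : G) i.1} : ℂ) - 1) ∧
      (∀ u : L, (u : G) ∈ invGroup G c → θ u = (invCount H : ℂ) - 1) ∧
      (∀ x : L, (∀ i : G, orderOf i = 2 → i • c = c → ¬ Commute (x : G) i) → θ x = -1) := by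
  classical
  subst hL
  haveI := Fintype.ofFinite G
  set π := permChar (stabilizer G c) (InvolAt H c) with hπ
  set o : InvolAt H c := ⟨v, hv, hvc⟩
  have hπapp : ∀ x : stabilizer G c, π x = (Nat.card {i : InvolAt H c // Commute (x : G) i.1} : ℂ) := by
    intro x
    rw [hπ]
    unfold permChar
    exact congrArg Nat.cast (Nat.card_congr (Equiv.subtypeEquivRight fun i => involAt_smul_eq_iff x i))
  have hcard : Nat.card (InvolAt H c) = invCount H := card_fixing hse c
  haveI : Nonempty (InvolAt H c) := ⟨o⟩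
  haveI : MulAction.IsPretransitive (stabilizer G c) (InvolAt H c) := ⟨fun i j => by
    obtain ⟨g, hg⟩ := htr i
    obtain ⟨g', hg'⟩ := htr j
    exact ⟨g' * g⁻¹, by rw [mul_smul, inv_smul_eq_iff.2 hg.symm, hg']⟩⟩
  -- two orbits on pairs
  have horb : Nat.card (MulAction.orbitRel.Quotient (stabilizer G c) (InvolAt H c × InvolAt H c)) = 2 := by
    obtain ⟨i₁, hi₁⟩ : ∃ i : InvolAt H c, i ≠ o := by
      by_contra hc'
      push Not at hc'
      haveI : Subsingleton (InvolAt H c) := ⟨fun i j => (hc' i).trans (hc' j).symm⟩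
      have h1 : Nat.card (InvolAt H c) ≤ 1 := Finite.card_le_one_iff_subsingleton.2 inferInstance
      rw [hcard] at h1
      omega
    refine Nat.card_eq_two_iff.2 ⟨Quotient.mk'' (o, o), Quotient.mk'' (o, i₁), fun e => ?_,
      Set.eq_univ_of_forall fun z => ?_⟩
    · obtain ⟨g, hg⟩ := MulAction.orbitRel_apply.1 (Quotient.exact' e)
      exact hi₁ (MulAction.injective g ((congrArg Prod.snd hg).trans (congrArg Prod.fst hg).symm))
    · induction z using Quotient.inductionOn' with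
      | h p =>
        obtain ⟨g, hg⟩ := htr p.1
        by_cases hp : p.2 = p.1
        · exact Or.inl (Quotient.sound' (MulAction.orbitRel_apply.2
            ⟨g, Prod.ext hg (by rw [hp]; exact hg)⟩))
        · right
          obtain ⟨g', hg'o, hg'⟩ := htt i₁ (g⁻¹ • p.2) hi₁ fun e => hp (by rw [← hg, ← e, smul_inv_smul])
          exact Quotient.sound' (MulAction.orbitRel_apply.2
            ⟨g * g', Prod.ext (by show (g * g') • o = p.1; rw [mul_smul, hg'o, hg])
              (by show (g * g') • i₁ = p.2; rw [mul_smul, hg', smul_inv_smul])⟩)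
  have hπc : Cfsg.IsCharacter (stabilizer G c) π := isCharacter_permChar (InvolAt H c)
  have hnorm : Cfsg.classInner π π = 2 := by
    rw [hπ, Isometry.inner_permChar_self, horb]
    norm_num
  have hone : Cfsg.classInner π (fun _ => 1) = 1 := by
    rw [hπ, classInner_permChar_one]
    norm_cast
    refine Nat.card_eq_one_iff_unique.2 ⟨⟨fun x y => ?_⟩, ⟨Quotient.mk'' o⟩⟩
    induction x using Quotient.inductionOn' with
    | h i =>
      induction y using Quotient.inductionOn' with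
      | h j => exact Quotient.sound' (MulAction.orbitRel_apply.2 (MulAction.exists_smul_eq _ j i))
  have hone' : Cfsg.classInner (fun _ => (1 : ℂ)) π = 1 := by
    rw [← classInner_conj_symm, hone, map_one]
  have h11 : Cfsg.classInner (fun _ : stabilizer G c => (1 : ℂ)) (fun _ => 1) = 1 :=
    classInner_irr_self (principal (stabilizer G c))
  set θ : stabilizer G c → ℂ := π - fun _ => 1 with hθ
  have hθn : Cfsg.classInner θ θ = 1 := by
    rw [hθ, classInner_sub_left, classInner_sub_right, classInner_sub_right, hnorm, hone, hone', h11]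
    norm_num
  have hθc : Cfsg.IsCharacter (stabilizer G c) θ := by
    refine isCharacter_of_coeff (fun x y => ?_) fun χ => ?_
    · show π (y * x * y⁻¹) - 1 = π x - 1
      rw [isClassFunction_isChar hπc x y]
    · obtain ⟨k, hk⟩ := IsCharacter.exists_mult hπc χ.2
      rw [hθ, classInner_sub_left, hk, show (fun _ : stabilizer G c => (1 : ℂ)) =
        (principal (stabilizer G c) : stabilizer G c → ℂ) from rfl, classInner_irrCharacter]
      split_ifs with e
      · refine ⟨0, ?_⟩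
        rw [← hk, ← e, show Cfsg.classInner π (principal (stabilizer G c) : stabilizer G c → ℂ) = 1 from hone,
          sub_self, Nat.cast_zero]
      · exact ⟨k, sub_zero _⟩
  have hθx : ∀ x : stabilizer G c, θ x = (Nat.card {i : InvolAt H c // Commute (x : G) i.1} : ℂ) - 1 :=
    fun x => by rw [← hπapp]; rfl
  refine ⟨θ, isIrrCharacter_of_norm_one hθc hθn, ?_, fun x => ?_, hθx, fun u hu => ?_, fun x hx => ?_⟩
  · rw [hθ, classInner_sub_left, hone, h11, sub_self]
  · rw [hθx, map_sub, Complex.conj_natCast, map_one]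
  · rw [hθx, Nat.card_congr (Equiv.subtypeUnivEquiv fun i => ?_), hcard]
    exact invGroup_commute hC c hu (subset_closure ⟨i.2.1, i.2.2⟩)
  · rw [hθx, @Nat.card_of_isEmpty _ ⟨fun i => hx i.1.1 i.1.2.1 i.1.2.2 i.2⟩, Nat.cast_zero, zero_sub]

namespace StepSeven

variable {a : G ⧸ H} {s : ℕ} {A P : Subgroup G}

/-- the frame of the dichotomy -/
theorem exists_frame (h : StepSeven H a s A P) :
    ∃ v : G, P ≤ centralizer ({v} : Set G) ∧ InvolFrame H (QuotientGroup.mk 1 : G ⧸ H) a A v s := by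
  haveI := Fact.mk h.prime
  obtain ⟨v, hv, hvc, hPv⟩ := h.fixed
  set D := stabilizer G (QuotientGroup.mk 1 : G ⧸ H) ⊓ stabilizer G a with hD
  have hAD : A ≤ D := le_sup_left.trans_eq h.sup_eq
  have hPD : P ≤ D := le_sup_right.trans_eq h.sup_eq
  have hAc : ∀ x ∈ A, x • (QuotientGroup.mk 1 : G ⧸ H) = QuotientGroup.mk 1 :=
    fun x hx => mem_stabilizer_iff.1 (mem_inf.1 (hAD hx)).1
  have hreg : ∀ i : G, orderOf i = 2 → i • (QuotientGroup.mk 1 : G ⧸ H) = QuotientGroup.mk 1 →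
      ∃! x : A, (x : G) * v * (x : G)⁻¹ = i := by
    intro i hi hic
    obtain ⟨d, ⟨hd, hdi⟩, hu⟩ := h.regular v i ⟨hv, hvc⟩ ⟨hi, hic⟩
    exact ⟨⟨d, hd⟩, hdi, fun y hy => Subtype.ext (hu y ⟨y.2, hy⟩)⟩
  have hexu : ∀ x ∈ A, Commute x v → x = 1 := by
    intro x hx hxv
    obtain ⟨y, -, hu⟩ := hreg v hv hvc
    have h1 := hu ⟨x, hx⟩ (by show x * v * x⁻¹ = v; rw [hxv.eq, mul_inv_cancel_right])
    exact congrArg Subtype.val (h1.trans (hu 1 (by simp)).symm)
  have hDv : D ⊓ centralizer ({v} : Set G) = P := by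
    refine le_antisymm (fun d hd => ?_) (le_inf hPD hPv)
    obtain ⟨hdD, hdv⟩ := mem_inf.1 hd
    obtain ⟨p, hp, x, hx, hpx⟩ : ∃ p ∈ P, ∃ x ∈ A, p * x = d := by
      have h1 : d ∈ ((P ⊔ A : Subgroup G) : Set G) := by
        rw [SetLike.mem_coe, sup_comm, h.sup_eq]
        exact hdD
      rw [Subgroup.coe_mul_of_left_le_normalizer_right P A (hPD.trans h.norm)] at h1
      exact h1
    have hxv : x ∈ centralizer ({v} : Set G) := by
      rw [show x = p⁻¹ * d by rw [← hpx]; group]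
      exact mul_mem (inv_mem (hPv hp)) hdv
    rw [← hpx, hexu x hx (mem_centralizer_singleton_iff.1 hxv), mul_one]
    exact hp
  refine ⟨v, hPv, ?_⟩
  exact
    { se := h.setting.se
      nobad := h.noBad
      comm := h.commAt
      ne := h.ne
      hs := h.prime
      card := h.count
      hv := hv
      hvc := hvc
      le := hAD
      norm := h.norm
      abel := fun x y => (h.comm.is_comm.comm x y)
      reg := hreg
      cardP := by rw [hDv, h.card_P]
      faith := h.faithful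
      fpf := fun r hr hrv hr1 x hx hrx => by
        have hrP : r ∈ P := hDv ▸ mem_inf.2 ⟨hr, mem_centralizer_singleton_iff.2 hrv.eq⟩
        have hPz : P ≤ zpowers r := by
          intro p hp
          have h1 : (⟨r, hrP⟩ : P) ≠ 1 := fun e => hr1 (congrArg Subtype.val e)
          have h2 : (⟨p, hp⟩ : P) ∈ zpowers (⟨r, hrP⟩ : P) :=
            zpowers_eq_top_of_prime_card h.card_P h1 ▸ Subgroup.mem_top _
          obtain ⟨k, hk⟩ := mem_zpowers_iff.1 h2
          exact mem_zpowers_iff.2 ⟨k, by simpa using congrArg Subtype.val hk⟩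
        have hxc := hAc x hx
        have hc2 : Commute r (x * v * x⁻¹) := (hrx.mul_right hrv).mul_right hrx.inv_right
        have h1 := h.rankOne v (x * v * x⁻¹) ⟨hv, hvc⟩
          ⟨by rw [orderOf_conj', hv], by rw [mul_smul, mul_smul, inv_smul_eq_iff.2 hxc.symm, hvc, hxc]⟩ hPv
          (hPz.trans (zpowers_le.2 (mem_centralizer_singleton_iff.2 hc2.eq)))
        exact hexu x hx (mul_inv_eq_iff_eq_mul.1 h1.symm) }

/-- STEP 7: a regular normal subgroup, or the character of notes/bender_reg_kill.md. -/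
theorem hasRegular_or_theta (h : StepSeven H a s A P) [Fintype H] :
    HasRegular H ∨ ∃ θ : H → ℂ, Cfsg.IsIrrCharacter H θ ∧ Cfsg.classInner θ (fun _ => 1) = 0 ∧
      (∀ x, conj (θ x) = θ x) ∧
      (∀ u : H, (u : G) ∈ invGroup G (QuotientGroup.mk 1 : G ⧸ H) → θ u = (invCount H : ℂ) - 1) ∧
      ∀ x : H, (x : G) ∈ A → x ≠ 1 → θ x = -1 := by
  obtain ⟨v, -, hf⟩ := h.exists_frame
  refine (hf.hasRegular_or_two_transitive h.twoTrans).imp_right fun htt => ?_
  have hm : 2 ≤ invCount H := by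
    have h1 := h.count
    have h2 : 2 ^ 2 ≤ 2 ^ s := Nat.pow_le_pow_right (by norm_num) h.prime.two_le
    omega
  obtain ⟨θ, h1, h2, h3, -, h5, h6⟩ := exists_theta hf.comm hf.hv hf.hvc hm hf.se
    (fun i => by
      obtain ⟨x, hx, -⟩ := hf.reg i.1 i.2.1 i.2.2
      exact ⟨⟨x, (mem_inf.1 (hf.le x.2)).1⟩, Subtype.ext hx⟩)
    htt (L := H) stabilizer_mk_one.symm
  exact ⟨θ, h1, h2, h3, h5, fun x hx hx1 => h6 x fun i hi hic hxi =>
    hx1 (Subtype.ext (hf.eq_one_of_fix hx hi hic hxi))⟩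

end StepSeven

end Cfsg.Lib.BenderSE
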