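/-
Step 7 of the regular normal subgroup theorem (notes/bender_reg_kill.md): the group theory of the
torus `A`, and the values of the permutation character on the involutions at `c`.
-/
import Cfsg.Agent.BenderSE.Reg.Dichotomy

set_option autoImplicit false
set_option linter.unusedSectionVars false
set_option linter.style.haveILetI false

namespace Cfsg.Lib.BenderSE

open Subgroup MulAction Cfsg.Lib.InvolCalc Cfsg.Lib.StrongEmb
open Cfsg.Lib.Chars

universe u

variable {G : Type u} [Group G] [Finite G] {H : Subgroup G}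

namespace InvolFrame

variable {c a : G ⧸ H} {A : Subgroup G} {v : G} {s : ℕ}
variable (h : InvolFrame H c a A v s)
include h

theorem card_eq : Nat.card A = invCount H := by
  rw [show invCount H = Nat.card (InvolAt H c) from (card_fixing h.se c).symm]
  refine Nat.card_congr (Equiv.ofBijective (fun x : A => (⟨(x : G) * v * (x : G)⁻¹,
    by rw [orderOf_conj', h.hv], ?_⟩ : InvolAt H c)) ⟨fun x y e => ?_, fun i => ?_⟩)
  · have hxc : (x : G) • c = c := mem_stabilizer_iff.1 (mem_inf.1 (h.le x.2)).1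
    rw [mul_smul, mul_smul, inv_smul_eq_iff.2 hxc.symm, h.hvc, hxc]
  · obtain ⟨z, -, hu⟩ := h.reg _ (by rw [orderOf_conj', h.hv]) (by
      have hxc : (x : G) • c = c := mem_stabilizer_iff.1 (mem_inf.1 (h.le x.2)).1
      rw [mul_smul, mul_smul, inv_smul_eq_iff.2 hxc.symm, h.hvc, hxc] :
        ((x : G) * v * (x : G)⁻¹) • c = c)
    exact (hu x rfl).trans (hu y (congrArg Subtype.val e).symm).symm
  · obtain ⟨z, hz, -⟩ := h.reg i.1 i.2.1 i.2.2
    exact ⟨z, Subtype.ext hz⟩

/-- an element of `D` outside `A` is an `A`-conjugate of an element centralising `v` -/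
theorem exists_conj_fixing {x : G} (hx : x ∈ stabilizer G c ⊓ stabilizer G a) (hxA : x ∉ A) :
    ∃ y ∈ A, Commute (y⁻¹ * x * y) v ∧ y⁻¹ * x * y ≠ 1 := by
  obtain ⟨z, hz, hzv⟩ := h.exists_mul x (mem_inf.1 hx).1
  set r := z⁻¹ * x with hr
  have hrD : r ∈ stabilizer G c ⊓ stabilizer G a := mul_mem (inv_mem (h.le hz)) hx
  have hr1 : r ≠ 1 := fun e => hxA (by rw [show x = z * r by rw [hr]; group, e, mul_one]; exact hz)
  let φ : A → A := fun y => ⟨(y : G) * (r * (y : G)⁻¹ * r⁻¹),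
    mul_mem y.2 ((mem_normalizer_iff.1 (h.norm hrD) _).1 (inv_mem y.2))⟩
  have hinj : Function.Injective φ := by
    rintro ⟨y, hy⟩ ⟨y', hy'⟩ e
    have e' : y * (r * y⁻¹ * r⁻¹) = y' * (r * y'⁻¹ * r⁻¹) := congrArg Subtype.val e
    have h1 := h.fpf r hrD hzv hr1 _ (mul_mem (inv_mem hy') hy) (by
      have h2 : y'⁻¹ * y * r = r * (y'⁻¹ * y) := by
        calc y'⁻¹ * y * r = y'⁻¹ * (y * (r * y⁻¹ * r⁻¹)) * (r * y) := by group
          _ = y'⁻¹ * (y' * (r * y'⁻¹ * r⁻¹)) * (r * y) := by rw [e']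
          _ = r * (y'⁻¹ * y) := by group
      exact h2.symm)
    exact Subtype.ext (inv_mul_eq_one.1 h1).symm
  obtain ⟨⟨y, hy⟩, hye⟩ := Finite.surjective_of_injective hinj ⟨z, hz⟩
  have hye' : y * (r * y⁻¹ * r⁻¹) = z := congrArg Subtype.val hye
  have hconj : y⁻¹ * x * y = r := by
    rw [show x = z * r by rw [hr]; group, ← hye']
    group
  exact ⟨y, hy, by rw [hconj]; exact hzv, by rw [hconj]; exact hr1⟩

/-- an element of `D` outside `A` centralises exactly one involution at `c` -/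
theorem existsUnique_fixed {x : G} (hx : x ∈ stabilizer G c ⊓ stabilizer G a) (hxA : x ∉ A) :
    ∃! i : InvolAt H c, Commute x i.1 := by
  obtain ⟨y, hy, hyv, hy1⟩ := h.exists_conj_fixing hx hxA
  have hyc : y • c = c := mem_stabilizer_iff.1 (mem_inf.1 (h.le hy)).1
  have hconj : ∀ i : G, Commute x i → Commute (y⁻¹ * x * y) (y⁻¹ * i * y) := fun i hi => by
    simpa [MulAut.conj_apply] using hi.map (MulAut.conj y⁻¹).toMonoidHom
  refine ⟨⟨y * v * y⁻¹, by rw [orderOf_conj', h.hv],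
    by rw [mul_smul, mul_smul, inv_smul_eq_iff.2 hyc.symm, h.hvc, hyc]⟩, ?_, fun i hi => ?_⟩
  · have h1 := hyv.map (MulAut.conj y).toMonoidHom
    simpa [MulAut.conj_apply, mul_assoc] using h1
  by_contra hne
  refine hy1 (h.eq_one_of_two (i := y⁻¹ * i.1 * y)
    (mul_mem (mul_mem (inv_mem (h.le hy)) hx) (h.le hy)) hyv ?_ ?_ (hconj _ hi) fun e => ?_)
  · rw [show y⁻¹ * i.1 * y = y⁻¹ * i.1 * y⁻¹⁻¹ by rw [inv_inv], orderOf_conj', i.2.1]
  · rw [mul_smul, mul_smul, hyc, i.2.2, inv_smul_eq_iff, hyc]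
  · exact hne (Subtype.ext (show i.1 = y * v * y⁻¹ by rw [← e]; group))

theorem permChar_torus (x : stabilizer G c) (hx : (x : G) ∈ A) (hx1 : (x : G) ≠ 1) :
    permChar (stabilizer G c) (InvolAt H c) x = 0 := by
  rw [permChar, Nat.cast_eq_zero, Nat.card_eq_zero]
  left
  exact ⟨fun i => hx1 (h.eq_one_of_fix hx i.1.2.1 i.1.2.2 ((involAt_smul_eq_iff x i.1).1 i.2))⟩

theorem permChar_outside (x : stabilizer G c) (hx : (x : G) ∈ stabilizer G c ⊓ stabilizer G a)
    (hxA : (x : G) ∉ A) : permChar (stabilizer G c) (InvolAt H c) x = 1 := by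
  obtain ⟨i, hi, hu⟩ := h.existsUnique_fixed hx hxA
  rw [permChar, Nat.cast_eq_one, Nat.card_eq_one_iff_unique]
  exact ⟨⟨fun p q => Subtype.ext ((hu _ ((involAt_smul_eq_iff x p.1).1 p.2)).trans
    (hu _ ((involAt_smul_eq_iff x q.1).1 q.2)).symm)⟩, ⟨⟨i, (involAt_smul_eq_iff x i).2 hi⟩⟩⟩

theorem permChar_central (x : stabilizer G c) (hx : (x : G) = 1 ∨ orderOf (x : G) = 2) :
    permChar (stabilizer G c) (InvolAt H c) x = (invCount H : ℂ) := by
  rw [permChar, show invCount H = Nat.card (InvolAt H c) from (card_fixing h.se c).symm]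
  refine congrArg Nat.cast (Nat.card_congr (Equiv.subtypeUnivEquiv fun i =>
    (involAt_smul_eq_iff x i).2 ?_))
  rcases hx with e | e
  · rw [e]; exact Commute.one_left _
  · exact h.comm c _ _ e i.2.1 (mem_stabilizer_iff.1 x.2) i.2.2

/-- the elements of `D` are `1`, torus elements, or conjugates of elements centralising `v` -/
theorem eq_one_of_commute_torus {x y : G} (hx : x ∈ stabilizer G c ⊓ stabilizer G a) (hxA : x ∉ A)
    (hy : y ∈ A) (hxy : Commute x y) : y = 1 := by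
  obtain ⟨z, hz, hzv, hz1⟩ := h.exists_conj_fixing hx hxA
  refine h.fpf _ (mul_mem (mul_mem (inv_mem (h.le hz)) hx) (h.le hz)) hzv hz1 y hy ?_
  have hzy : Commute z y := congrArg Subtype.val (h.abel ⟨z, hz⟩ ⟨y, hy⟩)
  exact (hzy.inv_left.mul_left hxy).mul_left hzy

/-- an element conjugating a torus element into the pair stabiliser preserves the pair -/
theorem pair_of_conj {g x : G} (hx : x ∈ A) (hx1 : x ≠ 1)
    (hg : g * x * g⁻¹ ∈ stabilizer G c ⊓ stabilizer G a) :
    (g • c = c ∨ g • a = c) ∧ (g • c = a ∨ g • a = a) := by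
  obtain ⟨h1, h2⟩ := mem_inf.1 hg
  have key : ∀ d, (g * x * g⁻¹) • d = d → g • c = d ∨ g • a = d := fun d hd => by
    rw [mul_smul, mul_smul] at hd
    rcases h.eq_or_eq_of_fix hx hx1 (eq_inv_smul_iff.2 hd) with e | e
    · exact Or.inl (inv_smul_eq_iff.1 e).symm
    · exact Or.inr (inv_smul_eq_iff.1 e).symm
  exact ⟨key c (mem_stabilizer_iff.1 h1), key a (mem_stabilizer_iff.1 h2)⟩

theorem centralizer_torus {t : G} (ht : orderOf t = 2) (htc : t • c = a)
    (hinv : ∀ x ∈ A, t * x * t⁻¹ = x⁻¹) {x : G} (hx : x ∈ A) (hx1 : x ≠ 1) :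
    centralizer ({x} : Set G) = A := by
  refine le_antisymm (fun g hg => ?_) fun y hy =>
    mem_centralizer_singleton_iff.2 (congrArg Subtype.val (h.abel ⟨y, hy⟩ ⟨x, hx⟩))
  have hgx : Commute g x := mem_centralizer_singleton_iff.1 hg
  obtain ⟨h1, h2⟩ := h.pair_of_conj hx hx1 (g := g) (by rw [hgx.eq, mul_inv_cancel_right]; exact h.le hx)
  rcases h1 with h1 | h1
  · have hga : g • a = a := h2.resolve_left fun e => h.ne (e.symm.trans h1)
    by_contra hgA
    exact hx1 (h.eq_one_of_commute_torus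
      (mem_inf.2 ⟨mem_stabilizer_iff.2 h1, mem_stabilizer_iff.2 hga⟩) hgA hx hgx)
  -- `t g` is in `D` and inverts `x`
  exfalso
  have hgc : g • c = a := h2.resolve_right fun e => h.ne (e.symm.trans h1)
  set d := t * g with hd
  have hdD : d ∈ stabilizer G c ⊓ stabilizer G a := mem_inf.2
    ⟨mem_stabilizer_iff.2 (by rw [hd, mul_smul, hgc, smul_swap ht htc]),
      mem_stabilizer_iff.2 (by rw [hd, mul_smul, h1, htc])⟩
  have hdx : d * x * d⁻¹ = x⁻¹ := by
    rw [hd, show t * g * x * (t * g)⁻¹ = t * (g * x * g⁻¹) * t⁻¹ by group, hgx.eq, mul_inv_cancel_right,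
      hinv x hx]
  have hodd := odd_stabilizer_inf h.se h.ne.symm
  have hd2 : d * d ∈ A := by
    by_contra hA
    refine hx1 (h.eq_one_of_commute_torus (mul_mem hdD hdD) hA hx ?_)
    refine mul_inv_eq_iff_eq_mul.1 ?_
    rw [show d * d * x * (d * d)⁻¹ = d * (d * x * d⁻¹) * d⁻¹ by group, hdx,
      show d * x⁻¹ * d⁻¹ = (d * x * d⁻¹)⁻¹ by group, hdx, inv_inv]
  have hdA : d ∈ A := by
    obtain ⟨k, hk⟩ := hodd.of_dvd_nat (Subgroup.orderOf_dvd_natCard _ hdD)
    have h3 := pow_mem hd2 (k + 1)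
    rwa [← pow_two, ← pow_mul, show 2 * (k + 1) = orderOf d + 1 by omega, pow_succ, pow_orderOf_eq_one,
      one_mul] at h3
  have hxx : x⁻¹ = x := by
    rw [← hdx, show d * x = x * d from congrArg Subtype.val (h.abel ⟨d, hdA⟩ ⟨x, hx⟩), mul_inv_cancel_right]
  have h4 : orderOf x ∣ 2 := orderOf_dvd_of_pow_eq_one (by
    rw [pow_two]; nth_rewrite 1 [← hxx]; rw [inv_mul_cancel])
  have h5 : Odd (orderOf x) := hodd.of_dvd_nat (Subgroup.orderOf_dvd_natCard _ (h.le hx))
  rcases (Nat.dvd_prime Nat.prime_two).1 h4 with h6 | h6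
  · exact hx1 (orderOf_eq_one_iff.1 h6)
  · rw [h6] at h5; exact absurd h5 (by decide)

theorem card_pair : Nat.card ↥(stabilizer G c ⊓ stabilizer G a) = s * invCount H := by
  rw [← card_centralizer_fixing h.se h.ne.symm h.hv h.hvc, h.cardP]

theorem index_normalizer {t : G} (ht : orderOf t = 2) (htc : t • c = a)
    (hinv : ∀ x ∈ A, t * x * t⁻¹ = x⁻¹) :
    (A.subgroupOf (normalizer (A : Set G))).index = 2 * s := by
  classical
  set N := normalizer (A : Set G) with hN
  have htN : t ∈ N := mem_normalizer_of_maps_to fun x hx => by rw [hinv x hx]; exact inv_mem hx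
  obtain ⟨x, hx, hx1⟩ : ∃ x ∈ A, x ≠ (1 : G) := A.bot_or_exists_ne_one.resolve_left fun e => by
    have h1 := h.card_eq
    rw [e, Subgroup.card_bot] at h1
    have h2 := h.card
    rw [← h1] at h2
    have := Nat.pow_le_pow_right (show 0 < 2 by norm_num) h.hs.two_le
    omega
  have hpair : ∀ g ∈ N, g • c = c ∨ g • c = a := fun g hg => by
    obtain ⟨h1, h2⟩ := h.pair_of_conj hx hx1 (g := g) (h.le ((mem_normalizer_iff.1 hg x).1 hx))
    rcases h1 with h1 | h1
    · exact Or.inl h1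
    · exact Or.inr (h2.resolve_right fun e => h.ne (e.symm.trans h1))
  have horb : orbit N c = {c, a} := by
    ext d
    constructor
    · rintro ⟨g, rfl⟩
      exact hpair g g.2
    · rintro (rfl | rfl)
      · exact mem_orbit_self _
      · exact ⟨⟨t, htN⟩, htc⟩
  have hstab : stabilizer N c = (stabilizer G c ⊓ stabilizer G a).subgroupOf N := by
    ext g
    refine ⟨fun hg => ?_, fun hg => (mem_inf.1 (mem_subgroupOf.1 hg)).1⟩
    have hgc : (g : G) • c = c := hg
    obtain ⟨-, h2⟩ := h.pair_of_conj hx hx1 (g := g) (h.le ((mem_normalizer_iff.1 g.2 x).1 hx))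
    exact mem_subgroupOf.2 (mem_inf.2 ⟨mem_stabilizer_iff.2 hgc,
      mem_stabilizer_iff.2 (h2.resolve_left fun e => h.ne (e.symm.trans hgc))⟩)
  have hcard : Nat.card N = 2 * (s * invCount H) := by
    rw [← Nat.card_congr (orbitProdStabilizerEquivGroup N c), Nat.card_prod, horb, hstab,
      Nat.card_congr (subgroupOfEquivOfLe h.norm).toEquiv, h.card_pair]
    congr 1
    rw [Nat.card_coe_set_eq, Set.ncard_pair h.ne.symm]
  have h2 := Subgroup.card_mul_index (A.subgroupOf N)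
  rw [Nat.card_congr (subgroupOfEquivOfLe le_normalizer).toEquiv, h.card_eq, hcard,
    show 2 * (s * invCount H) = invCount H * (2 * s) by ring] at h2
  exact Nat.eq_of_mul_eq_mul_left (invCount_pos h.se) h2

/-- there is a third coset -/
theorem exists_third : ∃ b : G ⧸ H, b ≠ c ∧ b ≠ a :=
  ⟨v • a, fun e => h.ne (by rw [← smul_swap h.hv e, h.hvc]),
    fun e => h.ne (eq_of_fixed h.se h.hv e h.hvc)⟩

end InvolFrame

end Cfsg.Lib.BenderSE
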