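/-
Step 7 of the regular normal subgroup theorem CLOSED (notes/bender_reg_kill.md): the point
stabiliser is not two-transitive on its involutions.
-/
import Cfsg.Agent.BenderSE.Reg.KillGroup
import Cfsg.Agent.BenderSE.Reg.KillChars
import Cfsg.Agent.BenderSE.Reg.CountPair
import Cfsg.Agent.BenderSE.CommMinimal
import Cfsg.Agent.S0157
import Cfsg.Agent.Chars.Perm

set_option autoImplicit false
set_option linter.unusedSectionVars false
set_option linter.style.haveILetI false

namespace Cfsg.Lib.BenderSE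

open Subgroup MulAction Cfsg.Lib.InvolCalc Cfsg.Lib.StrongEmb
open Cfsg.Lib.Chars
open scoped ComplexConjugate

universe u

variable {G : Type u} [Group G] [Finite G] {H : Subgroup G}

/-- two-transitivity in the form of Mathlib -/
theorem isMultiplyPretransitive_two {K : Type u} [Group K] {X : Type u} [MulAction K X] (x₀ : X)
    (htr : ∀ x, ∃ g : K, g • x₀ = x)
    (hstab : ∀ y z : X, y ≠ x₀ → z ≠ x₀ → ∃ g : K, g • x₀ = x₀ ∧ g • y = z) :
    IsMultiplyPretransitive K X 2 := by
  rw [is_two_pretransitive_iff]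
  intro p q p' q' hpq hpq'
  obtain ⟨g, hg⟩ := htr p
  obtain ⟨g', hg'⟩ := htr p'
  obtain ⟨k, hk, hkq⟩ := hstab (g⁻¹ • q) (g'⁻¹ • q')
    (fun e => hpq (by rw [inv_smul_eq_iff.1 e, hg])) (fun e => hpq' (by rw [inv_smul_eq_iff.1 e, hg']))
  refine ⟨g' * k * g⁻¹, ?_, ?_⟩
  · rw [← hg, mul_smul, mul_smul, inv_smul_smul, hk, hg']
  · rw [mul_smul, mul_smul, hkq, smul_inv_smul]

/-- the trivial function induced from a point stabiliser of a transitive action -/
theorem indFun_one_stabilizer [Fintype G] {Ω : Type u} [MulAction G Ω] [IsPretransitive G Ω] (x : Ω) :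
    Cfsg.indFun (stabilizer G x) (fun _ => (1 : ℂ)) = permChar G Ω := by
  rw [CountPair.indFun_one_eq_permChar]
  funext g
  have hbij : Function.Bijective (ofQuotientStabilizer G x) :=
    ⟨injective_ofQuotientStabilizer G x, fun y => by
      obtain ⟨k, rfl⟩ := exists_smul_eq G x y
      exact ⟨QuotientGroup.mk k, rfl⟩⟩
  refine congrArg Nat.cast (Nat.card_congr ((Equiv.ofBijective _ hbij).subtypeEquiv fun q => ?_))
  show g • q = q ↔ g • ofQuotientStabilizer G x q = ofQuotientStabilizer G x q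
  rw [← ofQuotientStabilizer_smul]
  exact hbij.1.eq_iff.symm

/-- the involutions, counted by centre -/
theorem card_involutions_all (hH : Cfsg.IsStronglyEmbedded H) :
    Nat.card {i : G // orderOf i = 2} = Nat.card (G ⧸ H) * invCount H := by
  classical
  haveI := Fintype.ofFinite (G ⧸ H)
  have e : {i : G // orderOf i = 2} ≃ Σ x : G ⧸ H, {i : G // orderOf i = 2 ∧ i • x = x} :=
    { toFun := fun i => ⟨(exists_centre hH i.2).choose, i.1, i.2, (exists_centre hH i.2).choose_spec⟩
      invFun := fun p => ⟨p.2.1, p.2.2.1⟩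
      left_inv := fun i => rfl
      right_inv := fun ⟨x, i, hi, hix⟩ => by
        have hx : (exists_centre hH hi).choose = x :=
          eq_of_fixed hH hi (exists_centre hH hi).choose_spec hix
        exact Sigma.subtype_ext hx rfl }
  rw [Nat.card_congr e, Nat.card_sigma, Finset.sum_congr rfl fun x _ => card_fixing hH x,
    Finset.sum_const, smul_eq_mul, Finset.card_univ, ← Nat.card_eq_fintype_card]
  rfl

namespace InvolFrame

variable {c a : G ⧸ H} {A : Subgroup G} {v : G} {s : ℕ}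
variable (h : InvolFrame H c a A v s)
include h

/-- the pairs of involutions with product `x` in `G_c` -/
theorem pairCount_eq (htt : TwoTransitive H) {t : G} (ht : orderOf t = 2) (htc : t • c = a)
    (hinv : ∀ x ∈ A, t * x * t⁻¹ = x⁻¹)
    {x : G} (hxc : x • c = c) :
    (x = 1 → CountPair.pairCount v x = Nat.card (G ⧸ H) * invCount H) ∧
    (orderOf x = 2 → CountPair.pairCount v x = invCount H - 1) ∧
    (x ≠ 1 → x ∈ A → CountPair.pairCount v x = invCount H) ∧
    (x ≠ 1 → orderOf x ≠ 2 → (∀ g : G, g • c = c → g⁻¹ * x * g ∉ A) →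
      CountPair.pairCount v x = 0) := by
  classical
  have hconj : ∀ i : G, IsConj v i ↔ orderOf i = 2 := fun i =>
    ⟨fun e => by obtain ⟨g, rfl⟩ := isConj_iff.1 e; rw [orderOf_conj', h.hv],
      fun e => all_conj h.se h.hv e⟩
  -- pairs are the involutions `u` with `u x` an involution
  have hpc : CountPair.pairCount v x = Nat.card {u : G // orderOf u = 2 ∧ orderOf (u * x) = 2} := by
    refine Nat.card_congr
      { toFun := fun p => ⟨p.1.1, (hconj _).1 p.2.1, by
          rw [show p.1.1 * x = p.1.2 from (congrArg (p.1.1 * ·) p.2.2.2.symm).trans (by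
            show p.1.1 * (p.1.1 * p.1.2) = p.1.2
            rw [← mul_assoc, sq_of_order_two ((hconj _).1 p.2.1), one_mul])]
          exact (hconj _).1 p.2.2.1⟩
        invFun := fun u => ⟨(u.1, u.1 * x), (hconj _).2 u.2.1, (hconj _).2 u.2.2, by
          rw [← mul_assoc, sq_of_order_two u.2.1, one_mul]⟩
        left_inv := fun p => Subtype.ext (Prod.ext rfl ?_)
        right_inv := fun u => rfl }
    show p.1.1 * x = p.1.2
    refine (congrArg (p.1.1 * ·) p.2.2.2.symm).trans ?_
    show p.1.1 * (p.1.1 * p.1.2) = p.1.2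
    rw [← mul_assoc, sq_of_order_two ((hconj _).1 p.2.1), one_mul]
  have hinverts : ∀ u : G, orderOf u = 2 → orderOf (u * x) = 2 → u * x * u⁻¹ = x⁻¹ := fun u hu hux => by
    rw [inv_of_order_two hu]
    refine eq_inv_of_mul_eq_one_left ?_
    rw [mul_assoc, sq_of_order_two hux]
  have hinU : ∀ u : G, orderOf u = 2 → orderOf (u * x) = 2 → u • c = c → x = 1 ∨ orderOf x = 2 := by
    intro u hu hux huc
    have h1 : Commute u (u * x) := h.comm c u (u * x) hu hux huc (by rw [mul_smul, hxc, huc])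
    by_cases hx1 : x = 1
    · exact Or.inl hx1
    refine Or.inr (order_two_of_mul_self ?_ hx1)
    have h2 : u * x = x * u := by
      have h3 : u * (u * x) = (u * x) * u := h1.eq
      rw [← mul_assoc, sq_of_order_two hu, one_mul] at h3
      calc u * x = u * (u * x * u) := by rw [← h3]
        _ = (u * u) * x * u := by group
        _ = x * u := by rw [sq_of_order_two hu, one_mul]
    calc x * x = (u * u) * (x * x) := by rw [sq_of_order_two hu, one_mul]
      _ = u * (u * x) * x := by group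
      _ = u * (x * u) * x := by rw [h2]
      _ = (u * x) * (u * x) := by group
      _ = 1 := sq_of_order_two hux
  refine ⟨?_, ?_, ?_, ?_⟩
  · rintro rfl
    rw [hpc, ← card_involutions_all h.se]
    exact Nat.card_congr (Equiv.subtypeEquivRight fun u => by rw [mul_one]; exact and_self_iff)
  · intro hx2
    rw [hpc, show invCount H = Nat.card {i : G // orderOf i = 2 ∧ i • c = c} from (card_fixing h.se c).symm]
    have e : {u : G // orderOf u = 2 ∧ orderOf (u * x) = 2} ≃ {i : InvolAt H c // i ≠ ⟨x, hx2, hxc⟩} :=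
      { toFun := fun u => ⟨⟨u.1, u.2.1, by
          have h1 := hinverts u.1 u.2.1 u.2.2
          rw [inv_of_order_two hx2] at h1
          exact fix_centre_of_commute h.se hx2 hxc (mul_inv_eq_iff_eq_mul.1 h1)⟩, fun e => by
          have e' : u.1 = x := congrArg Subtype.val e
          have h2 := u.2.2
          rw [e', sq_of_order_two hx2, orderOf_one] at h2
          exact absurd h2 (by norm_num)⟩
        invFun := fun i => ⟨i.1.1, i.1.2.1, order_two_of_mul_self (by
            have h1 := h.comm c _ _ i.1.2.1 hx2 i.1.2.2 hxc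
            rw [show i.1.1 * x * (i.1.1 * x) = i.1.1 * (x * i.1.1) * x by group, ← h1.eq,
              show i.1.1 * (i.1.1 * x) * x = (i.1.1 * i.1.1) * (x * x) by group,
              sq_of_order_two i.1.2.1, sq_of_order_two hx2, one_mul]) fun e => i.2 (Subtype.ext (by
            show i.1.1 = x
            rw [eq_inv_of_mul_eq_one_left e, inv_of_order_two hx2]))⟩
        left_inv := fun u => rfl
        right_inv := fun i => rfl }
    haveI := Fintype.ofFinite (InvolAt H c)
    rw [Nat.card_congr e, Nat.card_eq_fintype_card, Fintype.card_subtype_compl,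
      Fintype.card_subtype_eq, ← Nat.card_eq_fintype_card]
  · intro hx1 hxA
    rw [hpc, ← h.card_eq]
    have hxodd : orderOf x ≠ 2 := fun e =>
      not_involution_pair h.se h.ne.symm hxc (mem_stabilizer_iff.1 (mem_inf.1 (h.le hxA)).2) e
    have key : ∀ u : G, orderOf u = 2 → orderOf (u * x) = 2 → t * u ∈ A := by
      intro u hu hux
      have hux' := hinverts u hu hux
      obtain ⟨h1, h2⟩ := h.pair_of_conj hxA hx1 (g := u) (by rw [hux']; exact inv_mem (h.le hxA))
      rcases h1 with h1 | h1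
      · exact absurd (hinU u hu hux h1) (not_or_intro hx1 hxodd)
      have huc : u • c = a := h2.resolve_right fun e => h.ne (e.symm.trans h1)
      set d := t * u with hd
      have hdD : d ∈ stabilizer G c ⊓ stabilizer G a := mem_inf.2
        ⟨mem_stabilizer_iff.2 (by rw [hd, mul_smul, huc, smul_swap ht htc]),
          mem_stabilizer_iff.2 (by rw [hd, mul_smul, h1, htc])⟩
      by_contra hdA
      refine hx1 (h.eq_one_of_commute_torus hdD hdA hxA (mul_inv_eq_iff_eq_mul.1 ?_))
      rw [hd, show t * u * x * (t * u)⁻¹ = t * (u * x * u⁻¹) * t⁻¹ by group, hux',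
        hinv _ (inv_mem hxA), inv_inv]
    refine Nat.card_congr
      { toFun := fun u => ⟨t * u.1, key u.1 u.2.1 u.2.2⟩
        invFun := fun y => ⟨t * y.1, ?_, ?_⟩
        left_inv := fun u => Subtype.ext (by
          show t * (t * u.1) = u.1
          rw [← mul_assoc, sq_of_order_two ht, one_mul])
        right_inv := fun y => Subtype.ext (by
          show t * (t * y.1) = y.1
          rw [← mul_assoc, sq_of_order_two ht, one_mul]) }
    all_goals
      have hty : ∀ y ∈ A, orderOf (t * y) = 2 := fun y hy => order_two_of_mul_self (by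
        have h5 := hinv y hy
        rw [inv_of_order_two ht] at h5
        rw [show t * y * (t * y) = t * y * t * y by group, h5, inv_mul_cancel]) fun e => by
        have h1 : t ∈ A := by rw [eq_inv_of_mul_eq_one_left e]; exact inv_mem hy
        exact not_involution_pair h.se h.ne.symm (mem_stabilizer_iff.1 (mem_inf.1 (h.le h1)).1)
          (mem_stabilizer_iff.1 (mem_inf.1 (h.le h1)).2) ht
    · exact hty y.1 y.2
    · rw [mul_assoc]; exact hty _ (mul_mem y.2 hxA)
  · intro hx1 hx2 hnA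
    rw [hpc, Nat.card_eq_zero]
    left
    refine ⟨fun ⟨u, hu, hux⟩ => ?_⟩
    by_cases huc : u • c = c
    · exact (hinU u hu hux huc).elim hx1 hx2
    -- move `u • c` to `a`
    have hux' := hinverts u hu hux
    have hxuc : x • (u • c) = u • c := by
      have h1 : u * x = x⁻¹ * u := mul_inv_eq_iff_eq_mul.1 hux'
      have h2 : x⁻¹ • (u • c) = u • c := by rw [smul_smul, ← h1, mul_smul, hxc]
      rwa [inv_smul_eq_iff, eq_comm] at h2
    obtain ⟨g, hgc, hga⟩ := htt c a (u • c) h.ne huc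
    have hx'D : g⁻¹ * x * g ∈ stabilizer G c ⊓ stabilizer G a := mem_inf.2
      ⟨mem_stabilizer_iff.2 (by rw [mul_smul, mul_smul, hgc, hxc, inv_smul_eq_iff, hgc]),
        mem_stabilizer_iff.2 (by rw [mul_smul, mul_smul, hga, hxuc, inv_smul_eq_iff, hga])⟩
    obtain ⟨y, hy, hyv, -⟩ := h.exists_conj_fixing hx'D (hnA g hgc)
    have hi : Commute x (g * y * v * (g * y)⁻¹) := by
      have h1 := hyv.map (MulAut.conj (g * y)).toMonoidHom
      simpa [MulAut.conj_apply, mul_assoc] using h1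
    exact not_commute_of_inverted h.se h.nobad huc hu hxc hxuc hx1 hux' (by rw [orderOf_conj', h.hv]) hi

/-- STEP 7 CLOSED: no two-transitivity on the involutions at the point -/
theorem false_of_two_transitive (htt : TwoTransitive H) (hs2 : s ≠ 2) {t : G} (ht : orderOf t = 2)
    (htc : t • c = a) (hinv : ∀ x ∈ A, t * x * t⁻¹ = x⁻¹)
    (htrans : ∀ i j : InvolAt H c, i ≠ h.pt → j ≠ h.pt →
      ∃ g : stabilizer G c, g • h.pt = h.pt ∧ g • i = j) : False := by
  classical
  haveI := Fintype.ofFinite G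
  set Hc := stabilizer G c with hHc
  set D := stabilizer G c ⊓ stabilizer G a with hD
  set D' := D.subgroupOf Hc with hD'
  haveI := Fintype.ofFinite Hc
  haveI := Fintype.ofFinite D
  haveI := Fintype.ofFinite D'
  haveI := Fintype.ofFinite (InvolAt H c)
  set m := invCount H with hm
  set n := Nat.card (G ⧸ H) with hn
  have hs3 : 3 ≤ s := by have := h.hs.two_le; omega
  have h2s : 2 ^ 3 ≤ 2 ^ s := Nat.pow_le_pow_right (by norm_num) hs3
  have hcount : m + 1 = 2 ^ s := h.card
  have hm7 : 7 ≤ m := by omega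
  have hInv : Nat.card (InvolAt H c) = m := card_fixing h.se c
  have hDle : D ≤ Hc := inf_le_left
  have hDcard : Nat.card D = s * m := h.card_pair
  have hmC : (m : ℂ) ≠ 0 := Nat.cast_ne_zero.2 (by omega)
  have hsC : (s : ℂ) ≠ 0 := Nat.cast_ne_zero.2 (by omega)
  -- actions
  have htr0 : ∀ x : InvolAt H c, ∃ g : Hc, g • h.pt = x := fun x => by
    obtain ⟨z, hz, -⟩ := h.reg x.1 x.2.1 x.2.2
    exact ⟨⟨z, hDle (h.le z.2)⟩, Subtype.ext hz⟩
  haveI hpre : IsPretransitive Hc (InvolAt H c) := ⟨fun x y => by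
    obtain ⟨g, rfl⟩ := htr0 x
    obtain ⟨g', rfl⟩ := htr0 y
    exact ⟨g' * g⁻¹, by rw [mul_smul, inv_smul_smul]⟩⟩
  haveI htwo : IsMultiplyPretransitive Hc (InvolAt H c) 2 := isMultiplyPretransitive_two h.pt htr0 htrans
  haveI htwoG : IsMultiplyPretransitive G (G ⧸ H) 2 := isMultiplyPretransitive_two c
    (fun x => exists_smul_eq G c x) (fun y z hy hz => htt c y z hy hz)
  -- the character θ
  set θ : Hc → ℂ := fun x => permChar Hc (InvolAt H c) x - 1 with hθdef
  have hθirr : Cfsg.IsIrrCharacter Hc θ :=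
    (Cfsg.Agent.S0157.result (InvolAt H c) (by rw [hInv]; omega)).2 htwo
  have hθcl : Cfsg.IsClassFunction Hc θ := isClassFunction_isChar (isCharacter_of_irr hθirr)
  have hπ1 : Cfsg.classInner (permChar Hc (InvolAt H c)) (fun _ => 1) = 1 := by
    rw [classInner_permChar_one]
    haveI : Subsingleton (orbitRel.Quotient Hc (InvolAt H c)) := ⟨fun p q => Quotient.inductionOn₂ p q
      fun x y => by obtain ⟨g, hg⟩ := exists_smul_eq Hc y x; exact Quotient.sound ⟨g, hg⟩⟩
    haveI : Nonempty (orbitRel.Quotient Hc (InvolAt H c)) := ⟨Quotient.mk _ h.pt⟩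
    rw [Nat.card_eq_one_iff_unique.2 ⟨inferInstance, inferInstance⟩, Nat.cast_one]
  have hθ1 : Cfsg.classInner θ (fun _ => 1) = 0 := by
    rw [show θ = permChar Hc (InvolAt H c) - (fun _ => 1) from rfl, classInner_sub_left, hπ1,
      classInner_self_irr isIrrCharacter_one, sub_self]
  have hval0 : ∀ x : Hc, ((x : G) = 1 ∨ orderOf (x : G) = 2) → θ x = (m : ℂ) - 1 := fun x hx => by
    show permChar Hc (InvolAt H c) x - 1 = _
    rw [h.permChar_central x hx]
  have hvalA : ∀ x : Hc, (x : G) ∈ A → (x : G) ≠ 1 → θ x = -1 := fun x hx hx1 => by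
    show permChar Hc (InvolAt H c) x - 1 = _
    rw [h.permChar_torus x hx hx1, zero_sub]
  have hvalD : ∀ x : Hc, (x : G) ∈ D → (x : G) ∉ A → θ x = 0 := fun x hx hxA => by
    show permChar Hc (InvolAt H c) x - 1 = _
    rw [h.permChar_outside x hx hxA, sub_self]
  -- sums over the pair stabiliser
  set f : D → ℂ := fun x => θ ⟨x, hDle x.2⟩ with hf
  have hsumD : ∀ F : D → ℂ, (∀ x : D, (x : G) ∉ A → F x = 0) → ∀ w : ℂ,
      (∀ x : D, (x : G) ∈ A → (x : G) ≠ 1 → F x = w) → ∑ x, F x = F 1 + ((m : ℂ) - 1) * w := by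
    intro F h0 w hw
    rw [← Finset.add_sum_erase Finset.univ F (Finset.mem_univ 1)]
    congr 1
    set S := (Finset.univ.erase (1 : D)).filter fun x : D => (x : G) ∈ A with hS
    rw [← Finset.sum_subset (Finset.filter_subset (fun x : D => (x : G) ∈ A) _) (fun x hx hx' =>
      h0 x fun e => hx' (Finset.mem_filter.2 ⟨hx, e⟩)), Finset.sum_congr rfl (g := fun _ => w) (fun x hx => by
        obtain ⟨hx', hxA⟩ := Finset.mem_filter.1 hx
        exact hw x hxA fun e => (Finset.mem_erase.1 hx').1 (Subtype.ext e)), Finset.sum_const, nsmul_eq_mul]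
    congr 1
    have hSc : S.card + 1 = m := by
      rw [show m = Nat.card A from h.card_eq.symm, ← Finset.card_insert_of_notMem (show (1 : D) ∉ S from fun e =>
        (Finset.mem_erase.1 (Finset.mem_filter.1 e).1).1 rfl),
        show insert (1 : D) S = Finset.univ.filter fun x : D => (x : G) ∈ A by
          ext x
          by_cases hx : x = 1
          · simp [hx]
          · simp [hS, hx], ← Fintype.card_subtype, ← Nat.card_eq_fintype_card]
      exact Nat.card_congr
        { toFun := fun p => ⟨p.1.1, p.2⟩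
          invFun := fun p => ⟨⟨p.1, h.le p.2⟩, p.2⟩
          left_inv := fun p => rfl
          right_inv := fun p => rfl }
    rw [eq_sub_iff_add_eq]
    exact_mod_cast hSc
  have hf1 : f 1 = (m : ℂ) - 1 := hval0 _ (Or.inl rfl)
  have hDC : (Nat.card D : ℂ) = (s : ℂ) * m := by rw [hDcard]; push_cast; rfl
  have hfone : Cfsg.classInner f (fun _ => 1) = 0 := by
    rw [classInner_def]
    simp only [map_one, mul_one]
    rw [hsumD f (fun x hx => hvalD _ x.2 hx) (-1) (fun x hx hx1 => hvalA _ hx hx1), hf1]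
    ring
  -- the torus class in `G_c`
  set φ : Hc → ℂ := Cfsg.indFun D' (fun x => if ((x : Hc) : G) ∈ A ∧ ((x : Hc) : G) ≠ 1 then 1 else 0)
    with hφ
  have hφ0 : ∀ x : Hc, (∀ g : G, g • c = c → g⁻¹ * (x : G) * g ∈ A → (x : G) = 1) → φ x = 0 := by
    intro x hx
    rw [hφ, indFun_apply, Finset.sum_eq_zero (fun g _ => ?_), mul_zero]
    by_cases hg : g⁻¹ * x * g ∈ D'
    · rw [extendByZero_mem _ hg, if_neg]
      rintro ⟨h1, h2⟩
      refine h2 ?_
      have h3 := hx (g : G) (mem_stabilizer_iff.1 g.2) h1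
      show (g : G)⁻¹ * (x : G) * (g : G) = 1
      rw [h3]; group
    · exact extendByZero_not_mem _ hg
  have hφ1 : ∀ x : Hc, (∃ g : G, g • c = c ∧ g⁻¹ * (x : G) * g ∈ A ∧ (x : G) ≠ 1) → φ x = 1 := by
    rintro x ⟨g₀, hg₀, hgA, hx1⟩
    set y := g₀⁻¹ * (x : G) * g₀ with hy
    have hy1 : y ≠ 1 := fun e => hx1 (by
      rw [show (x : G) = g₀ * y * g₀⁻¹ by rw [hy]; group, e, mul_one, mul_inv_cancel])
    have key : ∀ g : Hc, (∃ hg : g⁻¹ * x * g ∈ D', ((((⟨_, hg⟩ : D') : Hc) : G) ∈ A ∧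
        (((⟨_, hg⟩ : D') : Hc) : G) ≠ 1)) ↔ g₀⁻¹ * (g : G) ∈ D := by
      intro g
      have hgc : (g : G) • c = c := mem_stabilizer_iff.1 g.2
      constructor
      · rintro ⟨hg, h1, h2⟩
        have h1' : (g : G)⁻¹ * x * g ∈ A := h1
        have h2' : (g : G)⁻¹ * x * g ≠ 1 := h2
        set d := g₀⁻¹ * (g : G) with hd
        have hdy : d * ((g : G)⁻¹ * x * g) * d⁻¹ = y := by rw [hd, hy]; group
        obtain ⟨-, h4⟩ := h.pair_of_conj h1' h2' (g := d) (by rw [hdy]; exact h.le hgA)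
        have hdc : d • c = c := by rw [hd, mul_smul, hgc, inv_smul_eq_iff, hg₀]
        exact mem_inf.2 ⟨mem_stabilizer_iff.2 hdc,
          mem_stabilizer_iff.2 (h4.resolve_left fun e => h.ne (e.symm.trans hdc))⟩
      · intro hd
        have h1 : (g : G)⁻¹ * x * g ∈ A := by
          rw [show (g : G)⁻¹ * x * g = (g₀⁻¹ * g)⁻¹ * y * (g₀⁻¹ * g) by rw [hy]; group]
          exact (mem_normalizer_iff''.1 (h.norm hd) y).1 hgA
        exact ⟨mem_subgroupOf.2 (h.le h1), h1, fun e => hx1 (by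
          have e' : (g : G)⁻¹ * x * g = 1 := e
          calc (x : G) = g * ((g : G)⁻¹ * x * g) * (g : G)⁻¹ := by group
            _ = 1 := by rw [e', mul_one, mul_inv_cancel])⟩
    rw [hφ, indFun_apply, Finset.sum_congr rfl (g := fun g : Hc => if g₀⁻¹ * (g : G) ∈ D then (1 : ℂ) else 0)
      (fun g _ => ?_), Finset.sum_boole, ← Fintype.card_subtype, ← Nat.card_eq_fintype_card]
    · have e : Nat.card {g : Hc // g₀⁻¹ * (g : G) ∈ D} = Nat.card D' := by
        refine Nat.card_congr ((Equiv.mulLeft (⟨g₀, mem_stabilizer_iff.2 hg₀⟩ : Hc)⁻¹).subtypeEquiv fun g => ?_)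
        rw [hD', mem_subgroupOf]
        rfl
      rw [e, inv_mul_cancel₀ (Nat.cast_ne_zero.2 Nat.card_pos.ne')]
    · split_ifs with hd
      · obtain ⟨hg, h1⟩ := (key g).2 hd
        rw [extendByZero_mem _ hg, if_pos h1]
      · by_cases hg : g⁻¹ * x * g ∈ D'
        · rw [extendByZero_mem _ hg, if_neg fun h1 => hd ((key g).1 ⟨hg, h1⟩)]
        · exact extendByZero_not_mem _ hg
  have hpair : ∀ x : Hc, (CountPair.pairCount v (x : G) : ℂ) =
      (if (x : G) = 1 then (n : ℂ) * m else 0) + (if orderOf (x : G) = 2 then (m : ℂ) - 1 else 0) +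
        (m : ℂ) * φ x := by
    intro x
    have hxc : (x : G) • c = c := mem_stabilizer_iff.1 x.2
    obtain ⟨p1, p2, p3, p4⟩ := h.pairCount_eq htt ht htc hinv hxc
    by_cases hx1 : (x : G) = 1
    · rw [p1 hx1, hφ0 x (fun _ _ _ => hx1), if_pos hx1, if_neg (by rw [hx1, orderOf_one]; norm_num)]
      push_cast; ring
    by_cases hx2 : orderOf (x : G) = 2
    · rw [p2 hx2, hφ0 x ?_, if_neg hx1, if_pos hx2, Nat.cast_sub (by omega)]
      · push_cast; ring
      intro g hg hgA
      exfalso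
      have h2 : orderOf (g⁻¹ * (x : G) * g) = 2 := by
        rw [show g⁻¹ * (x : G) * g = g⁻¹ * (x : G) * g⁻¹⁻¹ by rw [inv_inv], orderOf_conj', hx2]
      exact not_involution_pair h.se h.ne.symm (mem_stabilizer_iff.1 (mem_inf.1 (h.le hgA)).1)
        (mem_stabilizer_iff.1 (mem_inf.1 (h.le hgA)).2) h2
    by_cases hT : ∃ g : G, g • c = c ∧ g⁻¹ * (x : G) * g ∈ A
    · obtain ⟨g, hg, hgA⟩ := hT
      rw [hφ1 x ⟨g, hg, hgA, hx1⟩, if_neg hx1, if_neg hx2]
      set y := g⁻¹ * (x : G) * g with hy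
      have hy1 : y ≠ 1 := fun e => hx1 (by
        rw [show (x : G) = g * y * g⁻¹ by rw [hy]; group, e, mul_one, mul_inv_cancel])
      obtain ⟨-, -, q3, -⟩ := h.pairCount_eq htt ht htc hinv
        (x := y) (mem_stabilizer_iff.1 (mem_inf.1 (h.le hgA)).1)
      rw [show (x : G) = g * y * g⁻¹ by rw [hy]; group, CountPair.pairCount_conj, q3 hy1 hgA]
      ring
    · push Not at hT
      rw [p4 hx1 hx2 hT, hφ0 x (fun g hg hgA => absurd hgA (hT g hg)), if_neg hx1, if_neg hx2]
      simp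
  -- orders
  have horbH : orbit Hc a = {d : G ⧸ H | d ≠ c} := by
    ext d
    constructor
    · rintro ⟨g, rfl⟩ e
      exact h.ne (smul_left_cancel (g : G) ((show (g : G) • a = c from e).trans
        (mem_stabilizer_iff.1 g.2).symm))
    · intro hd
      obtain ⟨g, hg, hga⟩ := htt c a d h.ne hd
      exact ⟨⟨g, mem_stabilizer_iff.2 hg⟩, hga⟩
  have hstabH : Nat.card (stabilizer Hc a) = Nat.card D :=
    Nat.card_congr
      { toFun := fun p => ⟨((p : Hc) : G), mem_inf.2 ⟨(p : Hc).2, p.2⟩⟩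
        invFun := fun q => ⟨⟨q, (mem_inf.1 q.2).1⟩, (mem_inf.1 q.2).2⟩
        left_inv := fun _ => rfl
        right_inv := fun _ => rfl }
  have hn3 : 3 ≤ n := by
    obtain ⟨b, hbc, hba⟩ := h.exists_third
    haveI := Fintype.ofFinite (G ⧸ H)
    rw [hn, Nat.card_eq_fintype_card]
    refine le_trans (le_of_eq ?_) (Finset.card_le_univ ({c, a, b} : Finset (G ⧸ H)))
    rw [Finset.card_insert_of_notMem (by simp [h.ne.symm, hbc.symm]), Finset.card_pair hba.symm]
  have hHcard : Nat.card Hc = (n - 1) * (s * m) := by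
    haveI := Fintype.ofFinite (G ⧸ H)
    rw [← Nat.card_congr (orbitProdStabilizerEquivGroup Hc a), Nat.card_prod, horbH, hstabH, hDcard]
    congr 1
    show Nat.card {d : G ⧸ H // d ≠ c} = n - 1
    rw [Nat.card_eq_fintype_card, Fintype.card_subtype_compl, Fintype.card_subtype_eq,
      ← Nat.card_eq_fintype_card]
  have hGcard : Nat.card G = n * Nat.card Hc := by
    rw [← Nat.card_congr (orbitProdStabilizerEquivGroup G c), Nat.card_prod, orbit_eq_univ,
      Nat.card_congr (Equiv.Set.univ _)]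
  have hnC : (n : ℂ) ≠ 0 := Nat.cast_ne_zero.2 (by omega)
  have hn1C : (n : ℂ) - 1 ≠ 0 := by
    rw [sub_ne_zero]; exact_mod_cast (show n ≠ 1 by omega)
  have hHcC : (Nat.card Hc : ℂ) = ((n : ℂ) - 1) * (s * m) := by
    rw [hHcard, Nat.cast_mul, Nat.cast_mul, Nat.cast_sub (by omega), Nat.cast_one]
  -- `⟨θ, pairCount⟩`
  have hθφ : Cfsg.classInner θ φ = -(((m : ℂ) - 1) / (s * m)) := by
    rw [← classInner_conj_symm, hφ, frobenius_reciprocity D' _ hθcl, classInner_def,
      Nat.card_congr (subgroupOfEquivOfLe hDle).toEquiv, hDC]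
    have e : ∑ x : D', (if ((x : Hc) : G) ∈ A ∧ ((x : Hc) : G) ≠ 1 then (1 : ℂ) else 0) * conj (θ (x : Hc)) =
        ∑ y : D, (if (y : G) ∈ A ∧ (y : G) ≠ 1 then (1 : ℂ) else 0) * conj (f y) :=
      Fintype.sum_equiv (subgroupOfEquivOfLe hDle).toEquiv _ _ fun x => rfl
    rw [e, hsumD _ (fun x hx => by rw [if_neg (fun e => hx e.1), zero_mul]) (-1) (fun x hx hx1 => by
      rw [if_pos ⟨hx, hx1⟩, one_mul, show f x = θ ⟨x, hDle x.2⟩ from rfl, hvalA _ hx hx1, map_neg, map_one]),
      if_neg (fun e => e.2 rfl), zero_mul, zero_add, map_mul, map_mul, map_inv₀, map_mul, map_sub,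
      Complex.conj_natCast, Complex.conj_natCast, map_one, map_neg, map_one]
    field_simp
  have hθa : Cfsg.classInner θ (fun x : Hc => (CountPair.pairCount v (x : G) : ℂ)) =
      ((m : ℂ) - 1) * m / (s * ((n : ℂ) - 1)) := by
    have e1 : ∑ x : Hc, θ x * conj (if (x : G) = 1 then (n : ℂ) * m else 0) = ((m : ℂ) - 1) * (n * m) := by
      rw [Finset.sum_eq_single (1 : Hc)]
      · rw [if_pos (show ((1 : Hc) : G) = 1 from rfl), hval0 1 (Or.inl rfl), map_mul, Complex.conj_natCast,
          Complex.conj_natCast]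
      · intro x _ hx
        rw [if_neg (show ¬ ((x : G) = 1) from fun e => hx (Subtype.ext e)), map_zero, mul_zero]
      · simp
    have e2 : ∑ x : Hc, θ x * conj (if orderOf (x : G) = 2 then (m : ℂ) - 1 else 0) =
        (m : ℂ) * (((m : ℂ) - 1) * ((m : ℂ) - 1)) := by
      rw [Finset.sum_congr rfl (g := fun x : Hc => if orderOf (x : G) = 2 then ((m : ℂ) - 1) * ((m : ℂ) - 1) else 0)
        (fun x _ => by
          split_ifs with hx
          · rw [hval0 x (Or.inr hx), map_sub, map_one, Complex.conj_natCast]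
          · rw [map_zero, mul_zero]), ← Finset.sum_filter, Finset.sum_const, nsmul_eq_mul,
        ← Fintype.card_subtype, ← Nat.card_eq_fintype_card]
      congr 2
      rw [← hInv]
      exact congrArg Nat.cast (Nat.card_congr
        { toFun := fun p => ⟨((p : Hc) : G), p.2, mem_stabilizer_iff.1 (p : Hc).2⟩
          invFun := fun i => ⟨⟨i.1, mem_stabilizer_iff.2 i.2.2⟩, i.2.1⟩
          left_inv := fun _ => rfl
          right_inv := fun _ => rfl })
    have e3 : ∑ x : Hc, θ x * conj ((m : ℂ) * φ x) = (m : ℂ) * ((Nat.card Hc : ℂ) * Cfsg.classInner θ φ) := by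
      rw [classInner_def, ← mul_assoc (Nat.card Hc : ℂ), mul_inv_cancel₀ (Nat.cast_ne_zero.2 Nat.card_pos.ne'),
        one_mul, Finset.mul_sum]
      exact Finset.sum_congr rfl fun x _ => by rw [map_mul, Complex.conj_natCast]; ring
    rw [classInner_def, Finset.sum_congr rfl fun x _ => by rw [hpair x, map_add, map_add, mul_add, mul_add],
      Finset.sum_add_distrib, Finset.sum_add_distrib, e1, e2, e3, hθφ, hHcC]
    field_simp
    ring
  -- the induced character
  set Θ := Cfsg.indFun Hc θ with hΘdef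
  have hΘ : Cfsg.IsCharacter G Θ := IsCharacter.indFun (isCharacter_of_irr hθirr)
  have hΘv : Θ v = (m : ℂ) - 1 := by
    rw [hΘdef, indFun_apply, Finset.sum_congr rfl (g := fun g : G => if g ∈ Hc then (m : ℂ) - 1 else 0)
      (fun g _ => ?_), ← Finset.sum_filter, Finset.sum_const, nsmul_eq_mul, ← Fintype.card_subtype,
      ← Nat.card_eq_fintype_card, ← mul_assoc, inv_mul_cancel₀ (Nat.cast_ne_zero.2 Nat.card_pos.ne'), one_mul]
    have ho : orderOf (g⁻¹ * v * g) = 2 := by
      rw [show g⁻¹ * v * g = g⁻¹ * v * g⁻¹⁻¹ by rw [inv_inv], orderOf_conj', h.hv]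
    split_ifs with hg
    · have hmem : g⁻¹ * v * g ∈ Hc :=
        mul_mem (mul_mem (inv_mem hg) (mem_stabilizer_iff.2 h.hvc)) hg
      rw [extendByZero_mem _ hmem]
      exact hval0 _ (Or.inr ho)
    · refine extendByZero_not_mem _ fun hmem => hg (mem_stabilizer_iff.2 ?_)
      have h1 := mem_stabilizer_iff.1 hmem
      rw [mul_smul, mul_smul, inv_smul_eq_iff] at h1
      exact eq_of_fixed h.se h.hv h1 h.hvc
  have hΘ1 : Θ 1 = (n : ℂ) * ((m : ℂ) - 1) := by
    have hidx : Hc.index = n := Nat.eq_of_mul_eq_mul_left (Nat.card_pos (α := Hc))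
      (by rw [card_mul_index, hGcard, mul_comm])
    rw [hΘdef, indFun_one, hval0 1 (Or.inl rfl), hidx]
  -- constituents: degree `n` times the value at `v`
  choose ρ hρ using fun χ : Cfsg.IrrCharacter G => IsCharacter.exists_mult hΘ χ.2
  choose z hz using fun χ : Cfsg.IrrCharacter G => Cfsg.FoursCent.exists_int χ h.hv
  have hexp : ∀ g, Θ g = ∑ χ : Cfsg.IrrCharacter G, (ρ χ : ℂ) * (χ : G → ℂ) g := fun g => by
    rw [classFunction_expand_apply (isClassFunction_isChar hΘ) g]
    exact Finset.sum_congr rfl fun χ _ => by rw [hρ χ]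
  have hcls : (CountPair.classSize v : ℂ) = (n : ℂ) * m := by
    rw [← Nat.cast_mul, ← card_involutions_all h.se]
    exact congrArg Nat.cast (Nat.card_congr (Equiv.subtypeEquivRight fun i =>
      ⟨fun e => by obtain ⟨g, rfl⟩ := isConj_iff.1 e; rw [orderOf_conj', h.hv],
        fun e => all_conj h.se h.hv e⟩))
  have hsum : ∑ χ : Cfsg.IrrCharacter G, (ρ χ : ℂ) * ((z χ : ℂ) ^ 2 / deg (χ : G → ℂ)) =
      ((m : ℂ) - 1) / n := by
    have h1 := CountPair.inner_pairCount_indFun Hc θ v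
    rw [hθa, Finset.sum_congr rfl (g := fun χ : Cfsg.IrrCharacter G =>
      (ρ χ : ℂ) * ((z χ : ℂ) ^ 2 / deg (χ : G → ℂ))) (fun χ _ => by
        rw [show Cfsg.classInner θ (fun x : Hc => (χ : G → ℂ) x) = ρ χ from
          (frobenius_reciprocity Hc θ (isClassFunction_irr χ)).symm.trans (hρ χ),
          hz χ, irr_apply_one_eq_deg, pow_two]), hcls, hGcard, Nat.cast_mul, hHcC] at h1
    field_simp at h1 ⊢
    linear_combination -h1
  have hsumR : (∑ χ : Cfsg.IrrCharacter G, (ρ χ : ℝ) * ((z χ : ℝ) ^ 2 / deg (χ : G → ℂ))) =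
      ((m : ℝ) - 1) / n := by
    apply Complex.ofReal_injective
    push_cast
    exact hsum
  have hsumB : (∑ χ : Cfsg.IrrCharacter G, (ρ χ : ℝ) * (z χ : ℝ)) = (m : ℝ) - 1 := by
    apply Complex.ofReal_injective
    push_cast
    rw [← hΘv, hexp v]
    exact Finset.sum_congr rfl fun χ _ => by rw [hz χ]
  have hsumD' : (∑ χ : Cfsg.IrrCharacter G, (ρ χ : ℝ) * (deg (χ : G → ℂ) : ℝ)) = (n : ℝ) * ((m : ℝ) - 1) := by
    apply Complex.ofReal_injective
    push_cast
    rw [← hΘ1, hexp 1]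
    exact Finset.sum_congr rfl fun χ _ => by rw [irr_apply_one_eq_deg]
  have hm1R : (0 : ℝ) < (m : ℝ) - 1 := by
    have : (7 : ℝ) ≤ m := by exact_mod_cast hm7
    linarith
  have hnR : (0 : ℝ) < n := by exact_mod_cast (show 0 < n by omega)
  have hprop : ∀ χ : Cfsg.IrrCharacter G, Cfsg.classInner Θ (χ : G → ℂ) ≠ 0 →
      (χ : G → ℂ) 1 = (n : ℂ) * (χ : G → ℂ) v := by
    intro χ hχ
    have h1 := CountPair.eq_mul_of_sq_eq Finset.univ (ρ := fun χ => (ρ χ : ℝ))
      (b := fun χ => (z χ : ℝ)) (d := fun χ : Cfsg.IrrCharacter G => (deg (χ : G → ℂ) : ℝ))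
      (fun _ _ => Nat.cast_nonneg _) (fun χ _ => by exact_mod_cast deg_irr_pos χ)
      (by rw [hsumD']; positivity) (by rw [hsumB, hsumR, hsumD']; field_simp) χ (Finset.mem_univ _)
      (by rw [hρ χ] at hχ; exact_mod_cast hχ)
    rw [hsumB, hsumD'] at h1
    have h2 : (deg (χ : G → ℂ) : ℝ) = (n : ℝ) * (z χ : ℝ) := by rw [h1]; field_simp
    rw [irr_apply_one_eq_deg, hz χ]
    exact_mod_cast h2
  -- norm
  have htm : t ∉ Hc := fun e => h.ne (htc.symm.trans (mem_stabilizer_iff.1 e))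
  have hdc : ∀ g : G, g ∉ Hc → ∃ x ∈ Hc, ∃ k ∈ Hc, g = x * t * k := by
    intro g hg
    obtain ⟨x, hx, hxa⟩ := htt c a (g • c) h.ne hg
    refine ⟨x, mem_stabilizer_iff.2 hx, t⁻¹ * x⁻¹ * g, mem_stabilizer_iff.2 ?_, by group⟩
    rw [mul_smul, mul_smul, ← hxa, inv_smul_smul, inv_smul_eq_iff, htc]
  have hDmem : ∀ x, x ∈ D ↔ x ∈ Hc ∧ t⁻¹ * x * t ∈ Hc := fun x => by
    rw [hD, mem_inf, ← hHc]
    refine and_congr_right fun _ => ?_
    rw [mem_stabilizer_iff, mem_stabilizer_iff, mul_smul, mul_smul, htc, inv_smul_eq_iff, htc]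
  have htA : ∀ x ∈ A, t⁻¹ * x * t = x⁻¹ := fun x hx => by
    have h1 := hinv x hx
    rw [inv_of_order_two ht] at h1 ⊢
    exact h1
  have hconjA : ∀ x ∈ D, x ∉ A → t⁻¹ * x * t ∉ A := fun x _ hxA e => hxA (by
    have h1 := htA _ e
    rw [inv_of_order_two ht, show t * (t * x * t) * t = (t * t) * x * (t * t) by group,
      sq_of_order_two ht, one_mul, mul_one] at h1
    rw [h1]
    exact inv_mem (by rwa [inv_of_order_two ht] at e))
  have hnorm : (s : ℂ) * Cfsg.classInner Θ Θ = (s : ℂ) + ((m : ℂ) - 1) := by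
    rw [hΘdef, CountPair.classInner_indFun_two Hc htm hdc D hDmem hθcl hθcl,
      classInner_self_irr hθirr, classInner_def, hDC, hsumD _ (fun x hx => by rw [hvalD _ x.2 hx, zero_mul]) 1]
    · have h1 : θ ⟨((1 : D) : G), ((hDmem 1).1 (1 : D).2).1⟩ = (m : ℂ) - 1 := hval0 _ (Or.inl rfl)
      have h2 : θ ⟨t⁻¹ * ((1 : D) : G) * t, ((hDmem 1).1 (1 : D).2).2⟩ = (m : ℂ) - 1 :=
        hval0 _ (Or.inl (show t⁻¹ * ((1 : D) : G) * t = 1 by simp))
      rw [h1, h2, map_sub, map_one, Complex.conj_natCast]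
      field_simp
      ring
    · intro x hx hx1
      rw [hvalA _ hx hx1, hvalA _ (show t⁻¹ * (x : G) * t ∈ A by rw [htA _ hx]; exact inv_mem hx)
        (show t⁻¹ * (x : G) * t ≠ 1 by rw [htA _ hx]; exact inv_ne_one.2 hx1), map_neg, map_one]
      ring
  -- Steinberg
  have hπG : Cfsg.indFun Hc (fun _ => (1 : ℂ)) = permChar G (G ⧸ H) := indFun_one_stabilizer c
  have hperp : Cfsg.classInner Θ (permChar G (G ⧸ H)) = 0 := by
    rw [hΘdef, ← hπG, CountPair.indFun_one_eq_permChar,
      CountPair.classInner_indFun_permChar Hc htm hdc D hDmem hθcl, hθ1, zero_add]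
    exact hfone
  have hperp1 : Cfsg.classInner Θ (fun _ => 1) = 0 := by
    rw [hΘdef, frobenius_reciprocity Hc θ (fun _ _ => rfl)]
    exact hθ1
  let St : Cfsg.IrrCharacter G := ⟨fun g => permChar G (G ⧸ H) g - 1,
    (Cfsg.Agent.S0157.result (G ⧸ H) (by omega)).2 htwoG⟩
  have hperpS : Cfsg.classInner Θ (St : G → ℂ) = 0 := by
    rw [show (St : G → ℂ) = permChar G (G ⧸ H) - (fun _ => 1) from rfl, classInner_sub_right, hperp,
      hperp1, sub_zero]
  have hπA : ∀ x ∈ A, x ≠ 1 → permChar G (G ⧸ H) x = 2 := by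
    intro x hx hx1
    have e : fixedBy (G ⧸ H) x = {c, a} := by
      ext d
      refine ⟨fun hd => h.eq_or_eq_of_fix hx hx1 hd, ?_⟩
      rintro (rfl | rfl)
      · exact mem_stabilizer_iff.1 (mem_inf.1 (h.le hx)).1
      · exact mem_stabilizer_iff.1 (mem_inf.1 (h.le hx)).2
    rw [permChar, e, Nat.card_coe_set_eq, Set.ncard_pair h.ne.symm]
    norm_num
  have hπ1G : permChar G (G ⧸ H) 1 = n := by
    rw [permChar, hn]
    exact congrArg Nat.cast (Nat.card_congr (Equiv.subtypeUnivEquiv fun d => one_smul G d))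
  have hSt : ∀ x ∈ A, x ≠ 1 → (St : G → ℂ) x = 1 := fun x hx hx1 => by
    show permChar G (G ⧸ H) x - 1 = 1
    rw [hπA x hx hx1]; norm_num
  have hSt1 : (St : G → ℂ) ≠ fun _ => 1 := fun e => by
    have h1 : permChar G (G ⧸ H) 1 - 1 = 1 := congrFun e 1
    rw [hπ1G, sub_eq_iff_eq_add] at h1
    norm_num at h1
    have h2 : n = 2 := by exact_mod_cast h1
    omega
  -- `m ∣ n - 2`
  have hn2 : (m : ℤ) ∣ (n : ℤ) - 2 := by
    haveI := Fintype.ofFinite A
    obtain ⟨k, hk⟩ := IsCharacter.exists_mult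
      (IsCharacter.restrict (isCharacter_permChar (G := G) (G ⧸ H)) A) (isIrrCharacter_one (G := A))
    rw [classInner_def, h.card_eq, inv_mul_eq_iff_eq_mul₀ hmC] at hk
    simp only [map_one, mul_one] at hk
    rw [← Finset.add_sum_erase Finset.univ _ (Finset.mem_univ (1 : A)),
      Finset.sum_congr rfl (g := fun _ => (2 : ℂ)) (fun (x : A) hx =>
        hπA x x.2 fun e => (Finset.mem_erase.1 hx).1 (Subtype.ext e)), OneMemClass.coe_one, hπ1G,
      Finset.sum_const, nsmul_eq_mul, Finset.card_erase_of_mem (Finset.mem_univ _), Finset.card_univ,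
      ← Nat.card_eq_fintype_card, h.card_eq] at hk
    have hk' : n + (m - 1) * 2 = m * k := Nat.cast_injective (R := ℂ) (by push_cast; exact hk)
    refine ⟨(k : ℤ) - 2, ?_⟩
    have hk'' : ((n + (m - 1) * 2 : ℕ) : ℤ) = ((m * k : ℕ) : ℤ) := by rw [hk']
    push_cast [Nat.cast_sub (show 1 ≤ m by omega)] at hk''
    linear_combination hk''
  refine RegKill.kill_chars (A := A) (h.hs.odd_of_ne_two hs2) hs3 (m := m) (n := n) (by omega) h.card_eq
    (fun x hx hx1 => h.centralizer_torus ht htc hinv hx hx1) (h.index_normalizer ht htc hinv) hn2 h.hv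
    hΘ hΘv hprop hnorm hSt hSt1 hperp1 hperpS ?_
  -- equal multiplicities
  intro χ χ' hχ1 hχ'1 hχS hχ'S hagree
  have hone0 : ∀ ξ : Cfsg.IrrCharacter G, (ξ : G → ℂ) ≠ (fun _ => 1) → ξ ≠ St →
      Cfsg.classInner (fun _ : Hc => (1 : ℂ)) (fun x : Hc => (ξ : G → ℂ) x) = 0 := by
    intro ξ h1 h2
    rw [← frobenius_reciprocity Hc (fun _ => (1 : ℂ)) (isClassFunction_irr ξ), hπG,
      show permChar G (G ⧸ H) = (St : G → ℂ) + (fun _ => (1 : ℂ)) from
        funext fun g => (sub_add_cancel (permChar G (G ⧸ H) g) 1).symm,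
      classInner_add_left, classInner_irrChar St.2 ξ.2, if_neg (fun e => h2 (Subtype.ext e.symm)),
      classInner_irrChar isIrrCharacter_one ξ.2, if_neg (fun e => h1 e.symm), add_zero]
  have hsplit : ∀ ξ : Cfsg.IrrCharacter G, Cfsg.classInner Θ (ξ : G → ℂ) =
      Cfsg.classInner (permChar Hc (InvolAt H c)) (fun x : Hc => (ξ : G → ℂ) x) -
        Cfsg.classInner (fun _ : Hc => (1 : ℂ)) (fun x : Hc => (ξ : G → ℂ) x) := fun ξ => by
    rw [hΘdef, frobenius_reciprocity Hc θ (isClassFunction_irr ξ), ← classInner_sub_left]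
    rfl
  rw [hsplit χ, hsplit χ', hone0 χ hχ1 hχS, hone0 χ' hχ'1 hχ'S, classInner_def, classInner_def]
  congr 2
  refine Finset.sum_congr rfl fun x _ => ?_
  by_cases hx : ∀ g : G, g⁻¹ * (x : G) * g ∈ A → g⁻¹ * (x : G) * g = 1
  · rw [hagree x hx]
  push Not at hx
  obtain ⟨g, hgA, hg1⟩ := hx
  set y := g⁻¹ * (x : G) * g with hy
  have hxy : (x : G) = g * y * g⁻¹ := by rw [hy]; group
  have hzero : permChar Hc (InvolAt H c) x = 0 := by
    rw [permChar, Nat.cast_eq_zero, Nat.card_eq_zero]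
    left
    refine ⟨fun i => ?_⟩
    have hxi : Commute (x : G) i.1.1 := (involAt_smul_eq_iff x i.1).1 i.2
    have hfx : g • c = c ∨ g • a = c := by
      have h3 : (x : G) • c = c := mem_stabilizer_iff.1 x.2
      rw [hxy, mul_smul, mul_smul] at h3
      rcases h.eq_or_eq_of_fix hgA hg1 (eq_inv_smul_iff.2 h3) with e | e
      · exact Or.inl (inv_smul_eq_iff.1 e).symm
      · exact Or.inr (inv_smul_eq_iff.1 e).symm
    -- an element of `G_c` carrying a torus element to `x`
    obtain ⟨k, y', hy'A, hy'1, hkc, hk⟩ : ∃ k y' : G, y' ∈ A ∧ y' ≠ 1 ∧ k • c = c ∧ k * y' * k⁻¹ = x := by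
      rcases hfx with e | e
      · exact ⟨g, y, hgA, hg1, e, hxy.symm⟩
      · refine ⟨g * t, y⁻¹, inv_mem hgA, inv_ne_one.2 hg1, by rw [mul_smul, htc, e], ?_⟩
        rw [show g * t * y⁻¹ * (g * t)⁻¹ = g * (t * y⁻¹ * t⁻¹) * g⁻¹ by group, hinv _ (inv_mem hgA),
          inv_inv, ← hxy]
    refine hy'1 (h.eq_one_of_fix hy'A (i := k⁻¹ * i.1.1 * k) ?_ ?_ ?_)
    · rw [show k⁻¹ * i.1.1 * k = k⁻¹ * i.1.1 * k⁻¹⁻¹ by rw [inv_inv], orderOf_conj', i.1.2.1]
    · rw [mul_smul, mul_smul, hkc, i.1.2.2, inv_smul_eq_iff, hkc]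
    · have h4 := hxi.map (MulAut.conj k⁻¹).toMonoidHom
      rw [← hk] at h4
      simpa [MulAut.conj_apply, mul_assoc] using h4
  rw [hzero, zero_mul, zero_mul]

end InvolFrame

end Cfsg.Lib.BenderSE
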