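/-
B1-B4 of notes/bender_secA_lead.md without block theory: a linear character `λ` of `C` whose non-kernel
is a TI set with normaliser `N`, moved by every element of `N` off `C`.  The induced function of `1 - λ`
gives three equations for the values at `v` of its constituents, and with `|N : C| = 2` one of them has
`v` in its kernel.
-/
import Cfsg.Agent.Chars.Core
import Cfsg.Agent.Chars.Sums
import Cfsg.Agent.Chars.Values
import Cfsg.Agent.Chars.TI

set_option autoImplicit false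
set_option linter.unusedSectionVars false
set_option linter.style.haveILetI false

namespace Cfsg.Lib.BenderSE.BlockTwo

open scoped ComplexConjugate
open Cfsg.Lib.Chars

universe u

variable {G : Type u} [Group G]

theorem sum_hom_mul_conj [Fintype G] [DecidableEq (G →* ℂˣ)] (mu nu : G →* ℂˣ) :
    ∑ a : G, (mu a : ℂ) * conj (nu a : ℂ) = if mu = nu then (Nat.card G : ℂ) else 0 := by
  have h := classInner_irrChar (isIrrCharacter_linear mu) (isIrrCharacter_linear nu)
  have hA : (Nat.card G : ℂ) ≠ 0 := by exact_mod_cast Nat.card_pos.ne'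
  have h2 : ((fun a : G => (mu a : ℂ)) = fun a : G => (nu a : ℂ)) ↔ mu = nu :=
    ⟨fun e => MonoidHom.ext fun a => Units.ext (congrFun e a), fun e => e ▸ rfl⟩
  rw [classInner_def, inv_mul_eq_iff_eq_mul₀ hA] at h
  rw [h]
  split_ifs <;> simp_all

/-- The hypotheses on `C ≤ N`, `λ` and `v`. -/
structure Data (C N : Subgroup G) (lam : C →* ℂˣ) (v : G) : Prop where
  le : C ≤ N
  norm : ∀ n ∈ N, ∀ x ∈ C, n * x * n⁻¹ ∈ C
  moved : ∀ n ∈ N, n ∉ C → ∃ x y : C, (y : G) = n * x * n⁻¹ ∧ lam y ≠ lam x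
  ne_one : lam ≠ 1
  ti : ∀ (g : G) (x y : C), (y : G) = g * x * g⁻¹ → lam x ≠ 1 → lam y ≠ 1 → g ∈ N
  notV : ∀ x : C, IsConj v (x : G) → lam x = 1
  noProd : ∀ s r : G, IsConj v s → IsConj v r → ∀ x : C, s * r = x → lam x = 1

/-- `1 - λ` -/
noncomputable def oneSub {C : Subgroup G} (lam : C →* ℂˣ) (x : C) : ℂ := 1 - (lam x : ℂ)

/-- The induced function. -/
noncomputable def indFn [Fintype G] {C : Subgroup G} (lam : C →* ℂˣ) : G → ℂ := Cfsg.indFun C (oneSub lam)

namespace Data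

variable {C N : Subgroup G} {lam : C →* ℂˣ} {v : G} (hD : Data C N lam v)
include hD

/-- `x ↦ λ(n x n⁻¹)` -/
def twist (n : N) : C →* ℂˣ where
  toFun x := lam ⟨(n : G) * x * (n : G)⁻¹, hD.norm n n.2 x x.2⟩
  map_one' := by
    refine (congrArg lam ?_).trans (map_one lam)
    exact Subtype.ext (by simp)
  map_mul' x y := by
    rw [← map_mul]
    exact congrArg lam (Subtype.ext (by simp [mul_assoc]))

theorem twist_apply (n : N) (x : C) :
    hD.twist n x = lam ⟨(n : G) * x * (n : G)⁻¹, hD.norm n n.2 x x.2⟩ := rfl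

theorem twist_eq_iff (n : N) : hD.twist n = lam ↔ (n : G) ∈ C := by
  constructor
  · intro e
    by_contra hn
    obtain ⟨x, y, hy, hne⟩ := hD.moved n n.2 hn
    refine hne ?_
    rw [show y = ⟨(n : G) * x * (n : G)⁻¹, hD.norm n n.2 x x.2⟩ from Subtype.ext hy]
    exact DFunLike.congr_fun e x
  · intro hn
    refine MonoidHom.ext fun x => ?_
    rw [twist_apply, show (⟨(n : G) * x * (n : G)⁻¹, hD.norm n n.2 x x.2⟩ : C) =
      ⟨n, hn⟩ * x * ⟨n, hn⟩⁻¹ from Subtype.ext rfl, map_mul, map_mul, map_inv,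
      mul_right_comm, mul_inv_cancel, one_mul]

theorem twist_ne_one (n : N) : hD.twist n ≠ 1 := fun e => hD.ne_one <| MonoidHom.ext fun x => by
  have h1 := DFunLike.congr_fun e
    ⟨(n : G)⁻¹ * x * (n : G), by simpa using hD.norm (n : G)⁻¹ (N.inv_mem n.2) x x.2⟩
  rw [twist_apply, MonoidHom.one_apply] at h1
  rw [MonoidHom.one_apply, ← h1]
  exact congrArg lam (Subtype.ext (by simp [mul_assoc]))

theorem f_eq_zero_iff (x : C) : (oneSub lam) x = 0 ↔ lam x = 1 := by
  unfold oneSub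
  rw [sub_eq_zero, eq_comm, ← Units.val_one, Units.val_inj]

variable [Fintype G]

theorem isGeneralized_F : Cfsg.IsGeneralizedCharacter G (indFn lam) :=
  IsGeneralizedCharacter.indFun ⟨_, _, isCharacter_linear (1 : C →* ℂˣ), isCharacter_linear lam,
    funext fun x => by simp [oneSub]⟩

theorem exists_of_F_ne_zero {g : G} (hg : (indFn lam) g ≠ 0) :
    ∃ (k : G) (x : C), (x : G) = k⁻¹ * g * k ∧ lam x ≠ 1 := by
  by_contra hc
  push Not at hc
  apply hg
  unfold indFn
  rw [indFun_apply, Finset.sum_eq_zero, mul_zero]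
  intro k _
  by_cases hk : k⁻¹ * g * k ∈ C
  · rw [extendByZero_mem _ hk, hD.f_eq_zero_iff]
    exact hc k ⟨_, hk⟩ rfl
  · exact extendByZero_not_mem _ hk

open scoped Classical in
/-- On the TI set the induced function only sees `N`. -/
theorem F_apply {x : C} (hx : lam x ≠ 1) :
    (indFn lam) x = (Nat.card C : ℂ)⁻¹ * ∑ n : N, (1 - (hD.twist n x : ℂ)) := by
  unfold indFn
  rw [indFun_apply]
  congr 1
  have e : ∀ g : G, Cfsg.extendByZero C (oneSub lam) (g⁻¹ * x * g) =
      if h : g ∈ N then 1 - (hD.twist ⟨g⁻¹, N.inv_mem h⟩ x : ℂ) else 0 := fun g => by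
    split_ifs with hg
    · have hm : g⁻¹ * x * g ∈ C := by simpa using hD.norm g⁻¹ (N.inv_mem hg) x x.2
      rw [extendByZero_mem _ hm, oneSub, twist_apply]
      congr 3
      exact Subtype.ext (by simp)
    · by_cases hm : g⁻¹ * x * g ∈ C
      · rw [extendByZero_mem _ hm, hD.f_eq_zero_iff]
        by_contra hy
        exact hg (inv_mem_iff.1 (hD.ti g⁻¹ x ⟨_, hm⟩ (by simp) hx hy))
      · exact extendByZero_not_mem _ hm
  rw [Finset.sum_congr rfl fun g _ => e g, ← Finset.sum_filter_add_sum_filter_not Finset.univ (· ∈ N),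
    Finset.sum_eq_zero (s := Finset.univ.filter (fun g => ¬ g ∈ N)) (fun g hg => by
      rw [dif_neg (Finset.mem_filter.1 hg).2]), add_zero,
    Finset.sum_subtype (p := (· ∈ N)) (Finset.univ.filter (fun g => g ∈ N)) (fun g => by simp)]
  refine Fintype.sum_equiv (Equiv.inv N) _ _ fun n => ?_
  rw [dif_pos n.2]
  rfl

theorem card_stab : Nat.card {n : N // (n : G) ∈ C} = Nat.card C :=
  Nat.card_congr
    { toFun := fun n => ⟨_, n.2⟩
      invFun := fun c => ⟨⟨c, hD.le c.2⟩, c.2⟩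
      left_inv := fun _ => rfl
      right_inv := fun _ => rfl }

theorem classInner_F : Cfsg.classInner (indFn lam) (indFn lam) = (C.relIndex N : ℂ) + 1 := by
  classical
  have hC : (Nat.card C : ℂ) ≠ 0 := by exact_mod_cast Nat.card_pos.ne'
  unfold indFn
  rw [frobenius_reciprocity _ _ (isClassFunction_indFun _ _), classInner_def,
    Finset.sum_congr rfl fun x _ => show (oneSub lam) x * conj (Cfsg.indFun C (oneSub lam) (x : G)) =
      (oneSub lam) x * ((Nat.card C : ℂ)⁻¹ * ∑ n : N, conj (1 - (hD.twist n x : ℂ))) from ?_]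
  rotate_left
  · by_cases hx : lam x = 1
    · rw [(hD.f_eq_zero_iff x).2 hx, zero_mul, zero_mul]
    · rw [show Cfsg.indFun C (oneSub lam) (x : G) = (indFn lam) x from rfl, hD.F_apply hx, map_mul, map_inv₀,
        Complex.conj_natCast, map_sum]
  have e : ∀ n : N, ∑ x : C, (oneSub lam) x * conj (1 - (hD.twist n x : ℂ)) =
      (Nat.card C : ℂ) + if (n : G) ∈ C then (Nat.card C : ℂ) else 0 := fun n => by
    have h1 := Cfsg.Lib.BenderSE.BlockTwo.sum_hom_mul_conj (1 : C →* ℂˣ) 1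
    have h2 := Cfsg.Lib.BenderSE.BlockTwo.sum_hom_mul_conj (1 : C →* ℂˣ) (hD.twist n)
    have h3 := Cfsg.Lib.BenderSE.BlockTwo.sum_hom_mul_conj lam (1 : C →* ℂˣ)
    have h4 := Cfsg.Lib.BenderSE.BlockTwo.sum_hom_mul_conj lam (hD.twist n)
    simp only [MonoidHom.one_apply, Units.val_one, map_one, one_mul, mul_one, if_true,
      (hD.twist_ne_one n).symm, hD.ne_one, if_false] at h1 h2 h3
    simp only [oneSub, map_sub, map_one, sub_mul, mul_sub, one_mul, mul_one, Finset.sum_sub_distrib]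
    rw [h1, h2, h3, h4]
    simp only [eq_comm (a := lam), hD.twist_eq_iff n]
    ring
  simp only [Finset.mul_sum, mul_left_comm (oneSub lam _)]
  rw [Finset.sum_comm]
  simp only [← Finset.mul_sum, e, Finset.sum_add_distrib, Finset.sum_const, Finset.card_univ,
    nsmul_eq_mul, ← Finset.sum_filter, ← Fintype.card_subtype]
  rw [← Nat.card_eq_fintype_card, ← Nat.card_eq_fintype_card, hD.card_stab,
    ← Subgroup.card_mul_index (C.subgroupOf N),
    Nat.card_congr (Subgroup.subgroupOfEquivOfLe hD.le).toEquiv, Subgroup.relIndex]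
  push_cast
  field_simp

theorem classInner_F_principal : Cfsg.classInner (indFn lam) (principal G : G → ℂ) = 1 := by
  classical
  unfold indFn
  rw [frobenius_reciprocity _ _ (isClassFunction_irr _), classInner_def]
  have h1 := Cfsg.Lib.BenderSE.BlockTwo.sum_hom_mul_conj (1 : C →* ℂˣ) 1
  have h2 := Cfsg.Lib.BenderSE.BlockTwo.sum_hom_mul_conj lam (1 : C →* ℂˣ)
  simp only [MonoidHom.one_apply, Units.val_one, map_one, mul_one, if_true, hD.ne_one, if_false] at h1 h2
  simp only [principal, oneSub, map_one, mul_one, Finset.sum_sub_distrib]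
  rw [h1, h2, sub_zero, inv_mul_cancel₀]
  exact_mod_cast Nat.card_pos.ne'

theorem F_one : (indFn lam) 1 = 0 := by
  unfold indFn
  rw [indFun_one]
  simp [oneSub]

theorem F_v : (indFn lam) v = 0 := by
  by_contra hv
  obtain ⟨k, x, hx, hne⟩ := hD.exists_of_F_ne_zero hv
  exact hne (hD.notV x (isConj_iff.2 ⟨k⁻¹, by rw [inv_inv, ← hx]⟩))

theorem F_mul_count (g : G) :
    (indFn lam) g * ∑ χ : Cfsg.IrrCharacter G, (χ : G → ℂ) v * (χ : G → ℂ) v * conj ((χ : G → ℂ) g) / (χ : G → ℂ) 1 = 0 := by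
  classical
  by_cases hg : (indFn lam) g = 0
  · rw [hg, zero_mul]
  obtain ⟨k, x, hx, hne⟩ := hD.exists_of_F_ne_zero hg
  have h := class_mult_formula v v g
  haveI : IsEmpty {p : G × G // IsConj v p.1 ∧ IsConj v p.2 ∧ p.1 * p.2 = g} := by
    refine ⟨fun ⟨⟨s, r⟩, h1, h2, h3⟩ => hne ?_⟩
    refine hD.noProd (k⁻¹ * s * k) (k⁻¹ * r * k) (h1.trans (isConj_iff.2 ⟨k⁻¹, by rw [inv_inv]⟩))
      (h2.trans (isConj_iff.2 ⟨k⁻¹, by rw [inv_inv]⟩)) x ?_
    rw [hx, ← h3]
    group
  rw [Nat.card_of_isEmpty, Nat.cast_zero, eq_comm, mul_eq_zero] at h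
  haveI : Nonempty {x : G // IsConj v x} := ⟨⟨v, IsConj.refl v⟩⟩
  rw [h.resolve_left (div_ne_zero (mul_ne_zero (Nat.cast_ne_zero.2 Nat.card_pos.ne')
    (Nat.cast_ne_zero.2 Nat.card_pos.ne')) (Nat.cast_ne_zero.2 Nat.card_pos.ne')), mul_zero]

/-- The constituents of the induced function and the three equations. -/
theorem equations : ∃ a : Cfsg.IrrCharacter G → ℤ, a (principal G) = 1 ∧
    ∑ χ, a χ * a χ = C.relIndex N + 1 ∧
    ∑ χ : Cfsg.IrrCharacter G, (a χ : ℂ) * (χ : G → ℂ) 1 = 0 ∧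
    ∑ χ : Cfsg.IrrCharacter G, (a χ : ℂ) * (χ : G → ℂ) v = 0 ∧
    ∑ χ : Cfsg.IrrCharacter G, (a χ : ℂ) * ((χ : G → ℂ) v * (χ : G → ℂ) v / (χ : G → ℂ) 1) = 0 := by
  classical
  obtain ⟨a, ha⟩ := exists_int_decomp hD.isGeneralized_F
  have hcoef : ∀ χ : Cfsg.IrrCharacter G, Cfsg.classInner (indFn lam) (χ : G → ℂ) = a χ := fun χ => by
    rw [ha, classInner_irrSum]
  refine ⟨a, ?_, ?_, ?_, ?_, ?_⟩
  · have := hD.classInner_F_principal
    rw [hcoef] at this
    exact_mod_cast this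
  · have := hD.classInner_F
    rw [ha, classInner_self_decomp] at this
    simp only [map_intCast] at this
    exact_mod_cast this
  · have := hD.F_one
    rw [ha] at this
    simpa [Finset.sum_apply] using this
  · have := hD.F_v
    rw [ha] at this
    simpa [Finset.sum_apply] using this
  · have hG : (Nat.card G : ℂ) ≠ 0 := by exact_mod_cast Nat.card_pos.ne'
    have h := Finset.sum_eq_zero (s := Finset.univ) fun g _ => hD.F_mul_count g
    simp only [Finset.mul_sum] at h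
    rw [Finset.sum_comm] at h
    have e : ∀ χ : Cfsg.IrrCharacter G,
        ∑ g : G, (indFn lam) g * ((χ : G → ℂ) v * (χ : G → ℂ) v * conj ((χ : G → ℂ) g) / (χ : G → ℂ) 1) =
          (Nat.card G : ℂ) * ((a χ : ℂ) * ((χ : G → ℂ) v * (χ : G → ℂ) v / (χ : G → ℂ) 1)) := fun χ => by
      rw [← hcoef χ, classInner_def, ← mul_assoc, ← mul_assoc, mul_inv_cancel₀ hG, one_mul, Finset.sum_mul]
      exact Finset.sum_congr rfl fun g _ => by ring
    rw [Finset.sum_congr rfl fun χ _ => e χ, ← Finset.mul_sum] at h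
    exact (mul_eq_zero.1 h).resolve_left hG

/-- With index two some nontrivial irreducible character has `v` in its kernel. -/
theorem exists_irr_ker (h2 : C.relIndex N = 2) :
    ∃ χ : Cfsg.IrrCharacter G, χ ≠ principal G ∧ (χ : G → ℂ) v = (χ : G → ℂ) 1 := by
  classical
  obtain ⟨a, ha, hsq, e1, e2, e3⟩ := hD.equations
  rw [h2] at hsq
  set S := (Finset.univ.erase (principal G)).filter (fun χ => a χ ≠ 0) with hS
  have hsub : ∀ χ ∈ S, χ ≠ principal G ∧ a χ ≠ 0 := fun χ hχ =>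
    ⟨(Finset.mem_erase.1 (Finset.mem_filter.1 hχ).1).1, (Finset.mem_filter.1 hχ).2⟩
  have hsplit : ∀ w : Cfsg.IrrCharacter G → ℂ,
      ∑ χ, (a χ : ℂ) * w χ = w (principal G) + ∑ χ ∈ S, (a χ : ℂ) * w χ := fun w => by
    rw [← Finset.add_sum_erase Finset.univ _ (Finset.mem_univ (principal G)), ha, Int.cast_one, one_mul,
      hS, Finset.sum_filter_of_ne]
    intro χ _ hne h0
    rw [h0, Int.cast_zero, zero_mul] at hne
    exact hne rfl
  have hcard : S.card ≤ 2 := by
    rw [← Finset.add_sum_erase Finset.univ _ (Finset.mem_univ (principal G)), ha] at hsq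
    have h3 : (S.card : ℤ) ≤ ∑ χ ∈ Finset.univ.erase (principal G), a χ * a χ := by
      rw [Finset.card_eq_sum_ones, Nat.cast_sum]
      refine le_trans (Finset.sum_le_sum fun χ hχ => ?_)
        (Finset.sum_le_sum_of_subset_of_nonneg (Finset.filter_subset _ _) fun _ _ _ => mul_self_nonneg _)
      rw [Nat.cast_one]
      exact mul_self_pos.2 (hsub χ hχ).2
    push_cast at hsq
    omega
  let d : Cfsg.IrrCharacter G → ℂ := fun χ => (χ : G → ℂ) 1
  let c : Cfsg.IrrCharacter G → ℂ := fun χ => (a χ : ℂ) * d χ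
  let x : Cfsg.IrrCharacter G → ℂ := fun χ => 1 - (χ : G → ℂ) v / d χ
  have hd : ∀ χ, d χ ≠ 0 := fun χ => IsIrrCharacter.apply_one_ne_zero χ.2
  have hp : x (principal G) = 0 ∧ c (principal G) = 1 := ⟨by simp [x, d, principal], by
    show (a (principal G) : ℂ) * 1 = 1
    rw [ha, Int.cast_one, one_mul]⟩
  have k0 : ∑ χ ∈ S, c χ = -1 := by
    have := hsplit d
    rw [e1, show d (principal G) = 1 from rfl] at this
    linear_combination -this
  have k1 : ∑ χ ∈ S, c χ * x χ = 0 := by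
    have := hsplit fun χ => d χ * x χ
    rw [hp.1, mul_zero, zero_add] at this
    rw [Finset.sum_congr rfl fun χ _ => show c χ * x χ = (a χ : ℂ) * (d χ * x χ) by simp only [c]; ring, ← this,
      Finset.sum_congr rfl fun χ _ => show (a χ : ℂ) * (d χ * x χ) =
        (a χ : ℂ) * (χ : G → ℂ) 1 - (a χ : ℂ) * (χ : G → ℂ) v by
          rw [← mul_sub]; congr 1
          simp only [x, d]
          rw [mul_sub, mul_one, mul_div_cancel₀ _ (hd χ)],
      Finset.sum_sub_distrib, e1, e2, sub_zero]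
  have k2 : ∑ χ ∈ S, c χ * (x χ * x χ) = 0 := by
    have := hsplit fun χ => d χ * (x χ * x χ)
    rw [hp.1, mul_zero, mul_zero, zero_add] at this
    rw [Finset.sum_congr rfl fun χ _ =>
      show c χ * (x χ * x χ) = (a χ : ℂ) * (d χ * (x χ * x χ)) by simp only [c]; ring, ← this,
      Finset.sum_congr rfl fun χ _ => show (a χ : ℂ) * (d χ * (x χ * x χ)) =
        (a χ : ℂ) * (χ : G → ℂ) 1 - 2 * ((a χ : ℂ) * (χ : G → ℂ) v) +
          (a χ : ℂ) * ((χ : G → ℂ) v * (χ : G → ℂ) v / (χ : G → ℂ) 1) by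
          have hdd : (χ : G → ℂ) 1 * ((χ : G → ℂ) 1)⁻¹ = 1 := mul_inv_cancel₀ (hd χ)
          simp only [x, d, div_eq_mul_inv]
          linear_combination ((a χ : ℂ) * (χ : G → ℂ) v * (χ : G → ℂ) v * ((χ : G → ℂ) 1)⁻¹ -
            2 * (a χ : ℂ) * (χ : G → ℂ) v) * hdd,
      Finset.sum_add_distrib, Finset.sum_sub_distrib, ← Finset.mul_sum, e1, e2, e3]
    ring
  suffices h : ∃ χ ∈ S, x χ = 0 by
    obtain ⟨χ, hχ, hx⟩ := h
    refine ⟨χ, (hsub χ hχ).1, ?_⟩
    have h4 := (sub_eq_zero.1 hx).symm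
    rwa [div_eq_one_iff_eq (hd χ)] at h4
  have hc : ∀ χ ∈ S, c χ ≠ 0 := fun χ hχ => mul_ne_zero (Int.cast_ne_zero.2 (hsub χ hχ).2) (hd χ)
  interval_cases hn : S.card
  · rw [Finset.card_eq_zero.1 hn] at k0
    simp at k0
  · obtain ⟨χ, hχ⟩ := Finset.card_eq_one.1 hn
    rw [hχ, Finset.sum_singleton] at k1
    exact ⟨χ, by simp [hχ], (mul_eq_zero.1 k1).resolve_left (hc χ (by simp [hχ]))⟩
  · obtain ⟨χ, ψ, hne, hχ⟩ := Finset.card_eq_two.1 hn
    rw [hχ, Finset.sum_pair hne] at k0 k1 k2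
    refine ⟨χ, by simp [hχ], ?_⟩
    have e : c χ * x χ * (x χ - x ψ) = 0 := by linear_combination k2 - x ψ * k1
    rcases mul_eq_zero.1 e with h | h
    · exact (mul_eq_zero.1 h).resolve_left (hc χ (by simp [hχ]))
    · rw [← sub_eq_zero.1 h] at k1
      linear_combination -k1 + x χ * k0

/-- So the configuration does not occur in a simple group. -/
theorem eq_one_of_isSimpleGroup [IsSimpleGroup G] (h2 : C.relIndex N = 2) : v = 1 := by
  classical
  obtain ⟨χ, hne, hv⟩ := hD.exists_irr_ker h2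
  have hχ := isCharacter_of_irr χ.2
  rcases IsSimpleGroup.eq_bot_or_eq_top_of_normal _ (kerSubgroup_normal hχ) with h | h
  · rw [← Subgroup.mem_bot, ← h]
    exact hv
  · exfalso
    have hall : ∀ g, (χ : G → ℂ) g = (χ : G → ℂ) 1 := fun g => by
      rw [← mem_kerSubgroup hχ, h]
      trivial
    have h0 := classInner_irr_ne hne
    rw [classInner_def, Finset.sum_congr rfl fun g _ => show (χ : G → ℂ) g *
      conj ((principal G : G → ℂ) g) = (χ : G → ℂ) 1 by rw [hall g]; simp [principal],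
      Finset.sum_const, Finset.card_univ, nsmul_eq_mul, ← Nat.card_eq_fintype_card, ← mul_assoc,
      inv_mul_cancel₀ (by exact_mod_cast Nat.card_pos.ne'), one_mul] at h0
    exact IsIrrCharacter.apply_one_ne_zero χ.2 h0

end Data

/-- A group `P` of prime order `s`, split off in its centraliser, none of whose singular elements is a
product of two involutions, is not inverted by index two in a simple group with an involution. -/
theorem relIndex_centralizer_ne_two [IsSimpleGroup G] [Finite G] {s : ℕ} (hs : s.Prime) (hs2 : s ≠ 2) {P : Subgroup G}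
    (hP : Nat.card P = s) (hsplit : ¬ s ∣ P.relIndex (Subgroup.centralizer (P : Set G)))
    (hB1 : ∀ a b : G, orderOf a = 2 → orderOf b = 2 → ¬ s ∣ orderOf (a * b)) {v : G} (hv : orderOf v = 2) :
    (Subgroup.centralizer (P : Set G)).relIndex (Subgroup.normalizer (P : Set G)) ≠ 2 := by
  classical
  intro h2
  have := Fintype.ofFinite G
  set C := Subgroup.centralizer (P : Set G) with hC
  set Q := P.subgroupOf C with hQ
  set m := Q.index with hm
  haveI := Fact.mk hs
  haveI : IsCyclic P := isCyclic_of_prime_card hP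
  have hPC : P ≤ C := by
    intro x hx
    rw [hC, Subgroup.mem_centralizer_iff]
    intro y hy
    obtain ⟨g, hg⟩ := IsCyclic.exists_generator (α := P)
    obtain ⟨i, hi⟩ := Subgroup.mem_zpowers_iff.1 (hg ⟨x, hx⟩)
    obtain ⟨j, hj⟩ := Subgroup.mem_zpowers_iff.1 (hg ⟨y, hy⟩)
    exact congrArg Subtype.val (show (⟨y, hy⟩ : P) * ⟨x, hx⟩ = ⟨x, hx⟩ * ⟨y, hy⟩ by
      rw [← hi, ← hj, ← zpow_add, ← zpow_add, add_comm])
  have hQc : Nat.card Q = s := by rw [hQ, Nat.card_congr (Subgroup.subgroupOfEquivOfLe hPC).toEquiv, hP]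
  haveI : IsCyclic Q := isCyclic_of_prime_card hQc
  letI : CommGroup Q := IsCyclic.commGroup
  obtain ⟨q₀, hq₀⟩ : ∃ q : Q, q ≠ 1 := by
    haveI : Nontrivial Q := Finite.one_lt_card_iff_nontrivial.1 (hQc ▸ hs.one_lt)
    exact exists_ne 1
  haveI : NeZero (Monoid.exponent Q) := ⟨Monoid.exponent_ne_zero_of_finite⟩
  obtain ⟨ψ, hψ⟩ := CommGroup.exists_apply_ne_one_of_hasEnoughRootsOfUnity (M := ℂ) (G := Q) (a := q₀) hq₀
  have hψi : ∀ a : Q, ψ a = 1 → a = 1 := fun a ha => by
    by_contra hne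
    have h1 : Subgroup.zpowers a = ⊤ := zpowers_eq_top_of_prime_card hQc hne
    have h3 : q₀ ∈ Subgroup.zpowers a := h1 ▸ Subgroup.mem_top q₀
    obtain ⟨i, hi⟩ := Subgroup.mem_zpowers_iff.1 h3
    exact hψ (by rw [← hi, map_zpow, ha, one_zpow])
  have hcen : ∀ (c : C) (p : C), (p : G) ∈ P → c⁻¹ * p * c = p := fun c p hp => by
    have h1 : (p : G) * (c : G) = (c : G) * (p : G) := Subgroup.mem_centralizer_iff.1 c.2 _ hp
    exact Subtype.ext (by simp [mul_assoc, h1])
  have key : ∀ (x : C) (k : ℕ) (g₀ : C), g₀⁻¹ * x ^ k * g₀ ∈ Q → g₀⁻¹ * x ^ k * g₀ = x ^ k :=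
    fun x k g₀ hk => by
      have h1 := hcen g₀⁻¹ (g₀⁻¹ * x ^ k * g₀) hk
      rw [← h1]
      group
  let lam : C →* ℂˣ := MonoidHom.transfer ψ
  have hlam : ∀ x : C, ∃ q : Q, (q : C) = x ^ m ∧ lam x = ψ q := fun x =>
    ⟨⟨x ^ m, MonoidHom.transfer_eq_pow_aux x (key x)⟩, rfl, MonoidHom.transfer_eq_pow ψ x (key x)⟩
  have hlam1 : ∀ x : C, lam x ≠ 1 → x ^ m ≠ 1 := fun x hx he => by
    obtain ⟨q, hq, hqx⟩ := hlam x
    rw [he, ← Subgroup.coe_one, Subtype.coe_inj] at hq
    exact hx (by rw [hqx, hq, map_one])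
  have hdvd : ∀ x : C, lam x ≠ 1 → s ∣ orderOf (x : G) := fun x hx => by
    obtain ⟨q, hq, hqx⟩ := hlam x
    have h1 : orderOf q = s := by
      have := orderOf_dvd_natCard q
      rw [hQc] at this
      refine (hs.eq_one_or_self_of_dvd _ this).resolve_left fun h => hlam1 x hx ?_
      rw [← hq, orderOf_eq_one_iff.1 h, Subgroup.coe_one]
    rw [Subgroup.orderOf_coe, ← h1, ← Subgroup.orderOf_coe, hq]
    exact orderOf_pow_dvd m
  have hmem : ∀ x : C, ((x ^ m : C) : G) ∈ P := fun x => MonoidHom.transfer_eq_pow_aux x (key x)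
  have hgen : ∀ x : C, lam x ≠ 1 → Subgroup.zpowers ((x : G) ^ m) = P := fun x hx => by
    refine Subgroup.eq_of_le_of_card_ge (Subgroup.zpowers_le.2 (by simpa using hmem x)) ?_
    have h1 : orderOf ((x : G) ^ m) ∣ Nat.card P := by
      have h0 : (x : G) ^ m ∈ P := by simpa using hmem x
      rw [show orderOf ((x : G) ^ m) = orderOf (⟨_, h0⟩ : P) from Subgroup.orderOf_coe (⟨_, h0⟩ : P)]
      exact orderOf_dvd_natCard _
    rw [hP] at h1 ⊢
    rw [Nat.card_zpowers, (hs.eq_one_or_self_of_dvd _ h1).resolve_left fun h =>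
      hlam1 x hx (Subtype.ext (by simpa using orderOf_eq_one_iff.1 h))]
  obtain ⟨p₀, hp₀⟩ : ∃ p : C, (p : G) ∈ P ∧ p ≠ 1 :=
    ⟨q₀.1, q₀.2, fun e => hq₀ (Subtype.ext e)⟩
  have hpm : ∀ p : C, (p : G) ∈ P → p ^ m = 1 → p = 1 := fun p hp he => by
    have hs' : orderOf p ∣ s := by
      have := orderOf_dvd_natCard (⟨p, hp⟩ : Q)
      rwa [hQc, ← Subgroup.orderOf_coe] at this
    exact orderOf_eq_one_iff.1 (Nat.eq_one_of_dvd_coprimes (a := s) (b := m)
      (hs.coprime_iff_not_dvd.2 hsplit) hs' (orderOf_dvd_of_pow_eq_one he))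
  have hlp : ∀ p : C, (p : G) ∈ P → lam p = 1 → p = 1 := fun p hp h => by
    obtain ⟨q, hq, hqx⟩ := hlam p
    exact hpm p hp (by rw [← hq, hψi q (hqx ▸ h), Subgroup.coe_one])
  refine absurd (a := v = 1) ?_ ?_
  swap
  · rintro rfl
    simp at hv
  · refine Data.eq_one_of_isSimpleGroup (C := C) (N := Subgroup.normalizer (P : Set G)) (lam := lam) ?_ h2
    refine ⟨Subgroup.centralizer_le_normalizer _, fun n hn x hx => ?_, fun n hn hnC => ?_, fun e => ?_,
      fun g x y hy hx hy' => ?_, fun x hx => ?_, fun a b ha hb x hx => ?_⟩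
    · rw [hC, Subgroup.mem_centralizer_iff] at hx ⊢
      intro p hp
      have h1 := hx _ ((Subgroup.mem_normalizer_iff''.1 hn p).1 hp)
      calc p * (n * x * n⁻¹) = n * (n⁻¹ * p * n * x) * n⁻¹ := by group
        _ = n * (x * (n⁻¹ * p * n)) * n⁻¹ := by rw [h1]
        _ = n * x * n⁻¹ * p := by group
    · obtain ⟨p, hp, hne⟩ : ∃ p ∈ P, n * p * n⁻¹ ≠ p := by
        by_contra hc
        push Not at hc
        refine hnC (Subgroup.mem_centralizer_iff.2 fun p hp => ?_)
        nth_rewrite 1 [← hc p hp]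
        group
      have hp' := (Subgroup.mem_normalizer_iff.1 hn p).1 hp
      refine ⟨⟨p, hPC hp⟩, ⟨_, hPC hp'⟩, rfl, fun e => hne ?_⟩
      have h1 := hlp (⟨_, hPC hp'⟩ * ⟨p, hPC hp⟩⁻¹) (P.mul_mem hp' (P.inv_mem hp))
        (by rw [map_mul, map_inv, e, mul_inv_cancel])
      exact mul_inv_eq_one.1 (congrArg Subtype.val h1)
    · exact hp₀.2 (hlp p₀ hp₀.1 (by rw [e]; rfl))
    · refine Subgroup.mem_normalizer_iff''.2 fun p => ?_
      have h3 : P.map (MulAut.conj g).toMonoidHom = P := by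
        conv_lhs => rw [← hgen x hx]
        rw [MonoidHom.map_zpowers, map_pow]
        conv_rhs => rw [← hgen y hy']
        rw [hy]
        rfl
      constructor
      · intro hp
        rw [← h3] at hp
        obtain ⟨p', hp', e'⟩ := hp
        rw [← e']
        simpa [mul_assoc] using hp'
      · intro hp
        rw [← h3]
        exact ⟨_, hp, by simp [mul_assoc]⟩
    · by_contra hne
      obtain ⟨k, hk⟩ := isConj_iff.1 hx
      have h1 := hdvd x hne
      rw [← hk, show orderOf (k * v * k⁻¹) = orderOf v from MulEquiv.orderOf_eq (MulAut.conj k) v, hv] at h1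
      exact hs2 ((Nat.prime_dvd_prime_iff_eq hs Nat.prime_two).1 h1)
    · by_contra e
      obtain ⟨k, hk⟩ := isConj_iff.1 ha
      obtain ⟨l, hl⟩ := isConj_iff.1 hb
      exact hB1 a b (by rw [← hk, ← hv]; exact MulEquiv.orderOf_eq (MulAut.conj k) v)
        (by rw [← hl, ← hv]; exact MulEquiv.orderOf_eq (MulAut.conj l) v) (hx ▸ hdvd x e)

end Cfsg.Lib.BenderSE.BlockTwo
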