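/-
Step 7 of notes/bender_reg_h7.md composed: the character kill gives `SevenStep`, hence, with COMM, the
regular normal subgroup in every simple group.
-/
import Cfsg.Agent.BenderSE.Reg.Induction
import Cfsg.Agent.BenderSE.Reg.Dichotomy

set_option autoImplicit false
set_option linter.unusedSectionVars false

namespace Cfsg.Lib.BenderSE

open scoped ComplexConjugate

universe u

/-- THE KILL: the configuration of step 7 has no character of degree `m - 1` with `U` in its kernel
and value `-1` on the torus -/
def KillStep : Prop :=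
  ∀ (S : Type u) [Group S] [Finite S], IsSimpleGroup S →
    ∀ (K : Subgroup S) [Fintype K] (a : S ⧸ K) (s : ℕ) (A P : Subgroup S), StepSeven K a s A P →
      ∀ θ : K → ℂ, Cfsg.IsIrrCharacter K θ → Cfsg.classInner θ (fun _ => 1) = 0 →
        (∀ x, conj (θ x) = θ x) →
        (∀ u : K, (u : S) ∈ invGroup S (QuotientGroup.mk 1 : S ⧸ K) → θ u = (invCount K : ℂ) - 1) →
        (∀ x : K, (x : S) ∈ A → x ≠ 1 → θ x = -1) → False

/-- step 7 from the kill -/
theorem sevenStep_of_kill (kill : KillStep.{u}) : SevenStep.{u} := by
  intro S _ _ hsimple _ K a s A P h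
  classical
  haveI := Fintype.ofFinite K
  rcases h.hasRegular_or_theta with hr | ⟨θ, h1, h2, h3, h4, h5⟩
  · exact hr
  · exact (kill S hsimple K a s A P h θ h1 h2 h3 h4 h5).elim

/-- REG from COMM and the kill -/
theorem regProp_of_kill (step : CommStepReg.{u}) (kill : KillStep.{u}) : RegProp.{u} :=
  regProp_of_steps step (sevenStep_of_kill kill)

end Cfsg.Lib.BenderSE
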